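import Mathlib

/-! Invariant subspaces of an endomorphism with a prime power equal to the identity. -/

set_option autoImplicit false

namespace Cfsg.Agent.Lib.Elusive

open Module

variable {F : Type*} [Field F] {V : Type*} [AddCommGroup V] [Module F V] {r : ℕ}
  {y : Module.End F V}

/-- Stability of a subspace. -/
def Inv (y : Module.End F V) (U : Submodule F V) : Prop := ∀ v ∈ U, y v ∈ U

theorem inv_iff_map_le (y : Module.End F V) (U : Submodule F V) : Inv y U ↔ U.map y ≤ U := by
  rw [Submodule.map_le_iff_le_comap]; rfl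

theorem inv_pow {U : Submodule F V} (hU : Inv y U) (k : ℕ) : Inv (y ^ k) U := by
  induction k with
  | zero => intro v hv; simpa using hv
  | succ k ih => intro v hv; rw [pow_succ', Module.End.mul_apply]; exact hU _ (ih v hv)

/-- The average of the powers of `y`. -/
noncomputable def avg (y : Module.End F V) (r : ℕ) : Module.End F V :=
  (r : F)⁻¹ • ∑ k ∈ Finset.range r, y ^ k

/-- The fixed space. -/
def fix1 (y : Module.End F V) : Submodule F V := LinearMap.ker (y - 1)

theorem mem_fix1 {v : V} : v ∈ fix1 y ↔ y v = v := by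
  simp [fix1, LinearMap.mem_ker, sub_eq_zero]

theorem mul_avg (hy : y ^ r = 1) : y * avg y r = avg y r := by
  rw [avg, mul_smul_comm, Finset.mul_sum]
  congr 1
  have h1 := Finset.sum_range_succ (fun k => y ^ k) r
  rw [Finset.sum_range_succ'] at h1
  simp only [pow_zero, hy, add_left_inj] at h1
  simp_rw [← pow_succ']
  exact h1

theorem avg_apply (v : V) : avg y r v = (r : F)⁻¹ • ∑ k ∈ Finset.range r, (y ^ k) v := by
  simp [avg]

theorem avg_mem_fix1 (hy : y ^ r = 1) (v : V) : avg y r v ∈ fix1 y :=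
  mem_fix1.2 (by rw [← Module.End.mul_apply, mul_avg hy])

theorem avg_of_fixed (hr : (r : F) ≠ 0) {v : V} (hv : y v = v) : avg y r v = v := by
  have hk : ∀ k, (y ^ k) v = v := fun k => by
    induction k with
    | zero => simp
    | succ k ih => rw [pow_succ, Module.End.mul_apply, hv, ih]
  rw [avg_apply, Finset.sum_congr rfl (fun k _ => hk k), Finset.sum_const, Finset.card_range,
    ← Nat.cast_smul_eq_nsmul F, smul_smul, inv_mul_cancel₀ hr, one_smul]

theorem avg_mem {U : Submodule F V} (hU : Inv y U) {v : V} (hv : v ∈ U) : avg y r v ∈ U := by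
  rw [avg_apply]
  exact U.smul_mem _ (U.sum_mem fun k _ => inv_pow hU k v hv)

theorem commute_avg : Commute y (avg y r) :=
  Commute.smul_right (Commute.sum_right _ _ _ fun k _ => (Commute.refl y).pow_right k) _

theorem inv_ker_avg : Inv y (LinearMap.ker (avg y r)) := fun v hv => by
  rw [LinearMap.mem_ker] at hv ⊢
  rw [← Module.End.mul_apply, ← commute_avg.eq, Module.End.mul_apply, hv, map_zero]

theorem inv_fix1 : Inv y (fix1 y) := fun v hv => by
  rw [mem_fix1] at hv ⊢; rw [hv]; exact hv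

theorem inv_of_le_fix1 {U : Submodule F V} (h : U ≤ fix1 y) : Inv y U := fun v hv => by
  rw [mem_fix1.1 (h hv)]; exact hv

theorem inv_sup {U W : Submodule F V} (hU : Inv y U) (hW : Inv y W) : Inv y (U ⊔ W) := fun v hv => by
  obtain ⟨a, ha, b, hb, rfl⟩ := Submodule.mem_sup.1 hv
  rw [map_add]
  exact Submodule.add_mem_sup (hU a ha) (hW b hb)

theorem fix1_inf_ker_avg (hr : (r : F) ≠ 0) : fix1 y ⊓ LinearMap.ker (avg y r) = ⊥ := by
  rw [eq_bot_iff]
  rintro v ⟨h1, h2⟩
  rw [Submodule.mem_bot, ← avg_of_fixed hr (mem_fix1.1 h1)]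
  exact h2

theorem inf_sup_inf_of_inv (hy : y ^ r = 1) (hr : (r : F) ≠ 0) {W : Submodule F V} (hW : Inv y W) :
    (W ⊓ fix1 y) ⊔ (W ⊓ LinearMap.ker (avg y r)) = W := by
  refine le_antisymm (sup_le inf_le_left inf_le_left) fun v hv => ?_
  have h1 : avg y r v ∈ W ⊓ fix1 y := ⟨avg_mem hW hv, avg_mem_fix1 hy v⟩
  have h2 : v - avg y r v ∈ W ⊓ LinearMap.ker (avg y r) :=
    ⟨W.sub_mem hv (avg_mem hW hv), by
      rw [SetLike.mem_coe, LinearMap.mem_ker, map_sub,
        avg_of_fixed hr (mem_fix1.1 (avg_mem_fix1 hy v)), sub_self]⟩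
  simpa using Submodule.add_mem_sup h1 h2

theorem finrank_of_inv [FiniteDimensional F V] (hy : y ^ r = 1) (hr : (r : F) ≠ 0) {W : Submodule F V}
    (hW : Inv y W) :
    finrank F ↥W = finrank F ↥(W ⊓ fix1 y) + finrank F ↥(W ⊓ LinearMap.ker (avg y r)) := by
  have h := Submodule.finrank_sup_add_finrank_inf_eq (W ⊓ fix1 y) (W ⊓ LinearMap.ker (avg y r))
  have h0 : (W ⊓ fix1 y) ⊓ (W ⊓ LinearMap.ker (avg y r)) = ⊥ :=
    le_bot_iff.1 ((inf_le_inf inf_le_right inf_le_right).trans (fix1_inf_ker_avg hr).le)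
  rw [inf_sup_inf_of_inv hy hr hW, h0, finrank_bot, add_zero] at h
  exact h

/-- An irreducible endomorphism of order `r` has dimension `ord_r q`. -/
theorem finrank_of_irreducible [Fintype F] [Finite V] [Nontrivial V] (hr : r.Prime) (hrF : (r : F) ≠ 0)
    (hy : y ^ r = 1) (hfix : ∀ v : V, y v = v → v = 0)
    (hirr : ∀ U : Submodule F V, Inv y U → U = ⊥ ∨ U = ⊤) :
    finrank F V = orderOf (Fintype.card F : ZMod r) := by
  classical
  haveI : Fact r.Prime := ⟨hr⟩
  obtain ⟨p, hp⟩ := CharP.exists F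
  haveI : Fact p.Prime := ⟨CharP.char_is_prime F p⟩
  haveI : ExpChar F p := ExpChar.prime (Fact.out : p.Prime)
  obtain ⟨kk, -, hkk⟩ := FiniteField.card F p
  set i := orderOf (Fintype.card F : ZMod r) with hi
  have hr0 : 0 < r := hr.pos
  -- free action of a group of order `r`
  let u : (Module.End F V)ˣ := Units.ofPowEqOne y r hy hr.ne_zero
  have hu : ∀ v : V, u • v = y v := fun v => rfl
  have hG : IsPGroup r (Subgroup.zpowers u) := by
    refine IsPGroup.of_card (n := 1) ?_
    rw [pow_one, Nat.card_zpowers]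
    refine orderOf_eq_prime (Units.pow_ofPowEqOne hy hr.ne_zero) fun h => ?_
    obtain ⟨v, hv⟩ := exists_ne (0 : V)
    exact hv (hfix v (by rw [show y = 1 from congrArg Units.val h]; rfl))
  have hmod := hG.card_modEq_card_fixedPoints V
  have hfp : Nat.card (MulAction.fixedPoints (Subgroup.zpowers u) V) = 1 := by
    rw [Nat.card_coe_set_eq, Set.ncard_eq_one]
    refine ⟨0, Set.ext fun v => ⟨fun h => hfix v ?_, fun h g => ?_⟩⟩
    · exact (hu v).symm.trans (h ⟨u, Subgroup.mem_zpowers u⟩)
    · rw [Set.mem_singleton_iff.1 h]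
      exact map_zero ((g : (Module.End F V)ˣ) : Module.End F V)
  have hcardV : Nat.card V = Fintype.card F ^ finrank F V := by
    rw [Module.natCard_eq_pow_finrank (K := F), Nat.card_eq_fintype_card]
  rw [hfp, hcardV] at hmod
  have hqd : (Fintype.card F : ZMod r) ^ finrank F V = 1 := by
    have := (ZMod.natCast_eq_natCast_iff _ _ r).2 hmod
    simpa using this
  have hdvd : i ∣ finrank F V := orderOf_dvd_of_pow_eq_one hqd
  have hdpos : 0 < finrank F V := finrank_pos
  have hipos : 0 < i := Nat.pos_of_ne_zero fun h => by rw [h] at hdvd; simp at hdvd; omega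
  have hqi : (Fintype.card F : ZMod r) ^ i = 1 := pow_orderOf_eq_one _
  have hyfix : y ^ Fintype.card F ^ i = y := by
    have h1 : Fintype.card F ^ i % r = 1 % r := by
      rw [← ZMod.natCast_eq_natCast_iff']; simpa using hqi
    rw [Nat.one_mod_eq_one.2 hr.ne_one] at h1
    rw [pow_eq_pow_mod _ hy, h1, pow_one]
  let A : Subalgebra F (Module.End F V) := Algebra.adjoin F {y}
  have hcomm : ∀ a ∈ A, ∀ b ∈ A, a * b = b * a := by
    intro a ha b hb
    have h1 : ∀ z ∈ A, z * y = y * z := by
      intro z hz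
      induction hz using Algebra.adjoin_induction with
      | mem w hw => rw [Set.mem_singleton_iff.1 hw]
      | algebraMap c => exact Algebra.commutes c _
      | add s t _ _ hs ht => rw [add_mul, mul_add, hs, ht]
      | mul s t _ _ hs ht => rw [mul_assoc, ht, ← mul_assoc, hs, mul_assoc]
    induction hb using Algebra.adjoin_induction with
    | mem w hw => rw [Set.mem_singleton_iff.1 hw]; exact h1 a ha
    | algebraMap c => exact (Algebra.commutes c _).symm
    | add s t _ _ hs ht => rw [add_mul, mul_add, hs, ht]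
    | mul s t _ _ hs ht => rw [← mul_assoc, hs, mul_assoc, ht, ← mul_assoc]
  haveI : CharP (Module.End F V) p :=
    charP_of_injective_algebraMap (algebraMap F (Module.End F V)).injective p
  have hpow : Fintype.card F ^ i = p ^ ((kk : ℕ) * i) := by rw [hkk, ← pow_mul]
  have hA : ∀ a ∈ A, a ^ (Fintype.card F ^ i) = a := by
    intro a ha
    induction ha using Algebra.adjoin_induction with
    | mem w hw => rw [Set.mem_singleton_iff.1 hw]; exact hyfix
    | algebraMap c => rw [← map_pow, FiniteField.pow_card_pow]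
    | add s t hs' ht' hs ht =>
      rw [hpow] at hs ht ⊢
      rw [add_pow_expChar_pow_of_commute (R := Module.End F V) p _ (hcomm s hs' t ht'), hs, ht]
    | mul s t hs' ht' hs ht => rw [Commute.mul_pow (hcomm s hs' t ht'), hs, ht]
  have hinj : ∀ a ∈ A, a ≠ 0 → ∀ v, a v = 0 → v = 0 := by
    intro a ha ha0 v hv
    rcases hirr (LinearMap.ker a) (fun w hw => by
      rw [LinearMap.mem_ker] at hw ⊢
      rw [← Module.End.mul_apply, hcomm a ha y (Algebra.subset_adjoin rfl), Module.End.mul_apply,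
        hw, map_zero]) with h | h
    · exact (Submodule.mem_bot F).1 (h ▸ LinearMap.mem_ker.2 hv)
    · exact absurd (LinearMap.ker_eq_top.1 h) ha0
  letI : CommRing A :=
    { (inferInstance : Ring A) with mul_comm := fun a b => Subtype.ext (hcomm a a.2 b b.2) }
  haveI : Nontrivial A := ⟨⟨0, 1, fun h => zero_ne_one (congrArg Subtype.val h)⟩⟩
  haveI : NoZeroDivisors A := ⟨fun {a b} hab => by
    by_cases ha : a = 0
    · exact Or.inl ha
    · refine Or.inr (Subtype.ext (LinearMap.ext fun v => ?_))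
      exact hinj a a.2 (fun h => ha (Subtype.ext h)) _ (LinearMap.congr_fun (congrArg Subtype.val hab) v)⟩
  haveI : IsDomain A := NoZeroDivisors.to_isDomain A
  haveI : Finite A := Finite.of_injective (fun a : A => ⇑(a : Module.End F V))
    fun a b h => Subtype.ext (DFunLike.coe_injective h)
  haveI : Fintype A := Fintype.ofFinite _
  have hle : Fintype.card A ≤ Fintype.card F ^ i := by
    have hN : 1 < Fintype.card F ^ i := Nat.one_lt_pow hipos.ne' Fintype.one_lt_card
    have hdeg : (Polynomial.X ^ Fintype.card F ^ i - Polynomial.X : Polynomial A).natDegree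
        = Fintype.card F ^ i := by
      rw [Polynomial.natDegree_sub_eq_left_of_natDegree_lt
        (by rw [Polynomial.natDegree_X, Polynomial.natDegree_X_pow]; exact hN), Polynomial.natDegree_X_pow]
    have hne : (Polynomial.X ^ Fintype.card F ^ i - Polynomial.X : Polynomial A) ≠ 0 := fun h => by
      rw [h, Polynomial.natDegree_zero] at hdeg; omega
    have hsub : (Finset.univ : Finset A) ⊆
        (Polynomial.X ^ Fintype.card F ^ i - Polynomial.X : Polynomial A).roots.toFinset := by
      intro a _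
      rw [Multiset.mem_toFinset, Polynomial.mem_roots hne]
      simp only [Polynomial.IsRoot, Polynomial.eval_sub, Polynomial.eval_pow, Polynomial.eval_X, sub_eq_zero]
      exact Subtype.ext (by rw [SubmonoidClass.coe_pow]; exact hA a a.2)
    calc Fintype.card A ≤ _ := Finset.card_le_card hsub
      _ ≤ _ := Multiset.toFinset_card_le _
      _ ≤ _ := Polynomial.card_roots' _
      _ = _ := hdeg
  obtain ⟨v, hv⟩ := exists_ne (0 : V)
  let ev : A →ₗ[F] V := (LinearMap.applyₗ v).comp A.val.toLinearMap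
  have hsurj : Function.Surjective ev := by
    rcases hirr (LinearMap.range ev) (fun w hw => by
      obtain ⟨a, rfl⟩ := hw
      exact ⟨⟨y, Algebra.subset_adjoin rfl⟩ * a, rfl⟩) with h | h
    · exact absurd ((Submodule.mem_bot F).1 (h ▸ ⟨1, rfl⟩ : v ∈ (⊥ : Submodule F V))) hv
    · exact LinearMap.range_eq_top.1 h
  have hVle : Fintype.card F ^ finrank F V ≤ Fintype.card F ^ i := by
    rw [← hcardV]
    refine (Nat.card_le_card_of_surjective ev hsurj).trans ?_
    rwa [Nat.card_eq_fintype_card]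
  exact le_antisymm ((Nat.pow_le_pow_iff_right Fintype.one_lt_card).1 hVle) (Nat.le_of_dvd hdpos hdvd)

variable [Fintype F] [Finite V]

theorem exists_step (hr : r.Prime) (hrF : (r : F) ≠ 0) (hy : y ^ r = 1) {U T : Submodule F V}
    (hT : Inv y T) (hTR : T ≤ LinearMap.ker (avg y r)) (hU : Inv y U) (hlt : U < T) :
    ∃ U', Inv y U' ∧ U < U' ∧ U' ≤ T ∧
      finrank F ↥U' = finrank F ↥U + orderOf (Fintype.card F : ZMod r) := by
  classical
  obtain ⟨U', ⟨hU'i, hU'lt, hU'T⟩, hmin⟩ :=
    (Set.toFinite {W : Submodule F V | Inv y W ∧ U < W ∧ W ≤ T}).exists_minimal ⟨T, hT, hlt, le_rfl⟩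
  refine ⟨U', hU'i, hU'lt, hU'T, ?_⟩
  set N := U.comap U'.subtype with hN
  let yU : Module.End F ↥U' := y.restrict hU'i
  have hNy : N ≤ N.comap yU := fun w hw => hU _ hw
  let Q := ↥U' ⧸ N
  let yQ : Module.End F Q := N.mapQ N yU hNy
  have hQ : ∀ w : ↥U', yQ (Submodule.Quotient.mk w) = Submodule.Quotient.mk (yU w) := fun w => rfl
  have hpowU : ∀ (k : ℕ) (w : ↥U'), ((yU ^ k) w : V) = (y ^ k) (w : V) := fun k => by
    induction k with
    | zero => intro w; rfl
    | succ k ih => intro w; rw [pow_succ, pow_succ, Module.End.mul_apply, Module.End.mul_apply, ih]; rfl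
  have hpowQ : ∀ (k : ℕ) (w : ↥U'), (yQ ^ k) (Submodule.Quotient.mk w) = Submodule.Quotient.mk ((yU ^ k) w) := fun k => by
    induction k with
    | zero => intro w; rfl
    | succ k ih => intro w; rw [pow_succ, pow_succ, Module.End.mul_apply, Module.End.mul_apply, hQ, ih]
  have hyQ : yQ ^ r = 1 := by
    refine LinearMap.ext fun q => ?_
    obtain ⟨w, rfl⟩ := Submodule.Quotient.mk_surjective N q
    rw [hpowQ, Module.End.one_apply]
    congr 1
    exact Subtype.ext (by rw [hpowU, hy]; rfl)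
  have hfix : ∀ q : Q, yQ q = q → q = 0 := by
    intro q hq
    obtain ⟨w, rfl⟩ := Submodule.Quotient.mk_surjective N q
    rw [hQ, Submodule.Quotient.eq] at hq
    have h1 : y (w : V) - (w : V) ∈ U := hq
    have h2 : ∀ k, (y ^ k) (w : V) - (w : V) ∈ U := fun k => by
      induction k with
      | zero => simp
      | succ k ih =>
        have h3 := hU _ ih
        rw [map_sub, ← Module.End.mul_apply, ← pow_succ'] at h3
        have := U.add_mem h3 h1
        rwa [sub_add_sub_cancel] at this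
    have h4 : avg y r (w : V) - (w : V) ∈ U := by
      have h5 : avg y r (w : V) - (w : V) = (r : F)⁻¹ • ∑ k ∈ Finset.range r, ((y ^ k) (w : V) - (w : V)) := by
        rw [Finset.sum_sub_distrib, smul_sub, avg_apply, Finset.sum_const, Finset.card_range,
          ← Nat.cast_smul_eq_nsmul F, smul_smul, inv_mul_cancel₀ hrF, one_smul]
      rw [h5]
      exact U.smul_mem _ (U.sum_mem fun k _ => h2 k)
    rw [LinearMap.mem_ker.1 (hTR (hU'T w.2)), zero_sub, neg_mem_iff] at h4
    exact (Submodule.Quotient.mk_eq_zero N).2 h4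
  have hirr : ∀ W : Submodule F Q, Inv yQ W → W = ⊥ ∨ W = ⊤ := by
    intro W hW
    set W' := (W.comap N.mkQ).map U'.subtype with hW'
    have hle : N ≤ W.comap N.mkQ := fun x hx => by
      simp [(Submodule.Quotient.mk_eq_zero N).2 hx]
    have hUW : U ≤ W' := fun v hv => ⟨⟨v, hU'lt.le hv⟩, hle hv, rfl⟩
    rcases eq_or_lt_of_le hUW with he | hlt'
    · left
      rw [eq_bot_iff]
      intro q hq
      obtain ⟨w, rfl⟩ := Submodule.Quotient.mk_surjective N q
      have hwU : (w : V) ∈ W' := ⟨w, hq, rfl⟩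
      rw [← he] at hwU
      exact (Submodule.Quotient.mk_eq_zero N).2 hwU
    · right
      have hinv' : Inv y W' := by
        rintro _ ⟨w, hw, rfl⟩
        exact ⟨yU w, hW _ hw, rfl⟩
      have := le_antisymm (Submodule.map_subtype_le U' _) (hmin ⟨hinv', hlt', (Submodule.map_subtype_le U' _).trans hU'T⟩ (Submodule.map_subtype_le U' _))
      refine Submodule.eq_top_iff'.2 fun q => ?_
      obtain ⟨w, rfl⟩ := Submodule.Quotient.mk_surjective N q
      have hwW : (w : V) ∈ W' := this.ge w.2
      obtain ⟨w', hw', hww⟩ := hwW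
      rw [← (Subtype.ext hww : w' = w)]; exact hw'
  haveI : Nontrivial Q := by
    rw [Submodule.Quotient.nontrivial_iff]
    intro h
    refine hU'lt.not_ge fun v hv => ?_
    have hm : (⟨v, hv⟩ : ↥U') ∈ N := by rw [h]; exact Submodule.mem_top
    exact hm
  haveI : Finite Q := Finite.of_surjective _ (Submodule.Quotient.mk_surjective N)
  have hd := finrank_of_irreducible hr hrF hyQ hfix hirr
  have hsum := N.finrank_quotient_add_finrank
  rw [hd, hN, LinearEquiv.finrank_eq (Submodule.comapSubtypeEquivOfLe hU'lt.le)] at hsum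
  omega

theorem dvd_finrank_of_le_ker (hr : r.Prime) (hrF : (r : F) ≠ 0) (hy : y ^ r = 1) {T : Submodule F V}
    (hT : Inv y T) (hTR : T ≤ LinearMap.ker (avg y r)) :
    orderOf (Fintype.card F : ZMod r) ∣ finrank F ↥T := by
  obtain ⟨U, ⟨hUi, hUT, hdvd⟩, hmax⟩ := (Set.toFinite {W : Submodule F V | Inv y W ∧ W ≤ T ∧
      orderOf (Fintype.card F : ZMod r) ∣ finrank F ↥W}).exists_maximal
    ⟨⊥, fun v hv => by rw [(Submodule.mem_bot F).1 hv, map_zero]; exact Submodule.zero_mem _,
      bot_le, by simp⟩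
  rcases eq_or_lt_of_le hUT with rfl | hlt
  · exact hdvd
  · obtain ⟨U', h1, h2, h3, h4⟩ := exists_step hr hrF hy hT hTR hUi hlt
    exact absurd (hmax ⟨h1, h3, by rw [h4]; exact dvd_add hdvd dvd_rfl⟩ h2.le) h2.not_ge

/-- Chains in the part without fixed vectors. -/
theorem exists_inv_le_ker (hr : r.Prime) (hrF : (r : F) ≠ 0) (hy : y ^ r = 1) {U : Submodule F V}
    (hU : Inv y U) (hUR : U ≤ LinearMap.ker (avg y r)) (e : ℕ)
    (he : finrank F ↥U + e * orderOf (Fintype.card F : ZMod r) ≤ finrank F ↥(LinearMap.ker (avg y r))) :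
    ∃ U', Inv y U' ∧ U ≤ U' ∧ U' ≤ LinearMap.ker (avg y r) ∧
      finrank F ↥U' = finrank F ↥U + e * orderOf (Fintype.card F : ZMod r) := by
  induction e with
  | zero => exact ⟨U, hU, le_rfl, hUR, by simp⟩
  | succ e ih =>
    obtain ⟨U', h1, h2, h3, h4⟩ := ih (by rw [Nat.succ_mul] at he; omega)
    rcases eq_or_lt_of_le h3 with h | h
    · refine ⟨U', h1, h2, h3, ?_⟩
      rw [Nat.succ_mul] at he ⊢
      rw [h] at h4 ⊢
      omega
    · obtain ⟨U'', k1, k2, k3, k4⟩ := exists_step hr hrF hy inv_ker_avg le_rfl h1 h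
      exact ⟨U'', k1, h2.trans k2.le, k3, by rw [k4, h4, Nat.succ_mul]; omega⟩

/-- The dimensions of the invariant subspaces. -/
theorem exists_decomp_finrank (hr : r.Prime) (hrF : (r : F) ≠ 0) (hy : y ^ r = 1) {W : Submodule F V}
    (hW : Inv y W) :
    ∃ e, e * orderOf (Fintype.card F : ZMod r) ≤ finrank F ↥(LinearMap.ker (avg y r)) ∧
      finrank F ↥(W ⊓ fix1 y) + e * orderOf (Fintype.card F : ZMod r) = finrank F ↥W := by
  have hT : Inv y (W ⊓ LinearMap.ker (avg y r)) := fun v hv => ⟨hW v hv.1, inv_ker_avg v hv.2⟩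
  obtain ⟨e, he⟩ := dvd_finrank_of_le_ker hr hrF hy hT inf_le_right
  refine ⟨e, ?_, ?_⟩
  · rw [mul_comm, ← he]; exact Submodule.finrank_mono inf_le_right
  · rw [mul_comm, ← he, ← finrank_of_inv hy hrF hW]

omit [Fintype F] in
theorem finrank_fix1_add (hy : y ^ r = 1) (hrF : (r : F) ≠ 0) :
    finrank F ↥(fix1 y) + finrank F ↥(LinearMap.ker (avg y r)) = finrank F V := by
  have h := finrank_of_inv hy hrF (W := ⊤) (fun v _ => Submodule.mem_top)
  rw [top_inf_eq, top_inf_eq, finrank_top] at h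
  exact h.symm

/-- Nested invariant subspaces of prescribed dimensions. -/
theorem exists_inv_nested (hr : r.Prime) (hrF : (r : F) ≠ 0) (hy : y ^ r = 1) {l l' e e' : ℕ}
    (hl : l ≤ l') (he : e ≤ e') (hl' : l' ≤ finrank F ↥(fix1 y))
    (he' : e' * orderOf (Fintype.card F : ZMod r) ≤ finrank F ↥(LinearMap.ker (avg y r))) :
    ∃ U W, Inv y U ∧ Inv y W ∧ U ≤ W ∧
      finrank F ↥U = l + e * orderOf (Fintype.card F : ZMod r) ∧
      finrank F ↥W = l' + e' * orderOf (Fintype.card F : ZMod r) := by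
  set i := orderOf (Fintype.card F : ZMod r) with hidef
  set b := Module.finBasis F ↥(fix1 y)
  let D : ∀ k, k ≤ finrank F ↥(fix1 y) → Submodule F V := fun k hk =>
    (Submodule.span F (Set.range (b ∘ Fin.castLE hk))).map (fix1 y).subtype
  have hD : ∀ k hk, D k hk ≤ fix1 y ∧ finrank F ↥(D k hk) = k := fun k hk =>
    ⟨Submodule.map_subtype_le _ _, by
      rw [Submodule.finrank_map_subtype_eq,
        finrank_span_eq_card (b.linearIndependent.comp _ (Fin.castLE_injective hk)), Fintype.card_fin]⟩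
  have hDD : D l (hl.trans hl') ≤ D l' hl' := by
    refine Submodule.map_mono (Submodule.span_mono ?_)
    rintro _ ⟨k, rfl⟩
    exact ⟨Fin.castLE hl k, rfl⟩
  have hbot : Inv y (⊥ : Submodule F V) := fun v hv => by
    rw [(Submodule.mem_bot F).1 hv, map_zero]; exact Submodule.zero_mem _
  have hmul : e * i ≤ e' * i := Nat.mul_le_mul_right i he
  obtain ⟨E, hE1, -, hE3, hE4⟩ := exists_inv_le_ker hr hrF hy hbot bot_le e
    (by rw [finrank_bot, zero_add]; exact hmul.trans he')
  rw [finrank_bot, zero_add] at hE4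
  have hsub : (e' - e) * i + e * i = e' * i := by rw [← add_mul, Nat.sub_add_cancel he]
  obtain ⟨E', hE1', hEE, hE3', hE4'⟩ := exists_inv_le_ker hr hrF hy hE1 hE3 (e' - e) (by rw [hE4, ← hidef]; omega)
  have hsum : ∀ A B : Submodule F V, A ≤ fix1 y → B ≤ LinearMap.ker (avg y r) →
      finrank F ↥(A ⊔ B) = finrank F ↥A + finrank F ↥B := by
    intro A B hA hB
    have h := Submodule.finrank_sup_add_finrank_inf_eq A B
    rw [le_bot_iff.1 ((inf_le_inf hA hB).trans (fix1_inf_ker_avg hrF).le), finrank_bot, add_zero] at h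
    exact h
  refine ⟨D l (hl.trans hl') ⊔ E, D l' hl' ⊔ E', inv_sup (inv_of_le_fix1 (hD _ _).1) hE1,
    inv_sup (inv_of_le_fix1 (hD _ _).1) hE1', sup_le_sup hDD hEE, ?_, ?_⟩
  · rw [hsum _ _ (hD _ _).1 hE3, (hD _ _).2, hE4]
  · rw [hsum _ _ (hD _ _).1 hE3', (hD _ _).2, hE4', hE4, ← hidef]; omega

omit [Fintype F] [Finite V] in
/-- Invariant complements. -/
theorem exists_inv_compl [FiniteDimensional F V] (hrF : (r : F) ≠ 0) (hy : y ^ r = 1) {U : Submodule F V}
    (hU : Inv y U) : ∃ W, Inv y W ∧ IsCompl U W := by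
  have hsep : (Polynomial.X ^ r - Polynomial.C (1 : F)).Separable :=
    Polynomial.separable_X_pow_sub_C 1 hrF one_ne_zero
  have hss : y.IsSemisimple :=
    Module.End.isSemisimple_of_squarefree_aeval_eq_zero hsep.squarefree (by simp [hy])
  obtain ⟨W, hW, hc⟩ := (Module.End.isSemisimple_iff.1 hss) U hU
  exact ⟨W, hW, hc⟩

end Cfsg.Agent.Lib.Elusive
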