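import Mathlib
import Cfsg.Agent.Lib.Forms.Basic
import Cfsg.Agent.Lib.Elusive.Linear

/-! Invariant subspaces of an isometry of prime order of a non-degenerate reflexive form. -/

set_option autoImplicit false
set_option linter.style.haveILetI false

namespace Cfsg.Agent.Lib.Elusive

open Module Cfsg.Agent.Lib.Forms

variable {F : Type*} [Field F] {σ : F →+* F} {V : Type*} [AddCommGroup V] [Module F V]
  {B : V →ₛₗ[σ] V →ₗ[F] F} {ε : F} {r : ℕ} {y : Module.End F V}

/-- `B` is non-degenerate on `S`. -/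
def Nd (B : V →ₛₗ[σ] V →ₗ[F] F) (S : Submodule F V) : Prop := ∀ u ∈ S, (∀ v ∈ S, B u v = 0) → u = 0

/-- `S` is totally isotropic. -/
def Iso (B : V →ₛₗ[σ] V →ₗ[F] F) (S : Submodule F V) : Prop := ∀ u ∈ S, ∀ v ∈ S, B u v = 0

theorem nd_iff (S : Submodule F V) :
    Nd B S ↔ ∀ u ∈ S, u ≠ 0 → ∃ v ∈ S, B u v ≠ 0 := by
  refine forall₂_congr fun u _ => ⟨fun h hu => ?_, fun h hz => ?_⟩
  · by_contra hcon
    push Not at hcon
    exact hu (h hcon)
  · by_contra hu
    obtain ⟨v, hv, hb⟩ := h hu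
    exact hb (hz v hv)

theorem iso_bot : Iso B ⊥ := fun u hu v _ => by rw [(Submodule.mem_bot F).1 hu]; simp

theorem nd_bot : Nd B ⊥ := fun _ hu _ => (Submodule.mem_bot F).1 hu

theorem Iso.mono {S T : Submodule F V} (h : Iso B T) (hle : S ≤ T) : Iso B S :=
  fun u hu v hv => h u (hle hu) v (hle hv)

theorem inv_bot (y : Module.End F V) : Inv y ⊥ := fun v hv => by
  rw [(Submodule.mem_bot F).1 hv, map_zero]; exact Submodule.zero_mem _

theorem inv_inf {U W : Submodule F V} (hU : Inv y U) (hW : Inv y W) : Inv y (U ⊓ W) :=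
  fun v hv => ⟨hU v hv.1, hW v hv.2⟩

section

variable (h : IsGoodForm B ε)
include h

theorem nd_top : Nd B (⊤ : Submodule F V) := fun u _ hu => h.nondeg u fun v => hu v Submodule.mem_top

theorem mem_perp_comm {S : Submodule F V} {v : V} : v ∈ perp B S ↔ ∀ x ∈ S, B v x = 0 :=
  forall₂_congr fun _ _ => h.eq_zero_iff

theorem iso_sup {U W : Submodule F V} (hU : Iso B U) (hW : Iso B W) (hUW : ∀ u ∈ U, ∀ w ∈ W, B u w = 0) :
    Iso B (U ⊔ W) := by
  intro a ha b hb
  obtain ⟨u, hu, w, hw, rfl⟩ := Submodule.mem_sup.1 ha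
  obtain ⟨u', hu', w', hw', rfl⟩ := Submodule.mem_sup.1 hb
  simp [hU u hu u' hu', hW w hw w' hw', hUW u hu w' hw', h.eq_zero_symm (hUW u' hu' w hw)]

theorem nd_sup {U W : Submodule F V} (hU : Nd B U) (hW : Nd B W) (hUW : ∀ u ∈ U, ∀ w ∈ W, B u w = 0) :
    Nd B (U ⊔ W) := by
  intro a ha hz
  obtain ⟨u, hu, w, hw, rfl⟩ := Submodule.mem_sup.1 ha
  have h1 : u = 0 := hU u hu fun v hv => by
    have := hz v (Submodule.mem_sup_left hv)
    rwa [map_add, LinearMap.add_apply, h.eq_zero_symm (hUW v hv w hw), add_zero] at this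
  have h2 : w = 0 := hW w hw fun v hv => by
    have := hz v (Submodule.mem_sup_right hv)
    rwa [map_add, LinearMap.add_apply, hUW u hu v hv, zero_add] at this
  rw [h1, h2, add_zero]

theorem perp_inv [FiniteDimensional F V] (hpres : ∀ u v, B (y u) (y v) = B u v) {S : Submodule F V} (hS : Inv y S) :
    Inv y (perp B S) := by
  intro v hv x hx
  have hinj := h.injective_of_preserves hpres
  have hmap : S.map y = S := Submodule.eq_of_le_of_finrank_eq ((inv_iff_map_le _ _).1 hS)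
    (Submodule.equivMapOfInjective y hinj S).finrank_eq.symm
  rw [← hmap] at hx
  obtain ⟨x', hx', rfl⟩ := hx
  rw [hpres]
  exact hv x' hx'

variable [FiniteDimensional F V]

theorem isCompl_perp {S : Submodule F V} (hS : Nd B S) : IsCompl S (perp B S) := by
  have hinf : S ⊓ perp B S = ⊥ := by
    rw [eq_bot_iff]
    rintro u ⟨hu, hu'⟩
    exact (Submodule.mem_bot F).2 (hS u hu fun v hv => h.eq_zero_symm (hu' v hv))
  refine ⟨disjoint_iff.2 hinf, codisjoint_iff.2 (Submodule.eq_top_of_finrank_eq ?_)⟩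
  have h1 := Submodule.finrank_sup_add_finrank_inf_eq S (perp B S)
  rw [hinf, finrank_bot, add_zero] at h1
  rw [h1, h.finrank_add_finrank_perp]

theorem nd_perp {S : Submodule F V} (hS : Nd B S) : Nd B (perp B S) := by
  intro u hu hz
  refine h.nondeg u fun v => ?_
  obtain ⟨a, ha, b, hb, rfl⟩ := Submodule.mem_sup.1 ((isCompl_perp h hS).sup_eq_top.ge (Submodule.mem_top : v ∈ ⊤))
  rw [map_add, hz b hb, h.eq_zero_symm (hu a ha), add_zero]

/-- Orthogonal splitting inside a non-degenerate subspace. -/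
theorem split_nd {S T : Submodule F V} (hS : Nd B S) (hT : Nd B T) (hle : S ≤ T) :
    Nd B (T ⊓ perp B S) ∧ S ⊔ (T ⊓ perp B S) = T ∧ S ⊓ (T ⊓ perp B S) = ⊥ ∧
      finrank F ↥T = finrank F ↥S + finrank F ↥(T ⊓ perp B S) := by
  have hc := isCompl_perp h hS
  have hsup : S ⊔ (T ⊓ perp B S) = T := by
    rw [inf_comm, ← sup_inf_assoc_of_le _ hle, hc.sup_eq_top, top_inf_eq]
  have hinf : S ⊓ (T ⊓ perp B S) = ⊥ :=
    le_bot_iff.1 ((inf_le_inf le_rfl inf_le_right).trans hc.inf_eq_bot.le)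
  refine ⟨?_, hsup, hinf, ?_⟩
  · intro u hu hz
    refine hT u hu.1 fun v hv => ?_
    rw [← hsup] at hv
    obtain ⟨a, ha, b, hb, rfl⟩ := Submodule.mem_sup.1 hv
    rw [map_add, hz b hb, h.eq_zero_symm (hu.2 a ha), add_zero]
  · have h1 := Submodule.finrank_sup_add_finrank_inf_eq S (T ⊓ perp B S)
    rwa [hsup, hinf, finrank_bot, add_zero] at h1

/-- `U` and `U'` isotropic or not, paired without radical on either side. -/
theorem finrank_inf_perp {U T : Submodule F V} (hT : Nd B T) (hUT : U ≤ T) :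
    finrank F ↥U + finrank F ↥(T ⊓ perp B U) = finrank F ↥T := by
  obtain hh := isCompl_perp h hT
  have h1 : perp B U = (T ⊓ perp B U) ⊔ perp B T := by
    refine le_antisymm (fun v hv => ?_) (sup_le inf_le_right (perp_anti hUT))
    obtain ⟨a, ha, b, hb, rfl⟩ := Submodule.mem_sup.1 (hh.sup_eq_top.ge (Submodule.mem_top : v ∈ ⊤))
    refine Submodule.add_mem_sup ⟨ha, fun x hx => ?_⟩ hb
    have := hv x hx
    rwa [map_add, hb x (hUT hx), add_zero] at this
  have h2 := Submodule.finrank_sup_add_finrank_inf_eq (T ⊓ perp B U) (perp B T)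
  have h3 : (T ⊓ perp B U) ⊓ perp B T = ⊥ :=
    le_bot_iff.1 ((inf_le_inf inf_le_left le_rfl).trans hh.inf_eq_bot.le)
  rw [← h1, h3, finrank_bot, add_zero] at h2
  have h4 := h.finrank_add_finrank_perp U
  have h5 := h.finrank_add_finrank_perp T
  omega

theorem iso_finrank_le {U T : Submodule F V} (hT : Nd B T) (hUT : U ≤ T) (hU : Iso B U) :
    2 * finrank F ↥U ≤ finrank F ↥T := by
  have h1 := finrank_inf_perp h hT hUT
  have h2 : finrank F ↥U ≤ finrank F ↥(T ⊓ perp B U) :=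
    Submodule.finrank_mono (le_inf hUT fun v hv x hx => hU x hx v hv)
  omega

omit [FiniteDimensional F V] in
theorem fix1_perp_ker (hpres : ∀ u v, B (y u) (y v) = B u v) (hrF : (r : F) ≠ 0) {u v : V}
    (hu : u ∈ fix1 y) (hv : v ∈ LinearMap.ker (avg y r)) : B u v = 0 := by
  have hk : ∀ k, B u ((y ^ k) v) = B u v := fun k => by
    induction k with
    | zero => rfl
    | succ k ih =>
      rw [pow_succ', Module.End.mul_apply]
      conv_lhs => rw [← mem_fix1.1 hu]
      rw [hpres, ih]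
  have h1 : B u (avg y r v) = B u v := by
    rw [avg_apply, map_smul, map_sum, Finset.sum_congr rfl (fun k _ => hk k), Finset.sum_const,
      Finset.card_range, ← Nat.cast_smul_eq_nsmul F, smul_smul, inv_mul_cancel₀ hrF, one_smul]
  rw [← h1, LinearMap.mem_ker.1 hv, map_zero]

omit [FiniteDimensional F V] in
theorem nd_parts (hy : y ^ r = 1) (hpres : ∀ u v, B (y u) (y v) = B u v) (hrF : (r : F) ≠ 0)
    {T : Submodule F V} (hT : Nd B T) (hTi : Inv y T) :
    Nd B (T ⊓ fix1 y) ∧ Nd B (T ⊓ LinearMap.ker (avg y r)) := by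
  constructor
  · intro u hu hz
    refine hT u hu.1 fun v hv => ?_
    rw [← inf_sup_inf_of_inv hy hrF hTi] at hv
    obtain ⟨a, ha, b, hb, rfl⟩ := Submodule.mem_sup.1 hv
    rw [map_add, hz a ha, fix1_perp_ker h hpres hrF hu.2 hb.2, add_zero]
  · intro u hu hz
    refine hT u hu.1 fun v hv => ?_
    rw [← inf_sup_inf_of_inv hy hrF hTi] at hv
    obtain ⟨a, ha, b, hb, rfl⟩ := Submodule.mem_sup.1 hv
    rw [map_add, hz b hb, h.eq_zero_symm (fix1_perp_ker h hpres hrF ha.2 hu.2), zero_add]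

variable [Fintype F] [Finite V]

/-- An invariant subspace of dimension `ord_r |F|` without fixed vectors is either non-degenerate or isotropic. -/
theorem nd_or_iso (hr : r.Prime) (hrF : (r : F) ≠ 0) (hy : y ^ r = 1) (hpres : ∀ u v, B (y u) (y v) = B u v)
    {U : Submodule F V} (hU : Inv y U) (hUR : U ≤ LinearMap.ker (avg y r))
    (hUd : finrank F ↥U = orderOf (Fintype.card F : ZMod r)) : Nd B U ∨ Iso B U := by
  have hW : Inv y (U ⊓ perp B U) := inv_inf hU (perp_inv h hpres hU)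
  obtain ⟨e, he⟩ := dvd_finrank_of_le_ker hr hrF hy hW (inf_le_left.trans hUR)
  have hle : finrank F ↥(U ⊓ perp B U) ≤ finrank F ↥U := Submodule.finrank_mono inf_le_left
  rw [hUd, he] at hle
  rcases e with _ | e
  · left
    rw [mul_zero, Submodule.finrank_eq_zero] at he
    intro u hu hz
    exact (Submodule.mem_bot F).1 (he ▸ ⟨hu, fun x hx => h.eq_zero_symm (hz x hx)⟩)
  · right
    have heq : U ⊓ perp B U = U := Submodule.eq_of_le_of_finrank_eq inf_le_left (by
      rw [he, hUd]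
      rw [Nat.mul_succ] at hle ⊢
      omega)
    intro u hu v hv
    exact (heq.ge hv).2 u hu

/-- An isotropic irreducible subspace has an irreducible partner. -/
theorem exists_partner (hr : r.Prime) (hrF : (r : F) ≠ 0) (hy : y ^ r = 1) (hpres : ∀ u v, B (y u) (y v) = B u v)
    {T U : Submodule F V} (hT : Nd B T) (hTi : Inv y T) (hTR : T ≤ LinearMap.ker (avg y r))
    (hU : Inv y U) (hUT : U ≤ T) (hUd : finrank F ↥U = orderOf (Fintype.card F : ZMod r)) (hUi : Iso B U) :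
    ∃ U', Inv y U' ∧ U' ≤ T ∧ finrank F ↥U' = orderOf (Fintype.card F : ZMod r) ∧
      (∀ w ∈ U', (∀ u ∈ U, B u w = 0) → w = 0) ∧ (∀ u ∈ U, (∀ w ∈ U', B u w = 0) → u = 0) ∧
      Inv y (U ⊔ U') ∧ Nd B (U ⊔ U') ∧ finrank F ↥(U ⊔ U') = 2 * orderOf (Fintype.card F : ZMod r) := by
  have hK : Inv y (T ⊓ perp B U) := inv_inf hTi (perp_inv h hpres hU)
  obtain ⟨W, hW, hc⟩ := exists_inv_compl hrF hy hK
  have hW' : Inv y (T ⊓ W) := inv_inf hTi hW
  have hsup : (T ⊓ perp B U) ⊔ (T ⊓ W) = T := by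
    rw [inf_comm T W, ← sup_inf_assoc_of_le _ inf_le_left, hc.sup_eq_top, top_inf_eq]
  have hinf : (T ⊓ perp B U) ⊓ (T ⊓ W) = ⊥ :=
    le_bot_iff.1 ((inf_le_inf le_rfl inf_le_right).trans hc.inf_eq_bot.le)
  have hd := Submodule.finrank_sup_add_finrank_inf_eq (T ⊓ perp B U) (T ⊓ W)
  rw [hsup, hinf, finrank_bot, add_zero] at hd
  have hd2 := finrank_inf_perp h hT hUT
  have hUle : U ≤ T ⊓ perp B U := le_inf hUT fun v hv x hx => hUi x hx v hv
  have h1 : ∀ w ∈ T ⊓ W, (∀ u ∈ U, B u w = 0) → w = 0 := fun w hw hz =>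
    (Submodule.mem_bot F).1 (hinf ▸ ⟨⟨hw.1, hz⟩, hw⟩)
  have h2 : ∀ u ∈ U, (∀ w ∈ T ⊓ W, B u w = 0) → u = 0 := fun u hu hz => hT u (hUT hu) fun v hv => by
    rw [← hsup] at hv
    obtain ⟨a, ha, b, hb, rfl⟩ := Submodule.mem_sup.1 hv
    rw [map_add, ha.2 u hu, hz b hb, add_zero]
  have hUW : U ⊓ (T ⊓ W) = ⊥ := le_bot_iff.1 ((inf_le_inf hUle le_rfl).trans hinf.le)
  have hd3 := Submodule.finrank_sup_add_finrank_inf_eq U (T ⊓ W)
  rw [hUW, finrank_bot, add_zero] at hd3
  refine ⟨T ⊓ W, hW', inf_le_left, by omega, h1, h2, inv_sup hU hW', ?_, by omega⟩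
  intro a ha hz
  obtain ⟨u, hu, w, hw, rfl⟩ := Submodule.mem_sup.1 ha
  have hw0 : w = 0 := h1 w hw fun u' hu' => by
    have := hz u' (Submodule.mem_sup_left hu')
    rw [map_add, LinearMap.add_apply, hUi u hu u' hu', zero_add] at this
    exact h.eq_zero_symm this
  subst hw0
  rw [add_zero] at hz ⊢
  exact h2 u hu fun b hb => hz b (Submodule.mem_sup_right hb)

end

end Cfsg.Agent.Lib.Elusive
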