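import Mathlib
import Cfsg.Agent.Lib.Elusive.Linear

/-! The commutative algebra generated by an endomorphism of prime order and its irreducible subspaces. -/

set_option autoImplicit false
set_option linter.style.haveILetI false

namespace Cfsg.Agent.Lib.Elusive

open Module Polynomial

variable {F : Type*} [Field F] {V : Type*} [AddCommGroup V] [Module F V] {r : ℕ} {y : Module.End F V}

/-- An irreducible invariant subspace without fixed vectors. -/
def IsIrr (y : Module.End F V) (U : Submodule F V) : Prop :=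
  U ≠ ⊥ ∧ Inv y U ∧ ∀ W : Submodule F V, W ≤ U → Inv y W → W = ⊥ ∨ W = U

theorem aeval_inv {U : Submodule F V} (hU : Inv y U) (g : F[X]) : Inv (Polynomial.aeval y g) U := by
  induction g using Polynomial.induction_on' with
  | add g g' h1 h2 => intro v hv; rw [map_add, LinearMap.add_apply]; exact U.add_mem (h1 v hv) (h2 v hv)
  | monomial k a =>
    intro v hv
    rw [aeval_monomial, Module.algebraMap_end_eq_smul_id, Module.End.mul_apply]
    exact U.smul_mem a (inv_pow hU k v hv)

theorem aeval_restrict {U : Submodule F V} (hU : Inv y U) (g : F[X]) (u : ↥U) :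
    ((Polynomial.aeval (y.restrict hU : Module.End F ↥U) g) u : V) = Polynomial.aeval y g u := by
  induction g using Polynomial.induction_on' generalizing u with
  | add g g' h1 h2 => simp [h1, h2]
  | monomial k a =>
    rw [aeval_monomial, aeval_monomial, Module.algebraMap_end_eq_smul_id, Module.algebraMap_end_eq_smul_id,
      Module.End.mul_apply, Module.End.mul_apply]
    show a • (((y.restrict hU : Module.End F ↥U) ^ k) u : V) = a • (y ^ k) (u : V)
    congr 1
    induction k generalizing u with
    | zero => rfl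
    | succ k ih => rw [pow_succ, pow_succ, Module.End.mul_apply, Module.End.mul_apply, ih]; rfl

theorem aeval_comm_apply (g g' : F[X]) (v : V) :
    Polynomial.aeval y g (Polynomial.aeval y g' v) = Polynomial.aeval y g' (Polynomial.aeval y g v) := by
  rw [← Module.End.mul_apply, ← map_mul, mul_comm, map_mul, Module.End.mul_apply]

/-- An element of the algebra kills an irreducible subspace as soon as it kills a nonzero vector. -/
theorem IsIrr.kills {U : Submodule F V} (hU : IsIrr y U) {g : F[X]} {u : V} (hu : u ∈ U) (hu0 : u ≠ 0)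
    (hg : Polynomial.aeval y g u = 0) : ∀ v ∈ U, Polynomial.aeval y g v = 0 := by
  have hK : Inv y (U ⊓ LinearMap.ker (Polynomial.aeval y g)) := fun v hv => ⟨hU.2.1 v hv.1, by
    have h1 : y v = Polynomial.aeval y (X : F[X]) v := by rw [aeval_X]
    rw [SetLike.mem_coe, LinearMap.mem_ker, h1, aeval_comm_apply, LinearMap.mem_ker.1 hv.2, map_zero]⟩
  rcases hU.2.2 _ inf_le_left hK with h | h
  · exact absurd ((Submodule.mem_bot F).1 (h ▸ ⟨hu, hg⟩ : u ∈ (⊥ : Submodule F V))) hu0
  · intro v hv
    exact (h.ge hv).2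

theorem IsIrr.kills_or {U : Submodule F V} (hU : IsIrr y U) (g g' : F[X])
    (h : ∀ v ∈ U, Polynomial.aeval y (g * g') v = 0) :
    (∀ v ∈ U, Polynomial.aeval y g v = 0) ∨ ∀ v ∈ U, Polynomial.aeval y g' v = 0 := by
  by_cases h' : ∀ v ∈ U, Polynomial.aeval y g' v = 0
  · exact Or.inr h'
  push Not at h'
  obtain ⟨v, hv, hv0⟩ := h'
  refine Or.inl (hU.kills (aeval_inv hU.2.1 g' v hv) hv0 ?_)
  rw [← Module.End.mul_apply, ← map_mul]
  exact h v hv

/-- The minimal polynomial of `y` on `U`. -/
noncomputable def mpOn {U : Submodule F V} (hU : Inv y U) : F[X] := minpoly F (y.restrict hU : Module.End F ↥U)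

theorem mpOn_dvd_iff {U : Submodule F V} (hU : Inv y U) (g : F[X]) :
    mpOn hU ∣ g ↔ ∀ v ∈ U, Polynomial.aeval y g v = 0 := by
  rw [mpOn, minpoly.dvd_iff]
  constructor
  · intro h v hv
    have := aeval_restrict hU g ⟨v, hv⟩
    rw [h] at this
    exact this.symm
  · exact fun h => LinearMap.ext fun v => Subtype.ext (by rw [aeval_restrict]; exact h v v.2)

theorem irreducible_mpOn [FiniteDimensional F V] {U : Submodule F V} (hU : IsIrr y U) :
    Irreducible (mpOn hU.2.1) ∧ (mpOn hU.2.1).Monic := by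
  have hm : (mpOn hU.2.1).Monic := minpoly.monic (Algebra.IsIntegral.isIntegral _)
  refine ⟨⟨fun hu => ?_, fun g g' he => ?_⟩, hm⟩
  · obtain ⟨u, hu', hu0⟩ := Submodule.exists_mem_ne_zero_of_ne_bot hU.1
    have h1 : ∀ v ∈ U, Polynomial.aeval y (1 : F[X]) v = 0 := (mpOn_dvd_iff hU.2.1 1).1 hu.dvd
    exact hu0 (by simpa using h1 u hu')
  · have h0 : g * g' ≠ 0 := he ▸ hm.ne_zero
    rcases hU.kills_or g g' ((mpOn_dvd_iff hU.2.1 _).1 (dvd_of_eq he)) with h | h
    · refine Or.inr ?_
      rw [← mpOn_dvd_iff hU.2.1, he] at h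
      exact isUnit_of_dvd_one (mul_dvd_mul_iff_left (left_ne_zero_of_mul h0) |>.1 (by rw [mul_one]; exact h))
    · refine Or.inl ?_
      rw [← mpOn_dvd_iff hU.2.1, he, mul_comm] at h
      exact isUnit_of_dvd_one (mul_dvd_mul_iff_left (right_ne_zero_of_mul h0) |>.1 (by rw [mul_one]; exact h))

theorem natDegree_mpOn [FiniteDimensional F V] {U : Submodule F V} (hU : IsIrr y U) :
    (mpOn hU.2.1).natDegree = finrank F ↥U := by
  refine le_antisymm ?_ ?_
  · rw [mpOn, ← (y.restrict hU.2.1 : Module.End F ↥U).charpoly_natDegree]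
    exact natDegree_le_of_dvd (minpoly.dvd _ _ (LinearMap.aeval_self_charpoly _))
      (LinearMap.charpoly_monic _).ne_zero
  · obtain ⟨u, hu, hu0⟩ := Submodule.exists_mem_ne_zero_of_ne_bot hU.1
    have hm := (irreducible_mpOn hU).2
    set d := (mpOn hU.2.1).natDegree with hd
    let S := Submodule.span F (Set.range fun k : Fin d => (y ^ (k : ℕ)) u)
    have hgS : ∀ g : F[X], Polynomial.aeval y g u ∈ S := by
      intro g
      have h1 : Polynomial.aeval y g u = Polynomial.aeval y (g %ₘ mpOn hU.2.1) u := by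
        conv_lhs => rw [← modByMonic_add_div g (mpOn hU.2.1)]
        rw [map_add, LinearMap.add_apply, (mpOn_dvd_iff hU.2.1 _).1 (dvd_mul_right _ _) u hu, add_zero]
      rw [h1, aeval_eq_sum_range' (n := d) ?_, LinearMap.sum_apply]
      · refine S.sum_mem fun k hk => ?_
        rw [LinearMap.smul_apply]
        exact S.smul_mem _ (Submodule.subset_span ⟨⟨k, Finset.mem_range.1 hk⟩, rfl⟩)
      · have hdpos : 0 < d := (irreducible_mpOn hU).1.natDegree_pos
        exact natDegree_modByMonic_lt _ hm (fun h => by rw [hd, h, natDegree_one] at hdpos; omega)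
    have hSi : Inv y S := by
      intro v hv
      induction hv using Submodule.span_induction with
      | mem v h =>
        obtain ⟨k, rfl⟩ := h
        have := hgS (X ^ ((k : ℕ) + 1))
        rw [map_pow, aeval_X, pow_succ', Module.End.mul_apply] at this
        exact this
      | zero => rw [map_zero]; exact S.zero_mem
      | add a b _ _ ha hb => rw [map_add]; exact S.add_mem ha hb
      | smul c a _ ha => rw [map_smul]; exact S.smul_mem c ha
    have hSU : S = U := by
      refine (hU.2.2 S (Submodule.span_le.2 ?_) hSi).resolve_left fun h => hu0 ?_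
      · rintro _ ⟨k, rfl⟩; exact inv_pow hU.2.1 _ _ hu
      · have h1 := hgS 1
        rw [map_one, Module.End.one_apply, h, Submodule.mem_bot] at h1
        exact h1
    rw [← hSU]
    exact le_trans (finrank_range_le_card _) (by simp)

variable [Fintype F]

theorem aeval_pow_card_pow (z : Module.End F V) (g : F[X]) (j : ℕ) :
    Polynomial.aeval z g ^ Fintype.card F ^ j = Polynomial.aeval (z ^ Fintype.card F ^ j) g := by
  induction j with
  | zero => simp
  | succ j ih =>
    rw [pow_succ, pow_mul, ih, pow_mul, ← expand_aeval (Fintype.card F) g (z ^ Fintype.card F ^ j),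
      FiniteField.expand_card, map_pow]

/-- Every element of the algebra generated by `y` is fixed by `a ↦ a ^ (q ^ i)`. -/
theorem aeval_pow_eq_self (hy : y ^ r = 1) (hr : r.Prime) {i : ℕ}
    (hi : (Fintype.card F : ZMod r) ^ i = 1) (g : F[X]) :
    Polynomial.aeval y g ^ Fintype.card F ^ i = Polynomial.aeval y g := by
  rw [aeval_pow_card_pow]
  congr 1
  have h1 : Fintype.card F ^ i % r = 1 % r := by
    rw [← ZMod.natCast_eq_natCast_iff']; simpa using hi
  rw [Nat.one_mod_eq_one.2 hr.ne_one] at h1
  rw [pow_eq_pow_mod _ hy, h1, pow_one]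

/-- A root of the minimal polynomial is a conjugate of `y`. -/
theorem exists_pow_of_kills [FiniteDimensional F V] [Fact r.Prime] (hy : y ^ r = 1) {U : Submodule F V} (hU : IsIrr y U)
    (hfix : ∀ v ∈ U, y v = v → v = 0) (hd : finrank F ↥U = orderOf (Fintype.card F : ZMod r)) (k : ℕ)
    (hk : ∀ v ∈ U, Polynomial.aeval (y ^ k) (mpOn hU.2.1) v = 0) :
    ∃ j, (k : ZMod r) = (Fintype.card F : ZMod r) ^ j := by
  classical
  have hr : r.Prime := Fact.out
  set i := orderOf (Fintype.card F : ZMod r) with hi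
  have hipos : 0 < i := by
    rw [← hd]
    exact Nat.pos_of_ne_zero fun h => hU.1 (Submodule.finrank_eq_zero.1 h)
  let yU : Module.End F ↥U := y.restrict hU.2.1
  set g := mpOn hU.2.1 with hg
  let A : Subalgebra F (Module.End F ↥U) := (Polynomial.aeval yU).range
  letI : CommRing A := { (inferInstance : Ring A) with
    mul_comm := fun a b => by
      obtain ⟨_, ⟨ga, rfl⟩⟩ := a
      obtain ⟨_, ⟨gb, rfl⟩⟩ := b
      exact Subtype.ext (by
        show Polynomial.aeval yU ga * Polynomial.aeval yU gb = Polynomial.aeval yU gb * Polynomial.aeval yU ga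
        rw [← map_mul, mul_comm, map_mul]) }
  haveI : Nontrivial A := ⟨⟨0, 1, fun h => by
    obtain ⟨u, hu, hu0⟩ := Submodule.exists_mem_ne_zero_of_ne_bot hU.1
    exact hu0 (congrArg Subtype.val (LinearMap.congr_fun (congrArg Subtype.val h) ⟨u, hu⟩)).symm⟩⟩
  haveI : NoZeroDivisors A := ⟨fun {a b} hab => by
    obtain ⟨_, ⟨ga, rfl⟩⟩ := a
    obtain ⟨_, ⟨gb, rfl⟩⟩ := b
    have hab' : ∀ v ∈ U, Polynomial.aeval y (ga * gb) v = 0 := fun v hv => by
      rw [← aeval_restrict hU.2.1 (ga * gb) ⟨v, hv⟩, map_mul]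
      exact congrArg Subtype.val (LinearMap.congr_fun (congrArg Subtype.val hab) ⟨v, hv⟩)
    rcases hU.kills_or ga gb hab' with h | h
    · exact Or.inl (Subtype.ext (LinearMap.ext fun v => Subtype.ext (by
        show ((Polynomial.aeval yU ga) v : V) = 0
        rw [aeval_restrict]; exact h v v.2)))
    · exact Or.inr (Subtype.ext (LinearMap.ext fun v => Subtype.ext (by
        show ((Polynomial.aeval yU gb) v : V) = 0
        rw [aeval_restrict]; exact h v v.2)))⟩
  haveI : IsDomain A := NoZeroDivisors.to_isDomain A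
  let yA : A := ⟨yU, ⟨X, aeval_X yU⟩⟩
  have hpowU : ∀ (m : ℕ) (v : ↥U), ((yU ^ m) v : V) = (y ^ m) (v : V) := fun m => by
    induction m with
    | zero => intro v; rfl
    | succ m ih => intro v; rw [pow_succ, pow_succ, Module.End.mul_apply, Module.End.mul_apply, ih]; rfl
  have hyA : yA ^ r = 1 := Subtype.ext (LinearMap.ext fun v => Subtype.ext (by
    rw [SubmonoidClass.coe_pow]
    show ((yU ^ r) v : V) = v
    rw [hpowU, hy]; rfl))
  have hord : orderOf yA = r := by
    refine orderOf_eq_prime hyA fun h1 => ?_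
    obtain ⟨u, hu, hu0⟩ := Submodule.exists_mem_ne_zero_of_ne_bot hU.1
    exact hu0 (hfix u hu (congrArg Subtype.val (LinearMap.congr_fun (congrArg Subtype.val h1) ⟨u, hu⟩)))
  let uA : Aˣ := Units.ofPowEqOne yA r hyA hr.ne_zero
  have hordu : orderOf uA = r := by rw [← orderOf_units]; exact hord
  have hmod : ∀ a b : ℕ, yA ^ a = yA ^ b → (a : ZMod r) = (b : ZMod r) := fun a b hab => by
    have hu : uA ^ a = uA ^ b := Units.ext (by rw [Units.val_pow_eq_pow_val, Units.val_pow_eq_pow_val]; exact hab)
    rw [ZMod.natCast_eq_natCast_iff, ← hordu]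
    exact pow_eq_pow_iff_modEq.1 hu
  have hgA : ∀ m : ℕ, (∀ v ∈ U, Polynomial.aeval (y ^ m) g v = 0) →
      Polynomial.aeval (yA ^ m) g = 0 := by
    intro m hm
    refine Subtype.ext (LinearMap.ext fun v => Subtype.ext ?_)
    rw [Polynomial.aeval_subalgebra_coe, SubmonoidClass.coe_pow]
    show ((Polynomial.aeval (yU ^ m) g) v : V) = 0
    have he : ∀ (w : Module.End F V) (wU : Module.End F ↥U), (∀ u : ↥U, (wU u : V) = w u) → ∀ u : ↥U,
        ((Polynomial.aeval wU g) u : V) = Polynomial.aeval w g u := by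
      intro w wU hw u
      have hwU : Inv w U := fun a ha => by rw [← hw ⟨a, ha⟩]; exact Subtype.prop _
      rw [show wU = w.restrict hwU from LinearMap.ext fun a => Subtype.ext (hw a), aeval_restrict]
    rw [he _ _ (hpowU m)]
    exact hm v v.2
  have hgy : ∀ v ∈ U, Polynomial.aeval y g v = 0 := (mpOn_dvd_iff hU.2.1 g).1 dvd_rfl
  by_contra hcon
  push Not at hcon
  have hroots : ∀ m : ℕ, (∀ v ∈ U, Polynomial.aeval (y ^ m) g v = 0) → yA ^ m ∈ (g.aroots A).toFinset := by
    intro m hm
    rw [Multiset.mem_toFinset, mem_aroots]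
    exact ⟨(irreducible_mpOn hU).1.ne_zero, hgA m hm⟩
  have hconj : ∀ j : ℕ, ∀ v ∈ U, Polynomial.aeval (y ^ Fintype.card F ^ j) g v = 0 := by
    intro j v hv
    rw [← aeval_pow_card_pow]
    obtain ⟨m, hm⟩ : ∃ m, Fintype.card F ^ j = m + 1 :=
      ⟨Fintype.card F ^ j - 1, (Nat.sub_add_cancel (Nat.one_le_pow _ _ Fintype.card_pos)).symm⟩
    rw [hm, pow_succ, Module.End.mul_apply, hgy v hv, map_zero]
  have hsub : (Finset.range i).image (fun j => yA ^ Fintype.card F ^ j) ∪ {yA ^ k} ⊆ (g.aroots A).toFinset := by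
    intro a ha
    rcases Finset.mem_union.1 ha with h | h
    · obtain ⟨j, -, rfl⟩ := Finset.mem_image.1 h
      exact hroots _ (hconj j)
    · rw [Finset.mem_singleton.1 h]; exact hroots _ hk
  have hinj : Set.InjOn (fun j => yA ^ Fintype.card F ^ j) (Finset.range i : Set ℕ) := by
    intro a ha b hb hab
    rw [Finset.coe_range, Set.mem_Iio] at ha hb
    have h := hmod _ _ hab
    rw [Nat.cast_pow, Nat.cast_pow] at h
    exact pow_injOn_Iio_orderOf ha hb h
  have hnotin : yA ^ k ∉ (Finset.range i).image (fun j => yA ^ Fintype.card F ^ j) := by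
    intro h
    obtain ⟨j, -, hj⟩ := Finset.mem_image.1 h
    have h := hmod _ _ hj
    rw [Nat.cast_pow] at h
    exact hcon j h.symm
  have h1 := Finset.card_le_card hsub
  rw [Finset.card_union_of_disjoint (Finset.disjoint_singleton_right.2 hnotin), Finset.card_singleton,
    Finset.card_image_of_injOn hinj, Finset.card_range] at h1
  have h2 := (Multiset.toFinset_card_le (g.aroots A)).trans (card_roots' _)
  have h3 : (g.map (algebraMap F A)).natDegree ≤ i := by
    refine (natDegree_map_le).trans (le_of_eq ?_)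
    rw [hg, natDegree_mpOn hU, hd]
  omega

/-- Subspaces of dimension `ord_r q` without fixed vectors are irreducible. -/
theorem isIrr_of_finrank [Finite V] (hr : r.Prime) (hrF : (r : F) ≠ 0) (hy : y ^ r = 1) {U : Submodule F V}
    (hU : Inv y U) (hUR : U ≤ LinearMap.ker (avg y r))
    (hd : finrank F ↥U = orderOf (Fintype.card F : ZMod r)) (hpos : 0 < orderOf (Fintype.card F : ZMod r)) :
    IsIrr y U := by
  haveI : FiniteDimensional F V := Module.Finite.of_finite
  refine ⟨fun h => by rw [h, finrank_bot] at hd; omega, hU, fun W hW hWi => ?_⟩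
  obtain ⟨e, he⟩ := dvd_finrank_of_le_ker hr hrF hy hWi (hW.trans hUR)
  have hle := Submodule.finrank_mono hW
  rw [he, hd] at hle
  rcases e with _ | e
  · left; rwa [mul_zero, Submodule.finrank_eq_zero] at he
  · right
    refine Submodule.eq_of_le_of_finrank_eq hW ?_
    rw [he, hd]
    rw [Nat.mul_succ] at hle ⊢
    omega

end Cfsg.Agent.Lib.Elusive
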