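import Mathlib
import Cfsg.Agent.Lib.Elusive.FormBasics
import Cfsg.Agent.Lib.Elusive.Irreducible

/-!
The orthogonal decomposition of the part without fixed vectors of an isometry of prime order into blocks,
in the self-dual and in the non-self-dual case.
-/

set_option autoImplicit false
set_option linter.style.haveILetI false

namespace Cfsg.Agent.Lib.Elusive

open Module Cfsg.Agent.Lib.Forms Polynomial

variable {F : Type*} [Field F] {σ : F →+* F} {V : Type*} [AddCommGroup V] [Module F V]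
  {B : V →ₛₗ[σ] V →ₗ[F] F} {ε : F} {r : ℕ} {y : Module.End F V}

section Adjoint

theorem pow_adjoint (hy : y ^ r = 1) (hr : 0 < r) (hpres : ∀ u v, B (y u) (y v) = B u v) (k : ℕ) (u v : V) :
    B ((y ^ k) u) v = B u (((y ^ (r - 1)) ^ k) v) := by
  induction k generalizing u v with
  | zero => simp
  | succ k ih =>
    rw [pow_succ', Module.End.mul_apply]
    have h1 : v = y ((y ^ (r - 1)) v) := by
      rw [← Module.End.mul_apply, ← pow_succ', Nat.sub_add_cancel hr, hy, Module.End.one_apply]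
    conv_lhs => rw [h1]
    rw [hpres, ih, pow_succ, Module.End.mul_apply]

/-- The adjoint of a polynomial in `y`. -/
theorem aeval_adjoint (hy : y ^ r = 1) (hr : 0 < r) (hpres : ∀ u v, B (y u) (y v) = B u v) (g : F[X]) (u v : V) :
    B (Polynomial.aeval y g u) v = B u (Polynomial.aeval (y ^ (r - 1)) (g.map σ) v) := by
  induction g using Polynomial.induction_on' with
  | add g g' h1 h2 => simp [h1, h2]
  | monomial k a =>
    rw [Polynomial.map_monomial, aeval_monomial, aeval_monomial, Module.algebraMap_end_eq_smul_id,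
      Module.algebraMap_end_eq_smul_id, Module.End.mul_apply, Module.End.mul_apply]
    show B (a • (y ^ k) u) v = B u (σ a • ((y ^ (r - 1)) ^ k) v)
    rw [map_smulₛₗ, LinearMap.smul_apply, map_smul, pow_adjoint hy hr hpres]

theorem aeval_pow_frobenius {p : ℕ} [Fact p.Prime] [CharP F p] (e : ℕ) (hσ : ∀ a, σ a = a ^ p ^ e)
    {A : Type*} [Semiring A] [Algebra F A] (z : A) (g : F[X]) :
    Polynomial.aeval z g ^ p ^ e = Polynomial.aeval (z ^ p ^ e) (g.map σ) := by
  haveI : ExpChar F p := ExpChar.prime Fact.out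
  have hs : σ = iterateFrobenius F p e := RingHom.ext fun a => by rw [hσ, iterateFrobenius_def]
  rw [← map_pow, ← Polynomial.map_iterateFrobenius_expand, ← hs, Polynomial.map_expand, expand_aeval]

end Adjoint

/-- The exponent of a self-dual situation. -/
structure SelfDualExp (σ : F →+* F) (r : ℕ) (E : ℕ) [Fintype F] : Prop where
  map_eq : ∀ a, σ a = a ^ E
  neg_one : (E : ZMod r) = -1
  prime_pow : ∃ p e : ℕ, p.Prime ∧ CharP F p ∧ E = p ^ e
  sq : E * E = Fintype.card F ^ orderOf (Fintype.card F : ZMod r)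

/-- The non-self-dual situation. -/
structure NotSelfDual (σ : F →+* F) (r : ℕ) [Fintype F] : Prop where
  out : ∃ p e s : ℕ, p.Prime ∧ CharP F p ∧ (∀ a, σ a = a ^ p ^ e) ∧ p ^ e * p ^ e = Fintype.card F ^ s ∧
    ∀ j : ℕ, (Fintype.card F : ZMod r) ^ j ≠ -((p ^ e : ℕ) : ZMod r)

variable [Fintype F] [Finite V]

theorem aeval_adjointE {E : ℕ} (hr : r.Prime) (hE : SelfDualExp σ r E) (hy : y ^ r = 1)
    (hpres : ∀ u v, B (y u) (y v) = B u v) (g : F[X]) (u v : V) :
    B (Polynomial.aeval y g u) v = B u ((Polynomial.aeval y g ^ E) v) := by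
  obtain ⟨p, e, hp, hc, rfl⟩ := hE.prime_pow
  haveI := Fact.mk hp
  rw [aeval_adjoint hy hr.pos hpres, aeval_pow_frobenius e hE.map_eq]
  congr 3
  have h1 : ((p ^ e : ℕ) : ZMod r) = ((r - 1 : ℕ) : ZMod r) := by
    rw [hE.neg_one, Nat.cast_sub hr.one_le, ZMod.natCast_self, Nat.cast_one, zero_sub]
  rw [ZMod.natCast_eq_natCast_iff'] at h1
  rw [pow_eq_pow_mod (p ^ e) hy, h1, ← pow_eq_pow_mod (r - 1) hy]

theorem exists_cyclic {g : F[X]} (hm : g.Monic) (hd : 0 < g.natDegree) {u : V}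
    (hg : Polynomial.aeval y g u = 0) :
    ∃ C : Submodule F V, Inv y C ∧ u ∈ C ∧ finrank F ↥C ≤ g.natDegree ∧ ∀ W, Inv y W → u ∈ W → C ≤ W := by
  let S := Submodule.span F (Set.range fun k : Fin g.natDegree => (y ^ (k : ℕ)) u)
  have hgS : ∀ g' : F[X], Polynomial.aeval y g' u ∈ S := by
    intro g'
    have h1 : Polynomial.aeval y g' u = Polynomial.aeval y (g' %ₘ g) u := by
      conv_lhs => rw [← modByMonic_add_div g' g]
      rw [map_add, LinearMap.add_apply, map_mul, Module.End.mul_apply, aeval_comm_apply, hg, map_zero, add_zero]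
    rw [h1, aeval_eq_sum_range' (n := g.natDegree) ?_, LinearMap.sum_apply]
    · refine S.sum_mem fun k hk => ?_
      rw [LinearMap.smul_apply]
      exact S.smul_mem _ (Submodule.subset_span ⟨⟨k, Finset.mem_range.1 hk⟩, rfl⟩)
    · exact natDegree_modByMonic_lt _ hm (fun h => by rw [h, natDegree_one] at hd; omega)
  refine ⟨S, ?_, by simpa using hgS 1, (finrank_range_le_card _).trans (by simp),
    fun W hW hu => Submodule.span_le.2 ?_⟩
  · intro v hv
    induction hv using Submodule.span_induction with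
    | mem v h =>
      obtain ⟨k, rfl⟩ := h
      have := hgS (X ^ ((k : ℕ) + 1))
      rw [map_pow, aeval_X, pow_succ', Module.End.mul_apply] at this
      exact this
    | zero => rw [map_zero]; exact S.zero_mem
    | add a b _ _ ha hb => rw [map_add]; exact S.add_mem ha hb
    | smul c a _ ha => rw [map_smul]; exact S.smul_mem c ha
  · rintro _ ⟨k, rfl⟩
    exact inv_pow hW _ _ hu

section Good

variable (h : IsGoodForm B ε) (hr : r.Prime) (hrF : (r : F) ≠ 0) (hy : y ^ r = 1)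
  (hpres : ∀ u v, B (y u) (y v) = B u v)
include h hr hrF hy hpres

local notation "ordq" => orderOf ((Fintype.card F : ℕ) : ZMod r)

omit h hpres in
theorem exists_irr_le {T : Submodule F V} (hT : Inv y T) (hTR : T ≤ LinearMap.ker (avg y r)) (hne : T ≠ ⊥) :
    ∃ U, U ≤ T ∧ Inv y U ∧ finrank F ↥U = orderOf ((Fintype.card F : ℕ) : ZMod r) := by
  obtain ⟨U, h1, -, h3, h4⟩ := exists_step hr hrF hy hT hTR (inv_bot y) (bot_lt_iff_ne_bot.2 hne)
  exact ⟨U, h3, h1, by rw [h4, finrank_bot, zero_add]⟩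

omit h hy hpres in
theorem ordq_pos : 0 < orderOf ((Fintype.card F : ℕ) : ZMod r) := by
  haveI : Fact r.Prime := ⟨hr⟩
  obtain ⟨p, hp⟩ := CharP.exists F
  obtain ⟨k, hp', hk⟩ := FiniteField.card F p
  have h0 : (Fintype.card F : ZMod r) ≠ 0 := by
    rw [Ne, ZMod.natCast_eq_zero_iff, hk]
    intro h
    have := (Nat.prime_dvd_prime_iff_eq hr hp').1 (hr.dvd_of_dvd_pow h)
    exact hrF (by rw [this]; exact CharP.cast_eq_zero F p)
  exact orderOf_pos_iff.2 (isOfFinOrder_iff_pow_eq_one.2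
    ⟨r - 1, by have := hr.two_le; omega, ZMod.pow_card_sub_one_eq_one h0⟩)

omit h hpres in
theorem fix_eq_zero {T : Submodule F V} (hTR : T ≤ LinearMap.ker (avg y r)) {v : V} (hv : v ∈ T) (hf : y v = v) :
    v = 0 := by
  have := LinearMap.mem_ker.1 (hTR hv)
  rwa [avg_of_fixed hrF hf] at this

/-- In the non-self-dual case irreducible subspaces are isotropic. -/
theorem iso_of_notSelfDual (hn : NotSelfDual σ r) {U : Submodule F V} (hU : Inv y U)
    (hUR : U ≤ LinearMap.ker (avg y r)) (hUd : finrank F ↥U = orderOf ((Fintype.card F : ℕ) : ZMod r)) :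
    Iso B U := by
  haveI : FiniteDimensional F V := Module.Finite.of_finite
  haveI : Fact r.Prime := ⟨hr⟩
  refine (nd_or_iso h hr hrF hy hpres hU hUR hUd).resolve_left fun hnd => ?_
  obtain ⟨p, e, s, hp, hc, hσ, hsq, hne⟩ := hn.out
  haveI := Fact.mk hp
  have hirr := isIrr_of_finrank hr hrF hy hU hUR hUd (ordq_pos hr hrF)
  set g := mpOn hirr.2.1
  have hgy := (mpOn_dvd_iff hirr.2.1 g).1 dvd_rfl
  have h1 : ∀ v ∈ U, Polynomial.aeval (y ^ (r - 1)) (g.map σ) v = 0 := by
    intro v hv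
    refine hnd _ (aeval_inv (y := y ^ (r - 1)) (fun a ha => inv_pow hU _ a ha) _ v hv) fun u hu => h.eq_zero_symm ?_
    rw [← aeval_adjoint hy hr.pos hpres, hgy u hu, map_zero, LinearMap.zero_apply]
  set P := (g.map σ).comp (X ^ (r - 1)) with hP
  have h2 : ∀ v ∈ U, Polynomial.aeval y P v = 0 := fun v hv => by
    rw [hP, aeval_comp, map_pow, aeval_X]; exact h1 v hv
  let z := y ^ ((r - 1) * p ^ e)
  have h3 : Polynomial.aeval z g ^ p ^ e = (Polynomial.aeval y P) ^ Fintype.card F ^ s := by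
    rw [aeval_pow_frobenius e hσ, hP, aeval_comp, map_pow, aeval_X, aeval_pow_card_pow]
    have hz' : (y ^ ((r - 1) * p ^ e)) ^ p ^ e = (y ^ (r - 1)) ^ Fintype.card F ^ s := by
      rw [← pow_mul, mul_assoc, hsq, pow_mul]
    show (aeval ((y ^ ((r - 1) * p ^ e)) ^ p ^ e)) (g.map σ) = _
    rw [hz']
  have h4 : ∀ v ∈ U, Polynomial.aeval z g v = 0 := by
    have hz : Polynomial.aeval z g = Polynomial.aeval y (g.comp (X ^ ((r - 1) * p ^ e))) := by
      rw [aeval_comp, map_pow, aeval_X]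
    rw [hz] at h3 ⊢
    have hpow : ∀ k : ℕ, (∀ v ∈ U, Polynomial.aeval y (g.comp (X ^ ((r - 1) * p ^ e)) ^ k) v = 0) →
        ∀ v ∈ U, Polynomial.aeval y (g.comp (X ^ ((r - 1) * p ^ e))) v = 0 := by
      intro k
      induction k with
      | zero =>
        intro hk v hv
        have := hk v hv
        rw [pow_zero, map_one, Module.End.one_apply] at this
        rw [this, map_zero]
      | succ k ih =>
        intro hk
        rcases hirr.kills_or _ _ (fun v hv => by rw [← pow_succ]; exact hk v hv) with h' | h'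
        · exact ih h'
        · exact h'
    refine hpow (p ^ e) fun v hv => ?_
    rw [map_pow, h3]
    obtain ⟨m, hm⟩ : ∃ m, Fintype.card F ^ s = m + 1 :=
      ⟨Fintype.card F ^ s - 1, (Nat.sub_add_cancel (Nat.one_le_pow _ _ Fintype.card_pos)).symm⟩
    rw [hm, pow_succ, Module.End.mul_apply, h2 v hv, map_zero]
  obtain ⟨j, hj⟩ := exists_pow_of_kills hy hirr (fun v hv => fix_eq_zero hr hrF hy hUR hv) hUd _ h4
  apply hne j
  rw [← hj, Nat.cast_mul, Nat.cast_sub hr.one_le, ZMod.natCast_self, Nat.cast_one, zero_sub, neg_one_mul]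

/-- The block structure in the non-self-dual case. -/
theorem notSelfDual_blocks (hn : NotSelfDual σ r) :
    ∀ (T : Submodule F V), Nd B T → Inv y T → T ≤ LinearMap.ker (avg y r) →
      ∃ N, finrank F ↥T = 2 * N * orderOf ((Fintype.card F : ℕ) : ZMod r) ∧ ∀ e ≤ N,
        (∃ U, U ≤ T ∧ Inv y U ∧ Iso B U ∧ finrank F ↥U = e * orderOf ((Fintype.card F : ℕ) : ZMod r)) ∧
        (∃ U, U ≤ T ∧ Inv y U ∧ Nd B U ∧ finrank F ↥U = 2 * e * orderOf ((Fintype.card F : ℕ) : ZMod r)) := by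
  haveI : FiniteDimensional F V := Module.Finite.of_finite
  intro T
  induction hk : finrank F ↥T using Nat.strong_induction_on generalizing T with
  | h k ih =>
    intro hT hTi hTR
    subst hk
    by_cases hne : T = ⊥
    · subst hne
      refine ⟨0, by simp, fun e he => ?_⟩
      obtain rfl : e = 0 := Nat.le_zero.1 he
      exact ⟨⟨⊥, le_rfl, inv_bot y, iso_bot, by simp⟩, ⟨⊥, le_rfl, inv_bot y, nd_bot, by simp⟩⟩
    obtain ⟨U, hUT, hU, hUd⟩ := exists_irr_le hr hrF hy hTi hTR hne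
    have hUi := iso_of_notSelfDual h hr hrF hy hpres hn hU (hUT.trans hTR) hUd
    obtain ⟨U', hU', hU'T, -, -, -, hPi, hPn, hPd⟩ := exists_partner h hr hrF hy hpres hT hTi hTR hU hUT hUd hUi
    obtain ⟨hS, hsup, -, hdim⟩ := split_nd h hPn hT (sup_le hUT hU'T)
    have hpos := ordq_pos (r := r) (F := F) hr hrF
    obtain ⟨N, hN, hall⟩ := ih _ (by omega) (T ⊓ perp B (U ⊔ U')) rfl hS (inv_inf hTi (perp_inv h hpres hPi))
      (inf_le_left.trans hTR)
    refine ⟨N + 1, by rw [hdim, hPd, hN]; ring, fun e he => ?_⟩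
    rcases e with _ | e
    · exact ⟨⟨⊥, bot_le, inv_bot y, iso_bot, by simp⟩, ⟨⊥, bot_le, inv_bot y, nd_bot, by simp⟩⟩
    obtain ⟨⟨A, hA, hAi, hAiso, hAd⟩, ⟨A', hA', hA'i, hA'n, hA'd⟩⟩ := hall e (by omega)
    constructor
    · refine ⟨U ⊔ A, sup_le hUT (hA.trans inf_le_left), inv_sup hU hAi, iso_sup h hUi hAiso
        (fun u hu w hw => (hA hw).2 u (Submodule.mem_sup_left hu)), ?_⟩
      have h0 : U ⊓ A = ⊥ := le_bot_iff.1 ((inf_le_inf le_sup_left (hA.trans inf_le_right)).trans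
        (isCompl_perp h hPn).inf_eq_bot.le)
      have h1 := Submodule.finrank_sup_add_finrank_inf_eq U A
      rw [h0, finrank_bot, add_zero, hUd, hAd] at h1
      rw [h1]; ring
    · refine ⟨(U ⊔ U') ⊔ A', sup_le (sup_le hUT hU'T) (hA'.trans inf_le_left), inv_sup hPi hA'i,
        nd_sup h hPn hA'n (fun u hu w hw => (hA' hw).2 u hu), ?_⟩
      have h0 : (U ⊔ U') ⊓ A' = ⊥ := le_bot_iff.1 ((inf_le_inf le_rfl (hA'.trans inf_le_right)).trans
        (isCompl_perp h hPn).inf_eq_bot.le)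
      have h1 := Submodule.finrank_sup_add_finrank_inf_eq (U ⊔ U') A'
      rw [h0, finrank_bot, add_zero, hPd, hA'd] at h1
      rw [h1]; ring

variable {E : ℕ} (hE : SelfDualExp σ r E) (hr2 : r ≠ 2)
include hE hr2

/-- In the self-dual case there are non-degenerate irreducible subspaces. -/
theorem exists_nd_irr {T : Submodule F V} (hT : Nd B T) (hTi : Inv y T) (hTR : T ≤ LinearMap.ker (avg y r))
    (hne : T ≠ ⊥) :
    ∃ U, U ≤ T ∧ Inv y U ∧ Nd B U ∧ finrank F ↥U = orderOf ((Fintype.card F : ℕ) : ZMod r) := by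
  haveI : FiniteDimensional F V := Module.Finite.of_finite
  obtain ⟨U, hUT, hU, hUd⟩ := exists_irr_le hr hrF hy hTi hTR hne
  rcases nd_or_iso h hr hrF hy hpres hU (hUT.trans hTR) hUd with hn | hUi
  · exact ⟨U, hUT, hU, hn, hUd⟩
  by_contra hcon
  push Not at hcon
  obtain ⟨U', hU', hU'T, hU'd, hsep', hsep, hPi, hPn, hPd⟩ := exists_partner h hr hrF hy hpres hT hTi hTR hU hUT hUd hUi
  have hpos := ordq_pos (r := r) (F := F) hr hrF
  have hirr := isIrr_of_finrank hr hrF hy hU (hUT.trans hTR) hUd hpos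
  set g := mpOn hirr.2.1
  have hgU := (mpOn_dvd_iff hirr.2.1 g).1 dvd_rfl
  have hqi : (Fintype.card F : ZMod r) ^ orderOf ((Fintype.card F : ℕ) : ZMod r) = 1 := pow_orderOf_eq_one _
  have hE0 : 0 < E := by
    obtain ⟨p, e, hp, -, hpe⟩ := hE.prime_pow
    rw [hpe]; exact pow_pos hp.pos e
  have hgP : ∀ v ∈ U ⊔ U', Polynomial.aeval y g v = 0 := by
    have hU'0 : ∀ v ∈ U', Polynomial.aeval y g v = 0 := by
      have h1 : ∀ v ∈ U', (Polynomial.aeval y g ^ E) v = 0 := fun v hv => by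
        refine hsep' _ (by rw [← map_pow]; exact aeval_inv hU' _ v hv) fun u hu => ?_
        rw [← aeval_adjointE hr hE hy hpres, hgU u hu, map_zero, LinearMap.zero_apply]
      intro v hv
      have h2 : Polynomial.aeval y g = (Polynomial.aeval y g ^ E) ^ E := by
        rw [← pow_mul, hE.sq, aeval_pow_eq_self hy hr hqi]
      rw [h2]
      obtain ⟨m, hm⟩ : ∃ m, E = m + 1 := ⟨E - 1, by omega⟩
      conv_lhs => arg 1; arg 2; rw [hm]
      rw [pow_succ, Module.End.mul_apply, h1 v hv, map_zero]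
    intro v hv
    obtain ⟨a, ha, b, hb, rfl⟩ := Submodule.mem_sup.1 hv
    rw [map_add, hgU a ha, hU'0 b hb, add_zero]
  have hPT : U ⊔ U' ≤ T := sup_le hUT hU'T
  have hzero : ∀ v ∈ U ⊔ U', ∀ g' : F[X], B (Polynomial.aeval y g' v) v = 0 := by
    intro v hv g'
    by_cases hv0 : v = 0
    · simp [hv0]
    have hdeg := (natDegree_mpOn hirr).trans hUd
    obtain ⟨C, hC, hvC, hCd, hCmin⟩ := exists_cyclic (irreducible_mpOn hirr).2 (hdeg ▸ hpos) (hgP v hv)
    have hCT : C ≤ T := (hCmin _ hPi hv).trans hPT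
    obtain ⟨e, he⟩ := dvd_finrank_of_le_ker hr hrF hy hC (hCT.trans hTR)
    have hCd' : finrank F ↥C = orderOf ((Fintype.card F : ℕ) : ZMod r) := by
      rw [hdeg] at hCd
      rcases e with _ | _ | e
      · rw [mul_zero, Submodule.finrank_eq_zero] at he
        rw [he, Submodule.mem_bot] at hvC
        exact absurd hvC hv0
      · rw [he]; simp
      · rw [he, Nat.mul_succ, Nat.mul_succ] at hCd
        omega
    rcases nd_or_iso h hr hrF hy hpres hC (hCT.trans hTR) hCd' with hn | hi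
    · exact absurd hCd' (hcon C hCT hC hn)
    · exact hi _ (aeval_inv hC g' v hvC) v hvC
  have hpol : ∀ a ∈ U ⊔ U', ∀ b ∈ U ⊔ U', ∀ g' : F[X],
      B (Polynomial.aeval y g' a) b = -(ε * σ (B ((Polynomial.aeval y g' ^ E) a) b)) := by
    intro a ha b hb g'
    have h1 := hzero _ (Submodule.add_mem _ ha hb) g'
    simp only [map_add, LinearMap.add_apply, hzero a ha g', hzero b hb g', zero_add, add_zero] at h1
    rw [aeval_adjointE hr hE hy hpres g' b a, h.herm ((Polynomial.aeval y g' ^ E) a) b] at h1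
    linear_combination h1
  obtain ⟨u, hu, hu0⟩ := Submodule.exists_mem_ne_zero_of_ne_bot hirr.1
  obtain ⟨w, hw, huw⟩ : ∃ w ∈ U', B u w ≠ 0 := by
    by_contra hc
    push Not at hc
    exact hu0 (hsep u hu hc)
  have hu' : u ∈ U ⊔ U' := Submodule.mem_sup_left hu
  have hw' : w ∈ U ⊔ U' := Submodule.mem_sup_right hw
  have h1 : B u w = -(ε * σ (B u w)) := by
    have := hpol u hu' w hw' 1
    rwa [map_one, one_pow, Module.End.one_apply] at this
  by_cases hσ : ∀ a, σ a = a
  · have hε : ε = -1 := by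
      rw [hσ] at h1
      have h2 : (ε + 1) * B u w = 0 := by linear_combination h1
      exact eq_neg_of_add_eq_zero_left ((mul_eq_zero.1 h2).resolve_right huw)
    have hsame : (y ^ E) u = y u := by
      refine sub_eq_zero.1 (hPn _ (Submodule.sub_mem _ (inv_pow hPi _ _ hu') (hPi _ hu')) fun v hv => ?_)
      have := hpol u hu' v hv X
      rw [aeval_X, hσ, hε, neg_one_mul, neg_neg] at this
      rw [map_sub, LinearMap.sub_apply, this, sub_self]
    have hy1 : ((y ^ (r - 1)) : Module.End F V) u = y u := by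
      rw [← hsame]
      congr 1
      have h1 : ((E : ℕ) : ZMod r) = ((r - 1 : ℕ) : ZMod r) := by
        rw [hE.neg_one, Nat.cast_sub hr.one_le, ZMod.natCast_self, Nat.cast_one, zero_sub]
      rw [ZMod.natCast_eq_natCast_iff'] at h1
      rw [pow_eq_pow_mod E hy, h1, ← pow_eq_pow_mod (r - 1) hy]
    have h2 : y (y u) = u := by
      rw [← hy1, ← Module.End.mul_apply, ← pow_succ', Nat.sub_add_cancel hr.one_le, hy, Module.End.one_apply]
    have h3 : ∀ k, (y ^ (2 * k)) u = u := fun k => by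
      induction k with
      | zero => simp
      | succ k ih => rw [Nat.mul_succ, pow_add, Module.End.mul_apply, sq, Module.End.mul_apply, h2, ih]
    obtain ⟨k, hk⟩ := hr.odd_of_ne_two hr2
    have h4 : y u = u := by
      have h5 : y ((y ^ (2 * k)) u) = u := by
        rw [← Module.End.mul_apply, ← pow_succ', ← hk, hy, Module.End.one_apply]
      rwa [h3] at h5
    exact hu0 (fix_eq_zero hr hrF hy (hUT.trans hTR) hu h4)
  · push Not at hσ
    obtain ⟨l, hl⟩ := hσ
    have h2 := hpol u hu' (l • w) (Submodule.smul_mem _ l hw') 1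
    rw [map_one, one_pow, Module.End.one_apply, map_smul, smul_eq_mul, map_mul] at h2
    have h3 : (σ l - l) * B u w = 0 := by linear_combination -h2 + (σ l) * h1
    exact (mul_eq_zero.1 h3).elim (fun h4 => hl (sub_eq_zero.1 h4)) huw

/-- Orthogonal decomposition into non-degenerate irreducible subspaces. -/
theorem exists_orth_family :
    ∀ (N : ℕ) (T : Submodule F V), Nd B T → Inv y T → T ≤ LinearMap.ker (avg y r) →
      finrank F ↥T = N * orderOf ((Fintype.card F : ℕ) : ZMod r) →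
      ∃ U : Fin N → Submodule F V, (∀ j, U j ≤ T ∧ Inv y (U j) ∧ Nd B (U j) ∧
        finrank F ↥(U j) = orderOf ((Fintype.card F : ℕ) : ZMod r)) ∧
        ∀ j j', j ≠ j' → ∀ a ∈ U j, ∀ b ∈ U j', B a b = 0 := by
  haveI : FiniteDimensional F V := Module.Finite.of_finite
  intro N
  induction N with
  | zero => exact fun T _ _ _ _ => ⟨Fin.elim0, fun j => j.elim0, fun j => j.elim0⟩
  | succ N ih =>
    intro T hT hTi hTR hd
    have hpos := ordq_pos (r := r) (F := F) hr hrF
    obtain ⟨U₀, h0T, h0, h0n, h0d⟩ := exists_nd_irr h hr hrF hy hpres hE hr2 hT hTi hTR (fun hb => by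
      rw [hb, finrank_bot, Nat.succ_mul] at hd; omega)
    obtain ⟨hS, -, -, hdim⟩ := split_nd h h0n hT h0T
    obtain ⟨U, hU, hUo⟩ := ih (T ⊓ perp B U₀) hS (inv_inf hTi (perp_inv h hpres h0)) (inf_le_left.trans hTR)
      (by rw [Nat.succ_mul] at hd; omega)
    refine ⟨Fin.cons U₀ U, Fin.cases ⟨h0T, h0, h0n, h0d⟩ fun j => ⟨(hU j).1.trans inf_le_left, (hU j).2⟩,
      fun j j' hjj a ha b hb => ?_⟩
    induction j using Fin.cases with
    | zero =>
      induction j' using Fin.cases with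
      | zero => exact absurd rfl hjj
      | succ j' => exact ((hU j').1 (show b ∈ U j' by simpa using hb)).2 a (by simpa using ha)
    | succ j =>
      induction j' using Fin.cases with
      | zero => exact h.eq_zero_symm (((hU j).1 (show a ∈ U j by simpa using ha)).2 b (by simpa using hb))
      | succ j' => exact hUo j j' (fun he => hjj (congrArg Fin.succ he)) a (by simpa using ha) b (by simpa using hb)

/-- The structure of a non-degenerate invariant subspace without fixed vectors. -/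
theorem selfDual_nd_sub {T : Submodule F V} (hT : Nd B T) (hTi : Inv y T) (hTR : T ≤ LinearMap.ker (avg y r)) {N : ℕ}
    (hd : finrank F ↥T = N * orderOf ((Fintype.card F : ℕ) : ZMod r)) :
    ∀ e ≤ N, ∃ U, U ≤ T ∧ Inv y U ∧ Nd B U ∧
      finrank F ↥U = e * orderOf ((Fintype.card F : ℕ) : ZMod r) := by
  haveI : FiniteDimensional F V := Module.Finite.of_finite
  intro e he
  induction e with
  | zero => exact ⟨⊥, bot_le, inv_bot y, nd_bot, by simp⟩
  | succ e ih =>
    obtain ⟨U, hUT, hU, hUn, hUd⟩ := ih (Nat.le_of_succ_le he)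
    obtain ⟨hS, -, -, hdim⟩ := split_nd h hUn hT hUT
    have hpos := ordq_pos (r := r) (F := F) hr hrF
    have hlt := Nat.mul_le_mul_right (orderOf ((Fintype.card F : ℕ) : ZMod r)) he
    rw [Nat.succ_mul] at hlt
    obtain ⟨U₁, h1T, h1, h1n, h1d⟩ := exists_nd_irr h hr hrF hy hpres hE hr2 hS
      (inv_inf hTi (perp_inv h hpres hU)) (inf_le_left.trans hTR) (fun hb => by
        rw [hb, finrank_bot] at hdim; omega)
    refine ⟨U ⊔ U₁, sup_le hUT (h1T.trans inf_le_left), inv_sup hU h1,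
      nd_sup h hUn h1n (fun u hu w hw => (h1T hw).2 u hu), ?_⟩
    have h0 : U ⊓ U₁ = ⊥ := le_bot_iff.1 ((inf_le_inf le_rfl (h1T.trans inf_le_right)).trans
      (isCompl_perp h hUn).inf_eq_bot.le)
    have h2 := Submodule.finrank_sup_add_finrank_inf_eq U U₁
    rw [h0, finrank_bot, add_zero, hUd, h1d] at h2
    rw [h2, Nat.succ_mul]

/-- Two orthogonal non-degenerate irreducibles of the same type contain an isotropic one. -/
theorem exists_iso_irr_of_same {U₁ U₂ : Submodule F V}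
    (h1 : Inv y U₁) (h1R : U₁ ≤ LinearMap.ker (avg y r)) (h1n : Nd B U₁)
    (h1d : finrank F ↥U₁ = orderOf ((Fintype.card F : ℕ) : ZMod r))
    (h2 : Inv y U₂) (h2R : U₂ ≤ LinearMap.ker (avg y r)) (h2n : Nd B U₂)
    (h2d : finrank F ↥U₂ = orderOf ((Fintype.card F : ℕ) : ZMod r))
    (horth : ∀ a ∈ U₁, ∀ b ∈ U₂, B a b = 0)
    (hsame : ∀ v ∈ U₂, Polynomial.aeval y (mpOn h1) v = 0) :
    ∃ U : Submodule F V, U ≤ U₁ ⊔ U₂ ∧ Inv y U ∧ Iso B U ∧
      finrank F ↥U = orderOf ((Fintype.card F : ℕ) : ZMod r) := by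
  classical
  haveI : FiniteDimensional F V := Module.Finite.of_finite
  have hpos := ordq_pos (r := r) (F := F) hr hrF
  have hi1 := isIrr_of_finrank hr hrF hy h1 h1R h1d hpos
  have hi2 := isIrr_of_finrank hr hrF hy h2 h2R h2d hpos
  set m := mpOn h1 with hm
  haveI : Fact (Irreducible m) := ⟨(irreducible_mpOn hi1).1⟩
  have hmm : m.Monic := (irreducible_mpOn hi1).2
  have hdeg : m.natDegree = orderOf ((Fintype.card F : ℕ) : ZMod r) := (natDegree_mpOn hi1).trans h1d
  let pb := AdjoinRoot.powerBasis hmm.ne_zero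
  have hKfr : finrank F (AdjoinRoot m) = orderOf ((Fintype.card F : ℕ) : ZMod r) := by
    rw [pb.finrank]; exact hdeg
  haveI : Module.Finite F (AdjoinRoot m) := Module.finite_of_finrank_pos (by rw [hKfr]; exact hpos)
  haveI : Finite (AdjoinRoot m) := Module.finite_of_finite F
  letI : Fintype (AdjoinRoot m) := Fintype.ofFinite _
  have hkill : ∀ v ∈ U₁, Polynomial.aeval y m v = 0 := (mpOn_dvd_iff h1 m).1 dvd_rfl
  let mulOn : ∀ (U : Submodule F V) (hU : Inv y U), (∀ v ∈ U, Polynomial.aeval y m v = 0) →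
      (AdjoinRoot m →ₐ[F] Module.End F ↥U) := fun U hU hk =>
    Ideal.Quotient.liftₐ _ (Polynomial.aeval (y.restrict hU : Module.End F ↥U)) (fun g hg => by
      obtain ⟨g', rfl⟩ := Ideal.mem_span_singleton.1 hg
      refine LinearMap.ext fun v => Subtype.ext ?_
      rw [aeval_restrict, mul_comm, map_mul, Module.End.mul_apply, hk v v.2, map_zero]; rfl)
  have hmul : ∀ (U : Submodule F V) hU hk (g : F[X]) (v : ↥U),
      ((mulOn U hU hk (AdjoinRoot.mk m g)) v : V) = Polynomial.aeval y g v := fun U hU hk g v =>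
    aeval_restrict hU g v
  let f₁ := mulOn U₁ h1 hkill
  let f₂ := mulOn U₂ h2 hsame
  have hadj₁ : ∀ a (u v : ↥U₁), B ((f₁ a) u : V) v = B (u : V) ((f₁ (a ^ E)) v) := by
    intro a u v
    obtain ⟨g, rfl⟩ := AdjoinRoot.mk_surjective a
    rw [← map_pow, hmul U₁ h1 hkill, hmul U₁ h1 hkill, map_pow, aeval_adjointE hr hE hy hpres]
  have hadj₂ : ∀ a (u v : ↥U₂), B ((f₂ a) u : V) v = B (u : V) ((f₂ (a ^ E)) v) := by
    intro a u v
    obtain ⟨g, rfl⟩ := AdjoinRoot.mk_surjective a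
    rw [← map_pow, hmul U₂ h2 hsame, hmul U₂ h2 hsame, map_pow, aeval_adjointE hr hE hy hpres]
  obtain ⟨u₀, hu₀, hu₀0⟩ := Submodule.exists_mem_ne_zero_of_ne_bot hi1.1
  obtain ⟨u₂, hu₂, hu₂0⟩ := Submodule.exists_mem_ne_zero_of_ne_bot hi2.1
  have hinj₁ : Function.Injective f₁.toRingHom := by
    haveI : Nontrivial ↥U₁ := Submodule.nontrivial_iff_ne_bot.2 hi1.1
    exact f₁.toRingHom.injective
  let ev : AdjoinRoot m →ₗ[F] ↥U₁ := (LinearMap.applyₗ (⟨u₀, hu₀⟩ : ↥U₁)).comp f₁.toLinearMap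
  have hev : ∀ a, ev a = f₁ a ⟨u₀, hu₀⟩ := fun a => rfl
  have hevinj : Function.Injective ev := by
    rw [← LinearMap.ker_eq_bot, eq_bot_iff]
    intro a ha
    obtain ⟨g, rfl⟩ := AdjoinRoot.mk_surjective a
    rw [LinearMap.mem_ker, hev] at ha
    have h0 : Polynomial.aeval y g u₀ = 0 := (hmul U₁ h1 hkill g ⟨u₀, hu₀⟩).symm.trans (congrArg Subtype.val ha)
    have h3 := hi1.kills hu₀ hu₀0 h0
    rw [← mpOn_dvd_iff h1] at h3
    exact (Submodule.mem_bot F).2 (AdjoinRoot.mk_eq_zero.2 h3)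
  have hevsurj : Function.Surjective ev :=
    (LinearMap.injective_iff_surjective_of_finrank_eq_finrank (by rw [hKfr, h1d])).1 hevinj
  -- every functional on the field is given by a vector of `U₁`
  let Φ : AdjoinRoot m → (AdjoinRoot m →ₗ[F] F) := fun k =>
    (B ((ev k : ↥U₁) : V)).comp (U₁.subtype.comp ev)
  have hΦinj : Function.Injective Φ := by
    intro k k' hkk
    refine hevinj (Subtype.ext ?_)
    refine sub_eq_zero.1 (h1n _ (U₁.sub_mem (ev k).2 (ev k').2) fun v hv => ?_)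
    obtain ⟨a, ha⟩ := hevsurj ⟨v, hv⟩
    have := LinearMap.congr_fun hkk a
    simp only [Φ, LinearMap.comp_apply, Submodule.subtype_apply, ha] at this
    rw [map_sub, LinearMap.sub_apply, this, sub_self]
  haveI : Finite (AdjoinRoot m →ₗ[F] F) := Module.finite_of_finite F
  have hΦsurj : Function.Surjective Φ := (hΦinj.bijective_of_nat_card_le (by
    rw [Module.natCard_eq_pow_finrank (K := F) (V := AdjoinRoot m →ₗ[F] F),
      Module.natCard_eq_pow_finrank (K := F) (V := AdjoinRoot m), Module.finrank_linearMap,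
      Module.finrank_self, mul_one])).2
  obtain ⟨k, hk⟩ := hΦsurj ((B u₂).comp (U₂.subtype.comp
    ((LinearMap.applyₗ (⟨u₂, hu₂⟩ : ↥U₂)).comp f₂.toLinearMap)))
  have hk' : ∀ a, B ((ev k : ↥U₁) : V) ((ev a : ↥U₁) : V) = B u₂ ((f₂ a ⟨u₂, hu₂⟩ : ↥U₂) : V) :=
    fun a => LinearMap.congr_fun hk a
  have hE0 : 0 < E := by
    obtain ⟨p, e, hp, -, hpe⟩ := hE.prime_pow
    rw [hpe]; exact pow_pos hp.pos e
  have hEE : ∀ a : AdjoinRoot m, (a ^ E) ^ E = a := fun a => by
    rw [← pow_mul, hE.sq, ← hKfr, ← Module.card_eq_pow_finrank, FiniteField.pow_card]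
  -- `B (k u₀) (a u₀) = B u₀ (k ^ E * a • u₀)`
  have hmove : ∀ a b : AdjoinRoot m, B ((ev a : ↥U₁) : V) ((ev b : ↥U₁) : V) =
      B u₀ ((ev (a ^ E * b) : ↥U₁) : V) := fun a b => by
    rw [hev, hev, hev, hadj₁, ← Module.End.mul_apply, ← map_mul]
  have hkfix : k ^ E = k := by
    refine hevinj (Subtype.ext ?_)
    refine sub_eq_zero.1 (h1n _ (U₁.sub_mem (ev _).2 (ev _).2) fun v hv => ?_)
    obtain ⟨c, hc⟩ := hevsurj ⟨v, hv⟩
    obtain ⟨a, rfl⟩ : ∃ a, a ^ E = c := ⟨c ^ E, hEE c⟩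
    have e2 : B u₂ ((f₂ (a ^ E) ⟨u₂, hu₂⟩ : ↥U₂) : V) = ε * σ (B u₂ ((f₂ a ⟨u₂, hu₂⟩ : ↥U₂) : V)) := by
      rw [← hadj₂ a ⟨u₂, hu₂⟩ ⟨u₂, hu₂⟩, h.herm u₂]
    rw [← hk', ← hk', hmove, hmove] at e2
    have e3 : ε * σ (B u₀ ((ev (k ^ E * a) : ↥U₁) : V)) = B ((ev (k ^ E * a) : ↥U₁) : V) u₀ :=
      (h.herm u₀ _).symm
    rw [e3, hev (k ^ E * a), hadj₁ (k ^ E * a) ⟨u₀, hu₀⟩ ⟨u₀, hu₀⟩, ← hev, mul_pow, hEE] at e2
    -- `e2 : B u₀ ((k ^ E * c) u₀) = B u₀ ((k * c) u₀)`
    show B (((ev (k ^ E) : ↥U₁) : V) - ((ev k : ↥U₁) : V)) v = 0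
    rw [show v = ((ev (a ^ E) : ↥U₁) : V) from (congrArg Subtype.val hc).symm, map_sub, LinearMap.sub_apply,
      hmove, hmove, hEE, ← e2, sub_self]
  have hk0 : k ≠ 0 := by
    rintro rfl
    refine hu₂0 (h2n u₂ hu₂ fun v hv => ?_)
    by_contra hne
    have hgen : ∃ a, ((f₂ a ⟨u₂, hu₂⟩ : ↥U₂) : V) = v := by
      let ev₂ : AdjoinRoot m →ₗ[F] ↥U₂ := (LinearMap.applyₗ (⟨u₂, hu₂⟩ : ↥U₂)).comp f₂.toLinearMap
      have hinj2 : Function.Injective ev₂ := by
        haveI : Nontrivial ↥U₂ := Submodule.nontrivial_iff_ne_bot.2 hi2.1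
        rw [← LinearMap.ker_eq_bot, eq_bot_iff]
        intro a ha
        by_contra ha0
        have h4 : f₂ a⁻¹ (f₂ a ⟨u₂, hu₂⟩) = ⟨u₂, hu₂⟩ := by
          rw [← Module.End.mul_apply, ← map_mul, inv_mul_cancel₀ (fun h0 => ha0 ((Submodule.mem_bot F).2 h0)),
            map_one, Module.End.one_apply]
        rw [show f₂ a ⟨u₂, hu₂⟩ = 0 from LinearMap.mem_ker.1 ha, map_zero] at h4
        exact hu₂0 (congrArg Subtype.val h4).symm
      obtain ⟨a, ha⟩ := (LinearMap.injective_iff_surjective_of_finrank_eq_finrank (by rw [hKfr, h2d])).1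
        hinj2 ⟨v, hv⟩
      exact ⟨a, congrArg Subtype.val ha⟩
    obtain ⟨a, ha⟩ := hgen
    apply hne
    rw [← ha, ← hk', map_zero ev, ZeroMemClass.coe_zero, map_zero, LinearMap.zero_apply]
  -- a norm equation
  obtain ⟨b, hb⟩ : ∃ b : AdjoinRoot m, k * b ^ (E + 1) = -1 := by
    have hc : (-k⁻¹) ^ E = -k⁻¹ := by
      obtain ⟨p, e, hp, hcp, hpe⟩ := hE.prime_pow
      haveI := Fact.mk hp
      haveI : CharP (AdjoinRoot m) p := charP_of_injective_algebraMap (algebraMap F (AdjoinRoot m)).injective p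
      have hneg : (-1 : AdjoinRoot m) ^ E = -1 := by
        rw [hpe, ← iterateFrobenius_def (R := AdjoinRoot m) p e, map_neg, map_one]
      rw [← neg_one_mul k⁻¹, mul_pow, hneg, _root_.inv_pow, hkfix]
    have hc0 : -k⁻¹ ≠ 0 := neg_ne_zero.2 (inv_ne_zero hk0)
    have hcE : (-k⁻¹) ^ (E - 1) = 1 := by
      refine mul_right_cancel₀ hc0 ?_
      rw [← pow_succ, Nat.sub_add_cancel hE0, hc, one_mul]
    obtain ⟨g, hg⟩ := IsCyclic.exists_monoid_generator (α := (AdjoinRoot m)ˣ)
    have hog : orderOf g = (E - 1) * (E + 1) := by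
      rw [orderOf_eq_card_of_forall_mem_zpowers fun x => mem_powers_iff_mem_zpowers.1 (hg x), Nat.card_units,
        Module.natCard_eq_pow_finrank (K := F) (V := AdjoinRoot m), hKfr, Nat.card_eq_fintype_card, ← hE.sq,
        Nat.sub_mul]
      obtain ⟨m', rfl⟩ : ∃ m', E = m' + 1 := ⟨E - 1, by omega⟩
      ring_nf
      omega
    obtain ⟨a, ha⟩ := Submonoid.mem_powers_iff _ _ |>.1 (hg (Units.mk0 _ hc0))
    have hdvd : (E - 1) * (E + 1) ∣ (E - 1) * a := by
      rw [← hog]
      refine orderOf_dvd_of_pow_eq_one (Units.ext ?_)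
      rw [mul_comm, pow_mul, ha, Units.val_pow_eq_pow_val, Units.val_mk0, hcE, Units.val_one]
    have hE1 : 0 < E - 1 := by
      by_contra h0
      have hE1 : E = 1 := by omega
      have := hE.sq
      rw [hE1] at this
      have h5 := Nat.one_lt_pow hpos.ne' (Fintype.one_lt_card (α := F))
      omega
    obtain ⟨a', rfl⟩ := Nat.dvd_of_mul_dvd_mul_left hE1 hdvd
    refine ⟨((g ^ a' : (AdjoinRoot m)ˣ) : AdjoinRoot m), ?_⟩
    have h6 := congrArg Units.val ha
    rw [Units.val_pow_eq_pow_val, Units.val_mk0] at h6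
    rw [Units.val_pow_eq_pow_val, ← pow_mul, mul_comm a', h6, mul_neg, mul_inv_cancel₀ hk0]
  -- the isotropic vector
  set w : ↥U₂ := f₂ b ⟨u₂, hu₂⟩
  set v : V := u₀ + (w : V) with hv
  have hsum : ∀ g' : F[X], B v (Polynomial.aeval y g' v) = 0 := by
    intro g'
    have e1 : Polynomial.aeval y g' u₀ = ((ev (AdjoinRoot.mk m g') : ↥U₁) : V) := (hmul U₁ h1 hkill g' ⟨u₀, hu₀⟩).symm
    have e2 : Polynomial.aeval y g' (w : V) = ((f₂ (AdjoinRoot.mk m g') w : ↥U₂) : V) := (hmul U₂ h2 hsame g' _).symm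
    rw [hv, map_add (Polynomial.aeval y g'), e1, e2]
    simp only [map_add, LinearMap.add_apply]
    rw [horth u₀ hu₀ _ (Subtype.prop _), h.eq_zero_symm (horth _ (Subtype.prop _) _ w.2), add_zero, zero_add]
    have e3 : B (w : V) ((f₂ (AdjoinRoot.mk m g') w : ↥U₂) : V) =
        B u₂ ((f₂ (b ^ E * (AdjoinRoot.mk m g' * b)) ⟨u₂, hu₂⟩ : ↥U₂) : V) := by
      rw [show w = f₂ b ⟨u₂, hu₂⟩ from rfl, hadj₂, ← Module.End.mul_apply, ← Module.End.mul_apply, ← map_mul,
        ← map_mul, mul_assoc]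
    rw [e3, ← hk', hmove, hkfix, show k * (b ^ E * (AdjoinRoot.mk m g' * b)) =
      (k * b ^ (E + 1)) * AdjoinRoot.mk m g' by ring, hb, neg_one_mul, map_neg ev, Submodule.coe_neg, map_neg]
    exact add_neg_cancel _
  have hv0 : v ≠ 0 := by
    intro hv0
    refine hu₀0 (h1n u₀ hu₀ fun z hz => ?_)
    rw [show u₀ = -(w : V) from eq_neg_of_add_eq_zero_left hv0, map_neg, LinearMap.neg_apply,
      h.eq_zero_symm (horth z hz _ w.2), neg_zero]
  have hvU : v ∈ U₁ ⊔ U₂ := Submodule.add_mem_sup hu₀ w.2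
  obtain ⟨C, hC, hvC, hCd, hCmin⟩ := exists_cyclic hmm (hdeg ▸ hpos) (u := v) (by
    rw [hv, map_add, hkill _ hu₀, hsame _ w.2, add_zero])
  have hCU : C ≤ U₁ ⊔ U₂ := hCmin _ (inv_sup h1 h2) hvU
  have hCR : C ≤ LinearMap.ker (avg y r) := hCU.trans (sup_le h1R h2R)
  obtain ⟨e, he⟩ := dvd_finrank_of_le_ker hr hrF hy hC hCR
  have hCd' : finrank F ↥C = orderOf ((Fintype.card F : ℕ) : ZMod r) := by
    rw [hdeg] at hCd
    rcases e with _ | _ | e
    · rw [mul_zero, Submodule.finrank_eq_zero] at he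
      rw [he, Submodule.mem_bot] at hvC
      exact absurd hvC hv0
    · rw [he]; simp
    · rw [he, Nat.mul_succ, Nat.mul_succ] at hCd
      omega
  refine ⟨C, hCU, hC, (nd_or_iso h hr hrF hy hpres hC hCR hCd').resolve_left fun hn => ?_, hCd'⟩
  refine hv0 (hn v hvC fun z hz => ?_)
  -- every element of `C` is a polynomial in `y` applied to `v`
  have hz' : ∃ g' : F[X], z = Polynomial.aeval y g' v := by
    let S : Submodule F V := LinearMap.range ((LinearMap.applyₗ v).comp (Polynomial.aeval y).toLinearMap)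
    have hSinv : Inv y S := by
      rintro _ ⟨g', rfl⟩
      exact ⟨X * g', by simp⟩
    obtain ⟨g', hg'⟩ := hCmin S hSinv ⟨1, by simp⟩ hz
    exact ⟨g', hg'.symm⟩
  obtain ⟨g', rfl⟩ := hz'
  exact hsum g'

/-- Isotropic invariant subspaces in the self-dual case. -/
theorem selfDual_iso_sub :
    ∀ (e : ℕ) (T : Submodule F V) (N : ℕ), Nd B T → Inv y T → T ≤ LinearMap.ker (avg y r) →
      finrank F ↥T = N * orderOf ((Fintype.card F : ℕ) : ZMod r) →
      2 * e + (r - 1) / orderOf ((Fintype.card F : ℕ) : ZMod r) ≤ N + 1 →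
      ∃ U, U ≤ T ∧ Inv y U ∧ Iso B U ∧ finrank F ↥U = e * orderOf ((Fintype.card F : ℕ) : ZMod r) := by
  classical
  haveI : FiniteDimensional F V := Module.Finite.of_finite
  intro e
  induction e with
  | zero => exact fun T _ _ _ _ _ _ => ⟨⊥, bot_le, inv_bot y, iso_bot, by simp⟩
  | succ e ih =>
    intro T N hT hTi hTR hd hN
    have hpos := ordq_pos (r := r) (F := F) hr hrF
    obtain ⟨U, hU, hUo⟩ := exists_orth_family h hr hrF hy hpres hE hr2 N T hT hTi hTR hd
    have hirr : ∀ j, IsIrr y (U j) := fun j =>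
      isIrr_of_finrank hr hrF hy (hU j).2.1 ((hU j).1.trans hTR) (hU j).2.2.2 hpos
    obtain ⟨j, j', hjj, hsame⟩ : ∃ j j', j ≠ j' ∧ mpOn (hU j).2.1 = mpOn (hU j').2.1 := by
      by_contra hcon
      push Not at hcon
      let Φ : F[X] := ∑ k ∈ Finset.range r, X ^ k
      have hdiv : ∀ j, mpOn (hU j).2.1 ∣ Φ := fun j => (mpOn_dvd_iff _ _).2 fun v hv => by
        have h1 := LinearMap.mem_ker.1 (hTR ((hU j).1 hv))
        rw [avg_apply, smul_eq_zero] at h1
        simp only [Φ, map_sum, map_pow, aeval_X, LinearMap.sum_apply]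
        exact h1.resolve_left (inv_ne_zero hrF)
      have hprod : (∏ j, mpOn (hU j).2.1) ∣ Φ := by
        refine Finset.prod_dvd_of_coprime (fun a _ b _ hab => ?_) fun j _ => hdiv j
        refine ((irreducible_mpOn (hirr a)).1.coprime_iff_not_dvd).2 fun hd' => hcon a b hab ?_
        exact eq_of_monic_of_associated (irreducible_mpOn (hirr a)).2 (irreducible_mpOn (hirr b)).2
          ((irreducible_mpOn (hirr a)).1.associated_of_dvd (irreducible_mpOn (hirr b)).1 hd')
      have hΦ : Φ.natDegree = r - 1 ∧ Φ ≠ 0 := by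
        have hm : Φ.Monic := monic_geom_sum_X hr.ne_zero
        refine ⟨?_, hm.ne_zero⟩
        have h1 : Φ * (X - 1) = X ^ r - 1 := geom_sum_mul X r
        have h2 := congrArg natDegree h1
        rw [show (X : F[X]) - 1 = X - C 1 by rw [map_one], natDegree_mul hm.ne_zero (X_sub_C_ne_zero 1),
          natDegree_X_sub_C, show (X : F[X]) ^ r - 1 = X ^ r - C 1 by rw [map_one], natDegree_X_pow_sub_C] at h2
        omega
      have h3 := natDegree_le_of_dvd hprod hΦ.2
      rw [natDegree_prod_of_monic _ _ (fun j _ => (irreducible_mpOn (hirr j)).2),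
        Finset.sum_congr rfl (fun j _ => (natDegree_mpOn (hirr j)).trans (hU j).2.2.2), Finset.sum_const,
        Finset.card_univ, Fintype.card_fin, smul_eq_mul, hΦ.1] at h3
      have := (Nat.le_div_iff_mul_le hpos).2 h3
      omega
    obtain ⟨W, hWU, hW, hWi, hWd⟩ := exists_iso_irr_of_same h hr hrF hy hpres hE hr2 (hU j).2.1 ((hU j).1.trans hTR)
      (hU j).2.2.1 (hU j).2.2.2 (hU j').2.1 ((hU j').1.trans hTR) (hU j').2.2.1 (hU j').2.2.2 (hUo j j' hjj)
      (by rw [hsame]; exact (mpOn_dvd_iff _ _).1 dvd_rfl)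
    have hWT : W ≤ T := hWU.trans (sup_le (hU j).1 (hU j').1)
    obtain ⟨W', hW', hW'T, -, -, -, hPi, hPn, hPd⟩ := exists_partner h hr hrF hy hpres hT hTi hTR hW hWT hWd hWi
    obtain ⟨hS, -, -, hdim⟩ := split_nd h hPn hT (sup_le hWT hW'T)
    have hN2 : 2 ≤ N := by
      by_contra h2
      have := Nat.mul_le_mul_right (orderOf ((Fintype.card F : ℕ) : ZMod r)) (show N ≤ 1 by omega)
      omega
    have hsub : N * orderOf ((Fintype.card F : ℕ) : ZMod r) =
        (N - 2) * orderOf ((Fintype.card F : ℕ) : ZMod r) + 2 * orderOf ((Fintype.card F : ℕ) : ZMod r) := by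
      rw [← add_mul, Nat.sub_add_cancel hN2]
    obtain ⟨A, hA, hAi, hAiso, hAd⟩ := ih (T ⊓ perp B (W ⊔ W')) (N - 2) hS (inv_inf hTi (perp_inv h hpres hPi))
      (inf_le_left.trans hTR) (by omega) (by omega)
    refine ⟨W ⊔ A, sup_le hWT (hA.trans inf_le_left), inv_sup hW hAi, iso_sup h hWi hAiso
      (fun u hu w hw => (hA hw).2 u (Submodule.mem_sup_left hu)), ?_⟩
    have h0 : W ⊓ A = ⊥ := le_bot_iff.1 ((inf_le_inf le_sup_left (hA.trans inf_le_right)).trans
      (isCompl_perp h hPn).inf_eq_bot.le)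
    have h1 := Submodule.finrank_sup_add_finrank_inf_eq W A
    rw [h0, finrank_bot, add_zero, hWd, hAd] at h1
    rw [h1]; ring

end Good

end Cfsg.Agent.Lib.Elusive
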