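import Mathlib
import Cfsg.Agent.Lib.Elusive.FormBlocks
import Cfsg.Agent.Lib.Forms.Witt

/-! Block sizes of isometries of prime order and the resulting congruences for numbers of subspaces. -/

set_option autoImplicit false
set_option linter.style.haveILetI false
set_option linter.unusedSectionVars false

namespace Cfsg.Agent.Lib.Elusive

open Module Cfsg.Agent.Lib.Forms

variable {F : Type*} [Field F] [Fintype F] {σ : F →+* F} {V : Type*} [AddCommGroup V] [Module F V]
  {B : V →ₛₗ[σ] V →ₗ[F] F} {ε : F} {r : ℕ} {y : Module.End F V}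

/-- `c` is the dimension of a block of isometries of order `r`. -/
def BlockSize (σ : F →+* F) (r c : ℕ) : Prop :=
  (r ≠ 2 ∧ (∃ E, SelfDualExp σ r E) ∧ c = orderOf ((Fintype.card F : ℕ) : ZMod r)) ∨
    (NotSelfDual σ r ∧ c = 2 * orderOf ((Fintype.card F : ℕ) : ZMod r))

variable [Finite V] (h : IsGoodForm B ε) (hr : r.Prime) (hrF : (r : F) ≠ 0) {c : ℕ} (hc : BlockSize σ r c)
include h hr hrF hc

/-- Non-degenerate invariant subspaces without fixed vectors. -/
theorem nd_blocks (hy : y ^ r = 1) (hpres : ∀ u v, B (y u) (y v) = B u v) {T : Submodule F V} (hT : Nd B T)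
    (hTi : Inv y T) (hTR : T ≤ LinearMap.ker (avg y r)) :
    ∃ N, finrank F ↥T = N * c ∧ ∀ e ≤ N, ∃ U, U ≤ T ∧ Inv y U ∧ Nd B U ∧ finrank F ↥U = e * c := by
  rcases hc with ⟨hr2, ⟨E, hE⟩, rfl⟩ | ⟨hn, rfl⟩
  · obtain ⟨N, hN⟩ := dvd_finrank_of_le_ker hr hrF hy hTi hTR
    exact ⟨N, hN.trans (mul_comm _ _), selfDual_nd_sub h hr hrF hy hpres hE hr2 hT hTi hTR (hN.trans (mul_comm _ _))⟩
  · obtain ⟨N, hN, hall⟩ := notSelfDual_blocks h hr hrF hy hpres hn T hT hTi hTR
    refine ⟨N, hN.trans (by ring), fun e he => ?_⟩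
    obtain ⟨U, h1, h2, h3, h4⟩ := (hall e he).2
    exact ⟨U, h1, h2, h3, h4.trans (by ring)⟩

theorem blockSize_pos : 0 < c := by
  rcases hc with ⟨-, -, rfl⟩ | ⟨-, rfl⟩
  · exact ordq_pos hr hrF
  · have := ordq_pos (F := F) hr hrF; omega

/-- A non-trivial isometry of order `r` moves at least a block. -/
theorem exists_blocks (hy : y ^ r = 1) (hpres : ∀ u v, B (y u) (y v) = B u v) :
    ∃ N, finrank F ↥(LinearMap.ker (avg y r)) = N * c ∧ finrank F ↥(fix1 y) + N * c = finrank F V ∧
      (y ≠ 1 → 1 ≤ N) := by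
  haveI : FiniteDimensional F V := Module.Finite.of_finite
  obtain ⟨-, hR⟩ := nd_parts h hy hpres hrF (T := ⊤) (nd_top h) (fun v _ => Submodule.mem_top)
  rw [top_inf_eq] at hR
  obtain ⟨N, hN, -⟩ := nd_blocks h hr hrF hc hy hpres hR inv_ker_avg le_rfl
  refine ⟨N, hN, hN ▸ finrank_fix1_add hy hrF, fun hne => Nat.pos_of_ne_zero fun h0 => hne ?_⟩
  have h1 := finrank_fix1_add hy hrF
  rw [hN, h0, zero_mul, add_zero] at h1
  have h2 : fix1 y = ⊤ := Submodule.eq_top_of_finrank_eq h1
  exact LinearMap.ext fun v => mem_fix1.1 (h2 ▸ Submodule.mem_top)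

/-- The number of objects is prime to `r` if an isometry with small fixed space has enough of them. -/
theorem not_dvd_natCard_obj {κ : Type*} [Finite κ] (Obj : (κ → Submodule F V) → Prop) (hy : y ^ r = 1)
    (hpres : ∀ u v, B (y u) (y v) = B u v) (hsmall : finrank F ↥(fix1 y) < c)
    (hinv : ∀ e : V ≃ₗ[F] V, (∀ u v, B (e u) (e v) = B u v) → ∀ D, Obj D →
      Obj (fun j => (D j).map (e : V →ₗ[F] V)))
    (hfix : ∀ D, Obj D → (∀ j, Inv y (D j)) → ∀ j, D j ≤ fix1 y)
    (hne : ∃ D, Obj D ∧ ∀ j, D j ≤ fix1 y)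
    (htr : ∀ D D', Obj D → Obj D' → (∀ j, D j ≤ fix1 y) → (∀ j, D' j ≤ fix1 y) →
      ∃ e : V ≃ₗ[F] V, (∀ u v, B (e u) (e v) = B u v) ∧ (∀ v ∈ LinearMap.ker (avg y r), e v = v) ∧
        ∀ j, (D j).map (e : V →ₗ[F] V) = D' j) :
    ¬ r ∣ Nat.card {D : κ → Submodule F V // Obj D} := by
  classical
  haveI : FiniteDimensional F V := Module.Finite.of_finite
  haveI : Fact r.Prime := ⟨hr⟩
  haveI : Finite (V ≃ₗ[F] V) := Finite.of_injective (fun g => (g : V → V)) DFunLike.coe_injective
  have hinj := h.injective_of_preserves hpres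
  -- the isometries
  let G : Subgroup (V ≃ₗ[F] V) :=
    { carrier := {e | ∀ u v, B (e u) (e v) = B u v}
      mul_mem' := fun {a b} ha hb u v => by rw [LinearEquiv.mul_apply, LinearEquiv.mul_apply, ha, hb]
      one_mem' := fun u v => rfl
      inv_mem' := fun {a} ha u v => by
        have h1 := ha (a.symm u) (a.symm v)
        rw [LinearEquiv.apply_symm_apply, LinearEquiv.apply_symm_apply] at h1
        exact h1.symm }
  let X := {D : κ → Submodule F V // Obj D}
  haveI : Finite (Submodule F V) := Finite.of_injective (fun W => (W : Set V)) SetLike.coe_injective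
  letI : MulAction G X :=
    { smul := fun e D => ⟨fun j => (D.1 j).map (e.1 : V →ₗ[F] V), hinv e.1 e.2 D.1 D.2⟩
      one_smul := fun D => Subtype.ext (funext fun j => Submodule.map_id _)
      mul_smul := fun e e' D => Subtype.ext (funext fun j => by
        show (D.1 j).map ((e.1 * e'.1 : V ≃ₗ[F] V) : V →ₗ[F] V) = _
        exact (Submodule.map_comp _ _ _)) }
  have hsmul : ∀ (e : G) (D : X) j, (e • D).1 j = (D.1 j).map (e.1 : V →ₗ[F] V) := fun _ _ _ => rfl
  -- `y` as an isometry
  let ye : G := ⟨LinearEquiv.ofInjectiveEndo y hinj, hpres⟩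
  have hyeq : ((ye.1 : V ≃ₗ[F] V) : V →ₗ[F] V) = y := LinearMap.ext fun v => rfl
  have hyer : ye ^ r = 1 := by
    refine Subtype.ext (LinearEquiv.ext fun v => ?_)
    have hpow : ∀ k : ℕ, ((ye.1 ^ k : V ≃ₗ[F] V)) v = (y ^ k) v := fun k => by
      induction k with
      | zero => rfl
      | succ k ih => rw [pow_succ', pow_succ', LinearEquiv.mul_apply, Module.End.mul_apply, ih]; rfl
    rw [SubgroupClass.coe_pow, hpow, hy]; rfl
  have hY : IsPGroup r (Subgroup.zpowers ye) := by
    refine IsPGroup.of_card_dvd_pow (n := 1) ?_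
    rw [Nat.card_zpowers, pow_one]
    exact orderOf_dvd_of_pow_eq_one hyer
  have hfp : ∀ D : X, D ∈ MulAction.fixedPoints (Subgroup.zpowers ye) X ↔ ∀ j, D.1 j ≤ fix1 y := by
    intro D
    constructor
    · intro hD
      have h1 : ye • D = D := hD ⟨ye, Subgroup.mem_zpowers ye⟩
      refine hfix D.1 D.2 fun j => (inv_iff_map_le _ _).2 ?_
      rw [← hyeq, ← hsmul, h1]
    · intro hD g
      obtain ⟨g, hg⟩ := g
      have h1 : ye ∈ MulAction.stabilizer G D := by
        refine MulAction.mem_stabilizer_iff.2 (Subtype.ext (funext fun j => ?_))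
        rw [hsmul, hyeq]
        refine le_antisymm ?_ fun v hv => ⟨v, hv, mem_fix1.1 (hD j hv)⟩
        rintro _ ⟨v, hv, rfl⟩
        rwa [mem_fix1.1 (hD j hv)]
      exact Subgroup.zpowers_le.2 h1 hg
  -- isometries that are trivial off the fixed space
  let H : Subgroup G :=
    { carrier := {e | ∀ v ∈ LinearMap.ker (avg y r), e.1 v = v}
      mul_mem' := fun {a b} ha hb v hv => by
        rw [Subgroup.coe_mul, LinearEquiv.mul_apply, hb v hv, ha v hv]
      one_mem' := fun v hv => rfl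
      inv_mem' := fun {a} ha v hv => by
        rw [Subgroup.coe_inv]
        exact (LinearEquiv.symm_apply_eq _).2 (ha v hv).symm }
  have hHr : ¬ r ∣ Nat.card H := by
    intro hdvd
    obtain ⟨g, hg⟩ := exists_prime_orderOf_dvd_card' r hdvd
    set g' : Module.End F V := (g.1.1 : V →ₗ[F] V)
    have hgpow : ∀ (k : ℕ) (v : V), (g' ^ k) v = ((g ^ k).1.1 : V ≃ₗ[F] V) v := fun k => by
      induction k with
      | zero => intro v; rfl
      | succ k ih => intro v; rw [pow_succ', pow_succ', Module.End.mul_apply, ih]; rfl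
    have hg1 : g' ^ r = 1 := LinearMap.ext fun v => by rw [hgpow, ← hg, pow_orderOf_eq_one]; rfl
    have hgne : g' ≠ 1 := by
      intro h1
      have : g = 1 := Subtype.ext (Subtype.ext (LinearEquiv.ext fun v => LinearMap.congr_fun h1 v))
      rw [this, orderOf_one] at hg
      exact hr.ne_one hg.symm
    obtain ⟨N, hN, -, hN1⟩ := exists_blocks h hr hrF hc hg1 g.1.2
    have hle : LinearMap.ker (avg g' r) ≤ perp B (LinearMap.ker (avg y r)) := fun v hv u hu =>
      fix1_perp_ker h g.1.2 hrF (mem_fix1.2 (g.2 u hu)) hv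
    have h1 := h.finrank_add_finrank_perp (LinearMap.ker (avg y r))
    have h2 := Submodule.finrank_mono hle
    have h3 := finrank_fix1_add hy hrF
    have h4 := Nat.le_mul_of_pos_left c (hN1 hgne)
    omega
  obtain ⟨D₀, hD₀, hD₀f⟩ := hne
  have horb : MulAction.fixedPoints (Subgroup.zpowers ye) X = MulAction.orbit H (⟨D₀, hD₀⟩ : X) := by
    ext D
    rw [hfp]
    constructor
    · intro hD
      obtain ⟨e, he, heR, hem⟩ := htr D₀ D.1 hD₀ D.2 hD₀f hD
      exact ⟨⟨⟨e, he⟩, heR⟩, Subtype.ext (funext fun j => hem j)⟩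
    · rintro ⟨e, rfl⟩ j
      show (D₀ j).map ((e.1.1 : V ≃ₗ[F] V) : V →ₗ[F] V) ≤ fix1 y
      rintro _ ⟨v, hv, rfl⟩
      -- the isometry maps `perp` of the moved part to itself
      have hperp : ∀ w, w ∈ fix1 y ↔ w ∈ perp B (LinearMap.ker (avg y r)) := by
        have hle : fix1 y ≤ perp B (LinearMap.ker (avg y r)) := fun w hw u hu =>
          h.eq_zero_symm (fix1_perp_ker h hpres hrF hw hu)
        have heq : fix1 y = perp B (LinearMap.ker (avg y r)) := Submodule.eq_of_le_of_finrank_eq hle (by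
          have h1 := h.finrank_add_finrank_perp (LinearMap.ker (avg y r))
          have h3 := finrank_fix1_add hy hrF
          omega)
        exact fun w => by rw [heq]
      rw [hperp]
      intro u hu
      have h1 := e.1.2 u v
      rw [e.2 u hu] at h1
      rw [LinearEquiv.coe_coe, h1]
      exact (hperp v).1 (hD₀f j hv) u hu
  intro hdvd
  have hmod := hY.card_modEq_card_fixedPoints X
  have hdvd' : r ∣ Nat.card (MulAction.fixedPoints (Subgroup.zpowers ye) X) :=
    Nat.modEq_zero_iff_dvd.1 (hmod.symm.trans (Nat.modEq_zero_iff_dvd.2 hdvd))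
  rw [horb, Nat.card_congr (MulAction.orbitEquivQuotientStabilizer H (⟨D₀, hD₀⟩ : X))] at hdvd'
  exact hHr (hdvd'.trans (Subgroup.index_dvd_card _))

omit hc hr in
/-- Witt: families in the fixed space with the same Gram matrix are related fixing the moved part. -/
theorem exists_isometry_move (hy : y ^ r = 1) (hpres : ∀ u v, B (y u) (y v) = B u v) {m : ℕ} (f f' : Fin m → V)
    (hf : LinearIndependent F f) (hf' : LinearIndependent F f') (hff : ∀ i, f i ∈ fix1 y) (hff' : ∀ i, f' i ∈ fix1 y)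
    (hgram : ∀ i j, B (f i) (f j) = B (f' i) (f' j)) :
    ∃ e : V ≃ₗ[F] V, (∀ u v, B (e u) (e v) = B u v) ∧ (∀ v ∈ LinearMap.ker (avg y r), e v = v) ∧
      ∀ i, e (f i) = f' i := by
  classical
  haveI : FiniteDimensional F V := Module.Finite.of_finite
  set R := LinearMap.ker (avg y r) with hR
  let b := Module.finBasis F ↥R
  let g : Fin (finrank F ↥R) → V := fun i => b i
  have hg : LinearIndependent F g := b.linearIndependent.map' R.subtype R.ker_subtype
  have hdisj : ∀ φ : Fin m → V, (∀ i, φ i ∈ fix1 y) →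
      Disjoint (Submodule.span F (Set.range φ)) (Submodule.span F (Set.range g)) := fun φ hφ => by
    refine disjoint_iff.2 (le_bot_iff.1 (le_trans (inf_le_inf ?_ ?_) (fix1_inf_ker_avg (y := y) hrF).le))
    · rw [Submodule.span_le]; rintro _ ⟨i, rfl⟩; exact hφ i
    · rw [Submodule.span_le]; rintro _ ⟨i, rfl⟩; exact (b i).2
  let F₁ : Fin (m + finrank F ↥R) → V := Sum.elim f g ∘ finSumFinEquiv.symm
  let F₂ : Fin (m + finrank F ↥R) → V := Sum.elim f' g ∘ finSumFinEquiv.symm
  have hl₁ : LinearIndependent F F₁ := (hf.sum_type hg (hdisj f hff)).comp _ finSumFinEquiv.symm.injective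
  have hl₂ : LinearIndependent F F₂ := (hf'.sum_type hg (hdisj f' hff')).comp _ finSumFinEquiv.symm.injective
  obtain ⟨e, he, hem⟩ := h.witt_family F₁ F₂ hl₁ hl₂ fun i j => by
    obtain ⟨i, rfl⟩ := finSumFinEquiv.surjective i
    obtain ⟨j, rfl⟩ := finSumFinEquiv.surjective j
    simp only [F₁, F₂, Function.comp_apply, Equiv.symm_apply_apply]
    rcases i with i | i <;> rcases j with j | j <;> simp only [Sum.elim_inl, Sum.elim_inr]
    · exact hgram i j
    · rw [fix1_perp_ker h hpres hrF (hff i) (b j).2, fix1_perp_ker h hpres hrF (hff' i) (b j).2]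
    · rw [h.eq_zero_symm (fix1_perp_ker h hpres hrF (hff j) (b i).2),
        h.eq_zero_symm (fix1_perp_ker h hpres hrF (hff' j) (b i).2)]
  refine ⟨e, he, fun v hv => ?_, fun i => ?_⟩
  · have h1 : ((e : V →ₗ[F] V).comp R.subtype) = R.subtype := b.ext fun i => by
      have := hem (finSumFinEquiv (Sum.inr i))
      simpa [F₁, F₂] using this
    exact LinearMap.congr_fun h1 ⟨v, hv⟩
  · have := hem (finSumFinEquiv (Sum.inl i))
    simpa [F₁, F₂] using this

end Cfsg.Agent.Lib.Elusive
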