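import Mathlib
import Cfsg.Agent.Lib.Elusive.IsometryCount

/-! Isometries of prime order built from blocks, and the isotropic subspaces they fix. -/

set_option autoImplicit false
set_option linter.style.haveILetI false
set_option linter.unusedSectionVars false

namespace Cfsg.Agent.Lib.Elusive

open Module Cfsg.Agent.Lib.Forms Polynomial

variable {F : Type*} [Field F] {σ : F →+* F} {V : Type*} [AddCommGroup V] [Module F V]
  {P : Type*} [AddCommGroup P] [Module F P]
  {B : V →ₛₗ[σ] V →ₗ[F] F} {Bp : P →ₛₗ[σ] P →ₗ[F] F} {ε : F} {r N : ℕ}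

/-- `N` orthogonal copies of `P` inside `V`. -/
structure BlockEmb (B : V →ₛₗ[σ] V →ₗ[F] F) (Bp : P →ₛₗ[σ] P →ₗ[F] F) (N : ℕ) where
  ι : Fin N → P →ₗ[F] V
  π : Fin N → V →ₗ[F] P
  π_ι : ∀ n m u, π n (ι m u) = if n = m then u else 0
  adj : ∀ n u v, B (ι n u) v = Bp u (π n v)

namespace BlockEmb

variable (E : BlockEmb B Bp N) (g : Fin N → Module.End F P)

/-- The sum of the blocks. -/
noncomputable def glue : (Fin N → P) →ₗ[F] V := ∑ n, (E.ι n).comp (LinearMap.proj n)

theorem glue_apply (p : Fin N → P) : E.glue p = ∑ n, E.ι n (p n) := by simp [glue]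

theorem π_glue (p : Fin N → P) (n : Fin N) : E.π n (E.glue p) = p n := by
  rw [glue_apply, map_sum, Finset.sum_eq_single n (fun m _ hm => by rw [E.π_ι, if_neg hm.symm])
    (fun h => absurd (Finset.mem_univ n) h), E.π_ι, if_pos rfl]

/-- The projection away from the blocks. -/
noncomputable def rest : V →ₗ[F] V := LinearMap.id - E.glue.comp (LinearMap.pi E.π)

theorem rest_add (v : V) : E.rest v + E.glue (fun n => E.π n v) = v := sub_add_cancel _ _

theorem π_rest (v : V) (n : Fin N) : E.π n (E.rest v) = 0 := by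
  show E.π n (v - E.glue (fun m => E.π m v)) = 0
  rw [map_sub, π_glue, sub_self]

theorem rest_of_π (v : V) (h : ∀ n, E.π n v = 0) : E.rest v = v := by
  show v - E.glue (fun m => E.π m v) = v
  rw [show (fun m => E.π m v) = (0 : Fin N → P) from funext h, map_zero, sub_zero]

/-- The isometry acting by `g n` on the block `n`. -/
noncomputable def endo : Module.End F V :=
  E.rest + E.glue.comp (LinearMap.pi fun n => (g n).comp (E.π n))

theorem endo_apply (v : V) : E.endo g v = E.rest v + E.glue (fun n => g n (E.π n v)) := rfl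

theorem π_endo (v : V) (n : Fin N) : E.π n (E.endo g v) = g n (E.π n v) := by
  rw [endo_apply, map_add, π_rest, π_glue, zero_add]

theorem rest_endo (v : V) : E.rest (E.endo g v) = E.rest v := by
  rw [endo_apply, map_add, rest_of_π E _ (E.π_rest v)]
  show E.rest v + (E.glue _ - E.glue (fun m => E.π m (E.glue _))) = _
  rw [show (fun m => E.π m (E.glue fun n => g n (E.π n v))) = fun n => g n (E.π n v) from funext (E.π_glue _),
    sub_self, add_zero]

theorem π_endo_pow (k : ℕ) (v : V) (n : Fin N) : E.π n ((E.endo g ^ k) v) = (g n ^ k) (E.π n v) := by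
  induction k with
  | zero => rfl
  | succ k ih => rw [pow_succ', pow_succ', Module.End.mul_apply, Module.End.mul_apply, π_endo, ih]

theorem rest_endo_pow (k : ℕ) (v : V) : E.rest ((E.endo g ^ k) v) = E.rest v := by
  induction k with
  | zero => rfl
  | succ k ih => rw [pow_succ', Module.End.mul_apply, rest_endo, ih]

theorem eq_of_parts {v w : V} (h1 : ∀ n, E.π n v = E.π n w) (h2 : E.rest v = E.rest w) : v = w := by
  rw [← E.rest_add v, ← E.rest_add w, h2, funext h1]

theorem endo_pow_eq_one (hg : ∀ n, g n ^ r = 1) : E.endo g ^ r = 1 :=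
  LinearMap.ext fun v => E.eq_of_parts (fun n => by rw [π_endo_pow, hg]; rfl) (by rw [rest_endo_pow]; rfl)

theorem π_aeval (q : F[X]) (v : V) (n : Fin N) :
    E.π n (Polynomial.aeval (E.endo g) q v) = Polynomial.aeval (g n) q (E.π n v) := by
  induction q using Polynomial.induction_on' with
  | add q q' h1 h2 => simp [h1, h2]
  | monomial k a =>
    rw [aeval_monomial, aeval_monomial, Module.algebraMap_end_eq_smul_id, Module.algebraMap_end_eq_smul_id,
      Module.End.mul_apply, Module.End.mul_apply]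
    show E.π n (a • (E.endo g ^ k) v) = a • (g n ^ k) (E.π n v)
    rw [map_smul, π_endo_pow]

section Form

variable (h : IsGoodForm B ε) (hp : IsGoodForm Bp ε)
include h hp

theorem adj' (n : Fin N) (u : P) (v : V) : B v (E.ι n u) = Bp (E.π n v) u := by
  rw [h.herm, E.adj, hp.herm]
  rw [map_mul, hp.invol, h.sigma_eps, ← mul_assoc, h.eps_sq, one_mul]

theorem form_glue_left (p : Fin N → P) (v : V) : B (E.glue p) v = ∑ n, Bp (p n) (E.π n v) := by
  rw [glue_apply, map_sum, LinearMap.sum_apply]
  exact Finset.sum_congr rfl fun n _ => E.adj n _ v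

theorem form_glue_right (p : Fin N → P) (v : V) : B v (E.glue p) = ∑ n, Bp (E.π n v) (p n) := by
  rw [glue_apply, map_sum]
  exact Finset.sum_congr rfl fun n _ => E.adj' h hp n _ v

theorem form_split (u v : V) : B u v = B (E.rest u) (E.rest v) + ∑ n, Bp (E.π n u) (E.π n v) := by
  conv_lhs => rw [← E.rest_add u, ← E.rest_add v]
  simp only [map_add, LinearMap.add_apply, E.form_glue_right h hp, E.form_glue_left h hp]
  simp only [π_rest, π_glue, map_zero, LinearMap.zero_apply, Finset.sum_const_zero, zero_add, add_zero]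

theorem endo_pres (hg : ∀ n u v, Bp (g n u) (g n v) = Bp u v) (u v : V) :
    B (E.endo g u) (E.endo g v) = B u v := by
  rw [E.form_split h hp, E.form_split h hp u v, rest_endo, rest_endo]
  simp only [π_endo, hg]

variable (hrF : (r : F) ≠ 0) (hgr : ∀ n, g n ^ r = 1) (hgf : ∀ n u, g n u = u → u = 0)
include hrF hgr hgf

theorem mem_ker_avg (v : V) : v ∈ LinearMap.ker (avg (E.endo g) r) ↔ E.rest v = 0 := by
  have hpow : ∀ (n : Fin N) (u : P), (r : F)⁻¹ • ∑ k ∈ Finset.range r, (g n ^ k) u = 0 := fun n u => by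
    rw [← avg_apply]; exact hgf n _ (mem_fix1.1 (avg_mem_fix1 (hgr n) u))
  have hav : avg (E.endo g) r v = E.rest v := by
    refine E.eq_of_parts (fun n => ?_) ?_
    · rw [avg_apply, map_smul, map_sum, π_rest, Finset.sum_congr rfl (fun k _ => E.π_endo_pow g k v n), hpow]
    · rw [avg_apply, map_smul, map_sum, Finset.sum_congr rfl (fun k _ => E.rest_endo_pow g k v), Finset.sum_const,
        Finset.card_range, ← Nat.cast_smul_eq_nsmul F, smul_smul, inv_mul_cancel₀ hrF, one_smul,
        rest_of_π E _ (E.π_rest v)]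
  rw [LinearMap.mem_ker, hav]

theorem finrank_ker_avg [FiniteDimensional F P] :
    finrank F ↥(LinearMap.ker (avg (E.endo g) r)) = N * finrank F P := by
  have hinj : Function.Injective E.glue := fun p p' e => funext fun n => by rw [← E.π_glue p n, e, π_glue]
  have hrange : LinearMap.ker (avg (E.endo g) r) = LinearMap.range E.glue := by
    ext v
    rw [E.mem_ker_avg g h hp hrF hgr hgf]
    refine ⟨fun h0 => ⟨fun n => E.π n v, by conv_rhs => rw [← E.rest_add v, h0, zero_add]⟩, ?_⟩
    rintro ⟨p, rfl⟩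
    show E.glue p - E.glue (fun m => E.π m (E.glue p)) = 0
    rw [show (fun m => E.π m (E.glue p)) = p from funext (E.π_glue p), sub_self]
  rw [hrange, LinearMap.finrank_range_of_inj hinj, Module.finrank_pi_fintype, Finset.sum_const,
    Finset.card_univ, Fintype.card_fin, smul_eq_mul]

/-- Invariant isotropic subspaces see only the blocks of a repeated type. -/
theorem two_mul_finrank_le [FiniteDimensional F V] [FiniteDimensional F P] (S : Finset (Fin N)) (f : Fin N → F[X])
    (hkill : ∀ n ∈ S, ∀ u, Polynomial.aeval (g n) (f n) u = 0)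
    (hinj : ∀ n ∈ S, ∀ m, m ≠ n → ∀ u, Polynomial.aeval (g m) (f n) u = 0 → u = 0)
    (hirr : ∀ n ∈ S, ∀ U : Submodule F P, Inv (g n) U → U = ⊥ ∨ U = ⊤)
    {W : Submodule F V} (hW : Inv (E.endo g) W) (hiso : Iso B W) :
    2 * finrank F ↥(W ⊓ LinearMap.ker (avg (E.endo g) r)) ≤ (N - S.card) * finrank F P := by
  classical
  set R := LinearMap.ker (avg (E.endo g) r) with hR
  set T : Submodule F V := R ⊓ ⨅ n ∈ S, LinearMap.ker (E.π n) with hT
  have memT : ∀ v, v ∈ T ↔ E.rest v = 0 ∧ ∀ n ∈ S, E.π n v = 0 := by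
    intro v
    simp [hT, hR, Submodule.mem_inf, Submodule.mem_iInf, E.mem_ker_avg g h hp hrF hgr hgf]
  have hTn : Nd B T := by
    intro u hu hz
    rw [memT] at hu
    refine E.eq_of_parts (w := 0) (fun n => ?_) (by rw [map_zero]; exact hu.1)
    rw [map_zero]
    by_cases hn : n ∈ S
    · exact hu.2 n hn
    · refine hp.nondeg _ fun p => ?_
      have hmem : E.glue (Pi.single n p) ∈ T := by
        rw [memT]
        refine ⟨?_, fun m hm => ?_⟩
        · show E.glue _ - E.glue (fun m => E.π m (E.glue _)) = 0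
          rw [funext (E.π_glue _), sub_self]
        · rw [π_glue, Pi.single_eq_of_ne]
          exact fun e => hn (e ▸ hm)
      have := hz _ hmem
      rw [E.form_glue_right h hp, Finset.sum_eq_single n (fun m _ hm => by rw [Pi.single_eq_of_ne hm, map_zero])
        (fun hh => absurd (Finset.mem_univ n) hh), Pi.single_eq_same] at this
      exact this
  have hTd : finrank F ↥T ≤ (N - S.card) * finrank F P := by
    let L : ↥T →ₗ[F] ({n // n ∈ Sᶜ} → P) := LinearMap.pi fun n => (E.π n.1).comp T.subtype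
    have hLinj : Function.Injective L := by
      intro u v e
      have hu := (memT u).1 u.2
      have hv := (memT v).1 v.2
      refine Subtype.ext (E.eq_of_parts (fun n => ?_) (hu.1.trans hv.1.symm))
      by_cases hn : n ∈ S
      · rw [hu.2 n hn, hv.2 n hn]
      · exact congrFun e ⟨n, Finset.mem_compl.2 hn⟩
    have h1 := LinearMap.finrank_le_finrank_of_injective hLinj
    rw [Module.finrank_pi_fintype, Finset.sum_const, Finset.card_univ, Fintype.card_coe, Finset.card_compl,
      Fintype.card_fin, smul_eq_mul] at h1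
    exact h1
  set G : F[X] := ∏ n ∈ S, f n with hG
  let φ : ↥(W ⊓ R) →ₗ[F] V := (Polynomial.aeval (E.endo g) G).comp (W ⊓ R).subtype
  have hφmem : ∀ w, φ w ∈ W ⊓ T := by
    intro w
    refine ⟨aeval_inv hW G _ w.2.1, (memT _).2 ⟨?_, fun n hn => ?_⟩⟩
    · have := aeval_inv (inv_ker_avg (y := E.endo g) (r := r)) G _ w.2.2
      exact (E.mem_ker_avg g h hp hrF hgr hgf _).1 this
    · show E.π n (Polynomial.aeval (E.endo g) G w.1) = 0
      rw [π_aeval, hG, ← Finset.mul_prod_erase S f hn, mul_comm, map_mul, Module.End.mul_apply, hkill n hn, map_zero]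
  have hprod_inj : ∀ (s : Finset (Fin N)) (m : Fin N), s ⊆ S → m ∉ s → ∀ u,
      Polynomial.aeval (g m) (∏ n ∈ s, f n) u = 0 → u = 0 := by
    intro s m hs hm
    induction s using Finset.induction with
    | empty => intro u hu; simpa using hu
    | insert a s ha ih =>
      intro u hu
      rw [Finset.prod_insert ha, map_mul, Module.End.mul_apply] at hu
      exact ih (fun x hx => hs (Finset.mem_insert_of_mem hx)) (fun hx => hm (Finset.mem_insert_of_mem hx)) u
        (hinj a (hs (Finset.mem_insert_self _ _)) m (fun e => hm (e ▸ Finset.mem_insert_self _ _)) _ hu)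
  have hφinj : Function.Injective φ := by
    rw [← LinearMap.ker_eq_bot, eq_bot_iff]
    intro w hw
    have hw0 : ∀ n, n ∉ S → E.π n w.1 = 0 := fun n hn => hprod_inj S n subset_rfl hn _ (by
      have : E.π n (φ w) = 0 := by rw [LinearMap.mem_ker.1 hw, map_zero]
      rwa [show φ w = Polynomial.aeval (E.endo g) G w.1 from rfl, π_aeval] at this)
    refine (Submodule.mem_bot F).2 (Subtype.ext ?_)
    have hrest := (E.mem_ker_avg g h hp hrF hgr hgf _).1 w.2.2
    refine E.eq_of_parts (fun n => ?_) (by rw [hrest, ZeroMemClass.coe_zero, map_zero])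
    rw [ZeroMemClass.coe_zero, map_zero]
    by_cases hn : n ∈ S
    swap
    · exact hw0 n hn
    -- the part of `W` inside the block `n`
    let U : Submodule F P := W.comap (E.ι n)
    have hπι : ∀ m u, E.π m (E.ι n u) = if m = n then u else 0 := fun m u => E.π_ι m n u
    have hUinv : Inv (g n) U := by
      intro u hu
      have h1 : E.endo g (E.ι n u) = E.ι n (g n u) := by
        refine E.eq_of_parts (fun m => ?_) ?_
        · rw [π_endo, hπι, hπι]
          split_ifs with e
          · rw [e]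
          · rw [map_zero]
        · have hsingle : ∀ z, E.ι n z = E.glue (Pi.single n z) := fun z => by
            rw [glue_apply, Finset.sum_eq_single n (fun m _ hm => by rw [Pi.single_eq_of_ne hm, map_zero])
              (fun hh => absurd (Finset.mem_univ n) hh), Pi.single_eq_same]
          rw [rest_endo, hsingle, hsingle]
          show E.glue _ - E.glue (fun m => E.π m (E.glue _)) = E.glue _ - E.glue (fun m => E.π m (E.glue _))
          rw [funext (E.π_glue _), funext (E.π_glue _), sub_self, sub_self]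
      show E.ι n (g n u) ∈ W
      exact h1 ▸ hW _ hu
    have hU0 : U = ⊥ := (hirr n hn U hUinv).elim id fun htop => le_bot_iff.1 fun u _ => by
      refine (Submodule.mem_bot F).2 (hp.nondeg u fun p => ?_)
      have := hiso _ (htop.ge Submodule.mem_top : E.ι n u ∈ W) _ (htop.ge Submodule.mem_top : E.ι n p ∈ W)
      rwa [E.adj, hπι, if_pos rfl] at this
    have hmem : Polynomial.aeval (g n) (∏ m ∈ S.erase n, f m) (E.π n w.1) ∈ U := by
      show E.ι n _ ∈ W
      have heq : Polynomial.aeval (E.endo g) (∏ m ∈ S.erase n, f m) w.1 =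
          E.ι n (Polynomial.aeval (g n) (∏ m ∈ S.erase n, f m) (E.π n w.1)) := by
        refine E.eq_of_parts (fun m => ?_) ?_
        · rw [π_aeval, hπι]
          split_ifs with e
          · rw [e]
          · by_cases hm : m ∈ S
            · rw [← Finset.mul_prod_erase (S.erase n) f (Finset.mem_erase.2 ⟨e, hm⟩), mul_comm, map_mul,
                Module.End.mul_apply, hkill m hm, map_zero]
            · rw [hw0 m hm, map_zero]
        · have h1 := aeval_inv (inv_ker_avg (y := E.endo g) (r := r)) (∏ m ∈ S.erase n, f m) _ w.2.2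
          rw [(E.mem_ker_avg g h hp hrF hgr hgf _).1 h1]
          have hsingle : ∀ z, E.ι n z = E.glue (Pi.single n z) := fun z => by
            rw [glue_apply, Finset.sum_eq_single n (fun m _ hm => by rw [Pi.single_eq_of_ne hm, map_zero])
              (fun hh => absurd (Finset.mem_univ n) hh), Pi.single_eq_same]
          rw [hsingle]
          show 0 = E.glue _ - E.glue (fun m => E.π m (E.glue _))
          rw [funext (E.π_glue _), sub_self]
      exact heq ▸ aeval_inv hW _ _ w.2.1
    rw [hU0, Submodule.mem_bot] at hmem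
    exact hprod_inj (S.erase n) n (S.erase_subset n) (Finset.notMem_erase n S) _ hmem
  have h1 : finrank F ↥(W ⊓ R) ≤ finrank F ↥(W ⊓ T) := by
    have := LinearMap.finrank_le_finrank_of_injective (f := φ.codRestrict _ hφmem)
      (fun a b e => hφinj (congrArg Subtype.val e))
    exact this
  have h2 := iso_finrank_le h hTn (inf_le_right : W ⊓ T ≤ T) (hiso.mono inf_le_left)
  omega

end Form

end BlockEmb

section Modes

variable [Fintype F] {q : ℕ}

/-- The self-dual case for a form without field automorphism. -/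
theorem selfDualExp_id {p : ℕ} [Fact p.Prime] [CharP F p] (hr : r.Prime)
    (he : Even (orderOf ((Fintype.card F : ℕ) : ZMod r))) (hpos : 0 < orderOf ((Fintype.card F : ℕ) : ZMod r)) :
    SelfDualExp (RingHom.id F) r (Fintype.card F ^ (orderOf ((Fintype.card F : ℕ) : ZMod r) / 2)) := by
  haveI : Fact r.Prime := ⟨hr⟩
  set i := orderOf ((Fintype.card F : ℕ) : ZMod r) with hi
  obtain ⟨j, hj⟩ := he
  obtain ⟨k, -, hk⟩ := FiniteField.card F p
  refine ⟨fun a => (FiniteField.pow_card_pow _ a).symm, ?_, ⟨p, k * (i / 2), Fact.out, inferInstance, by rw [hk, pow_mul]⟩,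
    by rw [← pow_add]; congr 1; omega⟩
  have h2 : ((Fintype.card F : ZMod r) ^ (i / 2)) ^ 2 = 1 := by
    rw [← pow_mul, show i / 2 * 2 = i by omega, hi]; exact pow_orderOf_eq_one _
  rw [Nat.cast_pow]
  refine ((sq_eq_one_iff.1 h2).resolve_left fun h1 => ?_)
  have h3 := Nat.le_of_dvd (by omega) (orderOf_dvd_of_pow_eq_one h1)
  rw [← hi] at h3
  omega

/-- The non-self-dual case for a form without field automorphism. -/
theorem notSelfDual_id {p : ℕ} [Fact p.Prime] [CharP F p] (hr : r.Prime) (hr2 : r ≠ 2)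
    (ho : Odd (orderOf ((Fintype.card F : ℕ) : ZMod r))) : NotSelfDual (RingHom.id F) r := by
  haveI : Fact r.Prime := ⟨hr⟩
  haveI : Fact (2 < r) := ⟨lt_of_le_of_ne hr.two_le (Ne.symm hr2)⟩
  refine ⟨p, 0, 0, Fact.out, inferInstance, fun a => by simp, by simp, fun j hj => ?_⟩
  rw [pow_zero, Nat.cast_one] at hj
  set i := orderOf ((Fintype.card F : ℕ) : ZMod r) with hi
  have h1 : ((Fintype.card F : ZMod r) ^ j) ^ i = 1 := by
    rw [← pow_mul, mul_comm, pow_mul, hi, pow_orderOf_eq_one, one_pow]
  rw [hj, ho.neg_one_pow] at h1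
  exact ZMod.neg_one_ne_one h1

/-- Representatives of distinct classes of exponents. -/
theorem exists_exponents (hr : r.Prime) (hrF : (r : F) ≠ 0) :
    ∃ a : Fin ((r - 1) / orderOf ((Fintype.card F : ℕ) : ZMod r)) → ℕ,
      (∀ l, ¬ r ∣ a l) ∧ ∀ l l', l ≠ l' → ∀ j : ℕ,
        (a l' : ZMod r) ≠ (a l : ZMod r) * ((Fintype.card F : ℕ) : ZMod r) ^ j := by
  classical
  haveI : Fact r.Prime := ⟨hr⟩
  have hpos := ordq_pos (F := F) hr hrF
  have hQ : ((Fintype.card F : ℕ) : ZMod r) ≠ 0 := by
    intro h0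
    have := pow_orderOf_eq_one ((Fintype.card F : ℕ) : ZMod r)
    rw [h0, zero_pow (by rw [h0] at hpos; omega)] at this
    exact zero_ne_one this
  let qu : (ZMod r)ˣ := Units.mk0 _ hQ
  have hcard : Nat.card ((ZMod r)ˣ ⧸ Subgroup.zpowers qu) =
      (r - 1) / orderOf ((Fintype.card F : ℕ) : ZMod r) := by
    have h1 := Subgroup.card_mul_index (Subgroup.zpowers qu)
    rw [Nat.card_zpowers, Nat.card_units, Nat.card_zmod, ← orderOf_units, Units.val_mk0] at h1
    rw [← Subgroup.index_eq_card, ← h1, Nat.mul_div_cancel_left _ hpos]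
  let e : Fin ((r - 1) / orderOf ((Fintype.card F : ℕ) : ZMod r)) ≃ ((ZMod r)ˣ ⧸ Subgroup.zpowers qu) :=
    (finCongr hcard.symm).trans (Finite.equivFin _).symm
  refine ⟨fun l => ((Quotient.out (e l) : (ZMod r)ˣ) : ZMod r).val, fun l hl => ?_, fun l l' hne j hj => ?_⟩
  · rw [← ZMod.natCast_eq_zero_iff, ZMod.natCast_zmod_val] at hl
    exact Units.ne_zero _ hl
  · rw [ZMod.natCast_zmod_val, ZMod.natCast_zmod_val] at hj
    apply hne
    apply e.injective
    rw [← QuotientGroup.out_eq' (e l), ← QuotientGroup.out_eq' (e l'), QuotientGroup.eq, Subgroup.mem_zpowers_iff]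
    refine ⟨j, ?_⟩
    rw [zpow_natCast, eq_inv_mul_iff_mul_eq]
    exact Units.ext (by rw [Units.val_mul, Units.val_pow_eq_pow_val, Units.val_mk0, ← hj])

end Modes

section Witness

variable [Fintype F] [Finite V] [Finite P] [FiniteDimensional F V] [FiniteDimensional F P]
  (h : IsGoodForm B ε) (hp : IsGoodForm Bp ε) (hr : r.Prime) (hrF : (r : F) ≠ 0) {c : ℕ}
  (hc : BlockSize σ r c) (hPc : finrank F P = c)
include h hp hr hrF hc hPc

theorem fixfree_of_ne_one {y : Module.End F P} (hy : y ^ r = 1) (hne : y ≠ 1)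
    (hpres : ∀ u v, Bp (y u) (y v) = Bp u v) : ∀ u, y u = u → u = 0 := by
  obtain ⟨N', hN, hsum, h1⟩ := exists_blocks hp hr hrF hc hy hpres
  intro u hu
  have h2 := Nat.le_mul_of_pos_left c (h1 hne)
  have h3 : fix1 y = ⊥ := Submodule.finrank_eq_zero.1 (by omega)
  exact (Submodule.mem_bot F).1 (h3 ▸ mem_fix1.2 hu)

/-- An isometry with `N` blocks. -/
theorem exists_isometry_blocks (E : BlockEmb B Bp N) {y₀ : Module.End F P} (hy : y₀ ^ r = 1) (hne : y₀ ≠ 1)
    (hpres : ∀ u v, Bp (y₀ u) (y₀ v) = Bp u v) :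
    ∃ y : Module.End F V, y ^ r = 1 ∧ (∀ u v, B (y u) (y v) = B u v) ∧
      finrank F ↥(LinearMap.ker (avg y r)) = N * c := by
  have hf := fixfree_of_ne_one h hp hr hrF hc hPc hy hne hpres
  refine ⟨E.endo fun _ => y₀, E.endo_pow_eq_one _ fun _ => hy, E.endo_pres _ h hp fun _ => hpres, ?_⟩
  rw [E.finrank_ker_avg _ h hp hrF (fun _ => hy) (fun _ => hf), hPc]

/-- An isometry with `N` blocks and few invariant isotropic subspaces (self-dual case). -/
theorem exists_isometry_min (E : BlockEmb B Bp N) {y₀ : Module.End F P} (hy : y₀ ^ r = 1) (hne : y₀ ≠ 1)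
    (hpres : ∀ u v, Bp (y₀ u) (y₀ v) = Bp u v) (hci : c = orderOf ((Fintype.card F : ℕ) : ZMod r))
    (hN : N ≤ (r - 1) / orderOf ((Fintype.card F : ℕ) : ZMod r) ∨
      Even (N - (r - 1) / orderOf ((Fintype.card F : ℕ) : ZMod r))) :
    ∃ y : Module.End F V, y ^ r = 1 ∧ (∀ u v, B (y u) (y v) = B u v) ∧
      finrank F ↥(LinearMap.ker (avg y r)) = N * c ∧
      ∀ W, Inv y W → Iso B W → ∀ e, finrank F ↥(W ⊓ LinearMap.ker (avg y r)) = e * c →
        2 * e ≤ N - (r - 1) / orderOf ((Fintype.card F : ℕ) : ZMod r) := by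
  classical
  haveI : Fact r.Prime := ⟨hr⟩
  have hpos := ordq_pos (F := F) hr hrF
  set t := (r - 1) / orderOf ((Fintype.card F : ℕ) : ZMod r) with ht
  have ht1 : 1 ≤ t := (Nat.one_le_div_iff hpos).2 (by
    have h1 : orderOf ((Fintype.card F : ℕ) : ZMod r) ≤ r - 1 := by
      refine Nat.le_of_dvd (by have := hr.two_le; omega) (orderOf_dvd_of_pow_eq_one (ZMod.pow_card_sub_one_eq_one ?_))
      intro h0
      rw [h0, orderOf_eq_zero_iff'.2 (fun k hk => by rw [zero_pow hk.ne']; exact zero_ne_one)] at hpos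
      omega
    exact h1)
  obtain ⟨a, ha, hdist⟩ := exists_exponents (F := F) hr hrF
  let ex : Fin N → Fin t := fun n => if hn : (n : ℕ) < t then ⟨n, hn⟩ else ⟨t - 1, by omega⟩
  let g : Fin N → Module.End F P := fun n => y₀ ^ a (ex n)
  have hg : ∀ n, g n ^ r = 1 := fun n => by rw [← pow_mul, mul_comm, pow_mul, hy, one_pow]
  have hgne : ∀ n, g n ≠ 1 := by
    intro n h1
    apply hne
    have h2 : orderOf y₀ ∣ a (ex n) := orderOf_dvd_of_pow_eq_one h1
    rcases (Nat.dvd_prime hr).1 (orderOf_dvd_of_pow_eq_one hy) with h3 | h3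
    · exact orderOf_eq_one_iff.1 h3
    · exact absurd (h3 ▸ h2) (ha _)
  have hgp : ∀ n u v, Bp (g n u) (g n v) = Bp u v := by
    intro n
    show ∀ u v, Bp ((y₀ ^ a (ex n)) u) ((y₀ ^ a (ex n)) v) = Bp u v
    generalize a (ex n) = k
    induction k with
    | zero => intro u v; rfl
    | succ k ih => intro u v; rw [pow_succ', Module.End.mul_apply, Module.End.mul_apply, hpres, ih]
  have hgf : ∀ n u, g n u = u → u = 0 := fun n =>
    fixfree_of_ne_one h hp hr hrF hc hPc (hg n) (hgne n) (hgp n)
  have hpn : ∀ n, fix1 (g n) = ⊥ := fun n => le_bot_iff.1 fun u hu => (Submodule.mem_bot F).2 (hgf n u (mem_fix1.1 hu))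
  have htop : ∀ n, LinearMap.ker (avg (g n) r) = ⊤ := fun n => Submodule.eq_top_of_finrank_eq (by
    have := finrank_fix1_add (hg n) hrF
    rw [hpn n, finrank_bot, zero_add] at this
    exact this)
  have hPi : finrank F P = orderOf ((Fintype.card F : ℕ) : ZMod r) := hPc.trans hci
  have hTop : ∀ n, Inv (g n) (⊤ : Submodule F P) := fun n v _ => Submodule.mem_top
  have hirr : ∀ n, IsIrr (g n) (⊤ : Submodule F P) := fun n =>
    isIrr_of_finrank hr hrF (hg n) (hTop n) (htop n).ge (by rw [finrank_top]; exact hPi) hpos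
  let f : Fin N → F[X] := fun n => mpOn (hTop n)
  have hkill : ∀ n u, Polynomial.aeval (g n) (f n) u = 0 := fun n u =>
    (mpOn_dvd_iff (hTop n) (f n)).1 dvd_rfl u Submodule.mem_top
  have hinj : ∀ n m, ex m ≠ ex n → ∀ u, Polynomial.aeval (g m) (f n) u = 0 → u = 0 := by
    intro n m hnm u hu
    by_contra hu0
    -- `g m` is a power of `g n`
    have hunit : (a (ex n) : ZMod r) ≠ 0 := fun h0 => ha _ ((ZMod.natCast_eq_zero_iff _ _).1 h0)
    set k := ((a (ex m) : ZMod r) * (a (ex n) : ZMod r)⁻¹).val with hk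
    have hmk : g m = g n ^ k := by
      show y₀ ^ a (ex m) = (y₀ ^ a (ex n)) ^ k
      rw [← pow_mul, pow_eq_pow_mod (a (ex m)) hy, pow_eq_pow_mod (a (ex n) * k) hy]
      congr 1
      refine (ZMod.natCast_eq_natCast_iff' _ _ r).1 ?_
      rw [Nat.cast_mul, hk, ZMod.natCast_zmod_val, mul_comm, inv_mul_cancel_right₀ hunit]
    have hu' : Polynomial.aeval (g n) ((f n).comp (X ^ k)) u = 0 := by
      rwa [aeval_comp, map_pow, aeval_X, ← hmk]
    have hall := (hirr n).kills Submodule.mem_top hu0 hu'
    obtain ⟨j, hj⟩ := exists_pow_of_kills (hg n) (hirr n) (fun v _ => hgf n v)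
      (by rw [finrank_top]; exact hPi) k (fun v hv => by
        have := hall v hv
        rwa [aeval_comp, map_pow, aeval_X] at this)
    rw [hk, ZMod.natCast_zmod_val, mul_inv_eq_iff_eq_mul₀ hunit] at hj
    exact hdist (ex n) (ex m) (Ne.symm hnm) j (by rw [hj, mul_comm])
  let S : Finset (Fin N) := if N ≤ t then Finset.univ else Finset.univ.filter (fun n : Fin N => (n : ℕ) < t - 1)
  have hSsep : ∀ n ∈ S, ∀ m, m ≠ n → ex m ≠ ex n := by
    intro n hn m hmn heq
    simp only [S] at hn
    simp only [ex] at heq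
    split_ifs at hn heq with h1 h2 h3 h4 <;>
      simp only [Finset.mem_filter, Finset.mem_univ, true_and, Fin.ext_iff] at hn heq <;>
      exact hmn (Fin.ext (by omega))
  refine ⟨E.endo g, E.endo_pow_eq_one g hg, E.endo_pres g h hp hgp, ?_, fun W hW hiso e he => ?_⟩
  · rw [E.finrank_ker_avg g h hp hrF hg hgf, hPc]
  · have h1 := E.two_mul_finrank_le g h hp hrF hg hgf S f (fun n _ => hkill n)
      (fun n hn m hm => hinj n m (hSsep n hn m hm))
      (fun n _ U hU => (hirr n).2.2 U le_top hU) hW hiso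
    rw [he, hPc, ← mul_assoc] at h1
    have h2 := Nat.le_of_mul_le_mul_right h1 (blockSize_pos h hr hrF hc)
    by_cases hNt : N ≤ t
    · simp only [S, if_pos hNt, Finset.card_univ, Fintype.card_fin] at h2
      omega
    · have hcard : S.card = t - 1 := by
        simp only [S, if_neg hNt]
        rw [show (Finset.univ.filter fun n : Fin N => (n : ℕ) < t - 1) =
          Finset.map ⟨Fin.castLE (by omega : t - 1 ≤ N), Fin.castLE_injective _⟩ Finset.univ by
            ext n
            simp only [Finset.mem_filter, Finset.mem_univ, true_and, Finset.mem_map, Function.Embedding.coeFn_mk]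
            exact ⟨fun hn => ⟨⟨n, hn⟩, rfl⟩, fun ⟨l, hl⟩ => by rw [← hl]; exact l.2⟩,
          Finset.card_map, Finset.card_univ, Fintype.card_fin]
      rw [hcard] at h2
      obtain ⟨k, hk⟩ := hN.resolve_left hNt
      omega

end Witness

end Cfsg.Agent.Lib.Elusive
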