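import Mathlib

/-! Numbers of subspaces and of pairs of subspaces, modulo primes. -/

set_option autoImplicit false

namespace Cfsg.Agent.Lib.Elusive

open Module

variable (F : Type*) [Field F] [Fintype F] (V : Type*) [AddCommGroup V] [Module F V] [Finite V]

/-- `∏_{k<m} (q^n - q^k)`. -/
def frameProd (q n m : ℕ) : ℕ := ∏ k : Fin m, (q ^ n - q ^ (k : ℕ))

/-- The number of subspaces of a given dimension. -/
noncomputable def numSub (m : ℕ) : ℕ := Nat.card {W : Submodule F V // finrank F ↥W = m}

theorem numSub_mul_frameProd {m : ℕ} (hm : m ≤ finrank F V) :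
    numSub F V m * frameProd (Fintype.card F) m m = frameProd (Fintype.card F) (finrank F V) m := by
  classical
  haveI : Fintype {W : Submodule F V // finrank F ↥W = m} := Fintype.ofFinite _
  let span' : {s : Fin m → V // LinearIndependent F s} → {W : Submodule F V // finrank F ↥W = m} :=
    fun s => ⟨Submodule.span F (Set.range s.1), by rw [finrank_span_eq_card s.2, Fintype.card_fin]⟩
  have hfib : ∀ W : {W : Submodule F V // finrank F ↥W = m},
      Nat.card {s // span' s = W} = frameProd (Fintype.card F) m m := by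
    intro W
    have hcli := card_linearIndependent (K := F) (V := ↥W.1) W.2.ge
    rw [W.2] at hcli
    rw [frameProd, ← hcli]
    refine Nat.card_congr
      { toFun := fun s => ⟨fun j => ⟨s.1.1 j, ?_⟩, ?_⟩
        invFun := fun t => ⟨⟨fun j => (t.1 j : V), t.2.map' W.1.subtype W.1.ker_subtype⟩, ?_⟩
        left_inv := fun s => ?_
        right_inv := fun t => ?_ }
    · have := congrArg Subtype.val s.2
      rw [← this]
      exact Submodule.subset_span ⟨j, rfl⟩
    · exact LinearIndependent.of_comp W.1.subtype s.1.2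
    · refine Subtype.ext (Submodule.eq_of_le_of_finrank_eq ?_ ?_)
      · exact Submodule.span_le.2 (Set.range_subset_iff.2 fun j => (t.1 j).2)
      · exact ((finrank_span_eq_card (t.2.map' W.1.subtype W.1.ker_subtype)).trans (Fintype.card_fin m)).trans W.2.symm
    · rfl
    · rfl
  rw [numSub, frameProd, frameProd, ← card_linearIndependent (K := F) hm,
    Nat.card_congr (Equiv.sigmaFiberEquiv span').symm, Nat.card_sigma, ← frameProd]
  rw [Finset.sum_congr rfl (fun W _ => hfib W), Finset.sum_const, Finset.card_univ, smul_eq_mul,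
    Nat.card_eq_fintype_card]

omit [Fintype F] in
theorem frameProd_eq (q : ℕ) {n m : ℕ} (hm : m ≤ n) :
    frameProd q n m = q ^ (∑ k : Fin m, (k : ℕ)) * ∏ k : Fin m, (q ^ (n - k) - 1) := by
  rw [frameProd, ← Finset.prod_pow_eq_pow_sum, ← Finset.prod_mul_distrib]
  refine Finset.prod_congr rfl fun k _ => ?_
  rw [Nat.mul_sub_one, ← pow_add, Nat.add_sub_cancel' (le_trans k.2.le hm)]

theorem numSub_mul (m : ℕ) (hm : m ≤ finrank F V) :
    numSub F V m * ∏ k : Fin m, (Fintype.card F ^ (m - k) - 1)
      = ∏ k : Fin m, (Fintype.card F ^ (finrank F V - k) - 1) := by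
  have h := numSub_mul_frameProd F V hm
  rw [frameProd_eq _ hm, frameProd_eq _ le_rfl, mul_left_comm] at h
  exact Nat.eq_of_mul_eq_mul_left (Nat.pow_pos Fintype.card_pos) h

omit [Finite V] in
theorem numSub_eq_zero [FiniteDimensional F V] {m : ℕ} (hm : finrank F V < m) : numSub F V m = 0 := by
  have : IsEmpty {W : Submodule F V // finrank F ↥W = m} :=
    ⟨fun W => absurd W.1.finrank_le (by rw [W.2]; omega)⟩
  exact Nat.card_of_isEmpty

/-- The number of `m`-subspaces is `1` modulo the characteristic. -/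
theorem not_dvd_numSub_char {p : ℕ} [Fact p.Prime] [CharP F p] {m : ℕ} (hm : m ≤ finrank F V) :
    ¬ p ∣ numSub F V m := by
  intro hd
  have h := congrArg (fun a : ℕ => (a : ZMod p)) (numSub_mul F V m hm)
  simp only [Nat.cast_mul, Nat.cast_prod] at h
  obtain ⟨k, -, hk⟩ := FiniteField.card F p
  have hq : ∀ j, 0 < j → ((Fintype.card F ^ j - 1 : ℕ) : ZMod p) = -1 := by
    intro j hj
    rw [Nat.cast_sub (Nat.one_le_pow _ _ Fintype.card_pos), hk, ← pow_mul, Nat.cast_pow,
      ZMod.natCast_self, zero_pow (Nat.mul_ne_zero k.pos.ne' hj.ne'), Nat.cast_one, zero_sub]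
  rw [(ZMod.natCast_eq_zero_iff _ _).2 hd, zero_mul,
    Finset.prod_congr rfl (fun (j : Fin m) _ => hq _ (by omega)), Finset.prod_const] at h
  exact pow_ne_zero _ (neg_ne_zero.2 one_ne_zero) h.symm

omit [Fintype F] in
theorem dvd_pow_sub_one_iff {r q : ℕ} (hq : 0 < q) (j : ℕ) :
    r ∣ q ^ j - 1 ↔ orderOf (q : ZMod r) ∣ j := by
  rw [orderOf_dvd_iff_pow_eq_one, ← ZMod.natCast_eq_zero_iff, Nat.cast_sub (Nat.one_le_pow _ _ hq),
    sub_eq_zero, Nat.cast_pow, Nat.cast_one]

/-- If `r` divides the number of `m`-subspaces and `m < ord_r(q)`, then `n % ord_r(q) < m`. -/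
theorem mod_lt_of_dvd_numSub {r : ℕ} (hr : r.Prime) {m : ℕ} (hm : m ≤ finrank F V)
    (hmi : m < orderOf (Fintype.card F : ZMod r)) (hd : r ∣ numSub F V m) :
    finrank F V % orderOf (Fintype.card F : ZMod r) < m := by
  set i := orderOf (Fintype.card F : ZMod r)
  have h := hd.mul_right (∏ k : Fin m, (Fintype.card F ^ (m - k) - 1))
  rw [numSub_mul F V m hm, (Nat.prime_iff.1 hr).dvd_finset_prod_iff] at h
  obtain ⟨k, -, hk⟩ := h
  rw [dvd_pow_sub_one_iff Fintype.card_pos] at hk
  obtain ⟨e, he⟩ : i ∣ finrank F V - k := hk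
  have : finrank F V % i = k := by
    rw [show finrank F V = k + i * e by omega, Nat.add_mul_mod_self_left,
      Nat.mod_eq_of_lt (lt_trans k.2 hmi)]
  rw [this]
  exact k.2

/-- Ordered pairs of complementary subspaces with first member of dimension `m`. -/
noncomputable def numCompl (m : ℕ) : ℕ :=
  Nat.card {P : Submodule F V × Submodule F V // IsCompl P.1 P.2 ∧ finrank F ↥P.1 = m}

omit [Fintype F] in
theorem numCompl_symm [FiniteDimensional F V] {m : ℕ} (hm : m ≤ finrank F V) :
    numCompl F V m = numCompl F V (finrank F V - m) :=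
  Nat.card_congr ((Equiv.prodComm _ _).subtypeEquiv fun P => by
    constructor
    · rintro ⟨h, hd⟩
      have := Submodule.finrank_add_eq_of_isCompl h
      refine ⟨h.symm, ?_⟩
      show finrank F ↥P.2 = finrank F V - m
      omega
    · rintro ⟨h, hd⟩
      have := Submodule.finrank_add_eq_of_isCompl h
      change finrank F ↥P.2 = finrank F V - m at hd
      change finrank F ↥P.2 + finrank F ↥P.1 = finrank F V at this
      exact ⟨h.symm, by omega⟩)

theorem numCompl_eq (m : ℕ) :
    numCompl F V m = numSub F V m * Fintype.card F ^ (m * (finrank F V - m)) := by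
  classical
  haveI : Fintype {W : Submodule F V // finrank F ↥W = m} := Fintype.ofFinite _
  have e : {P : Submodule F V × Submodule F V // IsCompl P.1 P.2 ∧ finrank F ↥P.1 = m} ≃
      Σ U : {W : Submodule F V // finrank F ↥W = m}, {W : Submodule F V // IsCompl U.1 W} :=
    { toFun := fun P => ⟨⟨P.1.1, P.2.2⟩, ⟨P.1.2, P.2.1⟩⟩
      invFun := fun s => ⟨(s.1.1, s.2.1), s.2.2, s.1.2⟩
      left_inv := fun _ => rfl
      right_inv := fun _ => rfl }
  have hfib : ∀ U : {W : Submodule F V // finrank F ↥W = m},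
      Nat.card {W : Submodule F V // IsCompl U.1 W} = Fintype.card F ^ (m * (finrank F V - m)) := by
    intro U
    obtain ⟨W₀, hW₀⟩ := U.1.exists_isCompl
    let g : {π : V →ₗ[F] ↥U.1 // ∀ x : ↥U.1, π x = x} ≃ (↥W₀ →ₗ[F] ↥U.1) :=
      { toFun := fun π => π.1.comp W₀.subtype
        invFun := fun φ => ⟨LinearMap.ofIsCompl hW₀ LinearMap.id φ, fun x => by simp⟩
        left_inv := fun π => Subtype.ext (LinearMap.ofIsCompl_eq hW₀ (fun u => (π.2 u).symm) (fun _ => rfl))
        right_inv := fun φ => by ext w; simp }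
    rw [Nat.card_congr (Submodule.isComplEquivProj U.1), Nat.card_congr g,
      Module.natCard_eq_pow_finrank (K := F) (V := ↥W₀ →ₗ[F] ↥U.1), Module.finrank_linearMap,
      U.2, Nat.card_eq_fintype_card]
    congr 1
    have := Submodule.finrank_add_eq_of_isCompl hW₀
    rw [U.2] at this
    rw [mul_comm]; congr 1; omega
  rw [numCompl, numSub, Nat.card_congr e, Nat.card_sigma, Finset.sum_congr rfl (fun U _ => hfib U),
    Finset.sum_const, Finset.card_univ, smul_eq_mul, Nat.card_eq_fintype_card]

theorem numSub_symm {m : ℕ} (hm : m ≤ finrank F V) :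
    numSub F V m = numSub F V (finrank F V - m) := by
  have h := numCompl_symm F V hm
  rw [numCompl_eq, numCompl_eq, Nat.sub_sub_self hm, mul_comm (finrank F V - m) m] at h
  exact Nat.eq_of_mul_eq_mul_right (Nat.pow_pos Fintype.card_pos) h

/-- Nested pairs of subspaces. -/
noncomputable def numFlag (m m' : ℕ) : ℕ :=
  Nat.card {P : Submodule F V × Submodule F V // P.1 ≤ P.2 ∧ finrank F ↥P.1 = m ∧ finrank F ↥P.2 = m'}

theorem exists_numFlag_eq (m m' : ℕ) (hm' : m' ≤ finrank F V) :
    ∃ W : Submodule F V, finrank F ↥W = m' ∧ numFlag F V m m' = numSub F V m' * numSub F ↥W m := by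
  classical
  haveI : Fintype {W : Submodule F V // finrank F ↥W = m'} := Fintype.ofFinite _
  obtain ⟨W, hW⟩ : ∃ W : Submodule F V, finrank F ↥W = m' := by
    let b := Module.finBasis F V
    exact ⟨Submodule.span F (Set.range (b ∘ Fin.castLE hm')), by
      rw [finrank_span_eq_card (b.linearIndependent.comp _ (Fin.castLE_injective hm')), Fintype.card_fin]⟩
  refine ⟨W, hW, ?_⟩
  let e : {P : Submodule F V × Submodule F V // P.1 ≤ P.2 ∧ finrank F ↥P.1 = m ∧ finrank F ↥P.2 = m'} ≃
      Σ W' : {W : Submodule F V // finrank F ↥W = m'}, {U : Submodule F ↥W'.1 // finrank F ↥U = m} :=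
    { toFun := fun P => ⟨⟨P.1.2, P.2.2.2⟩, ⟨P.1.1.comap P.1.2.subtype, by
        rw [LinearEquiv.finrank_eq (Submodule.comapSubtypeEquivOfLe P.2.1), P.2.2.1]⟩⟩
      invFun := fun s => ⟨(s.2.1.map s.1.1.subtype, s.1.1), Submodule.map_subtype_le _ _, by
        rw [Submodule.finrank_map_subtype_eq, s.2.2], s.1.2⟩
      left_inv := fun P => Subtype.ext (Prod.ext (by
        simp [Submodule.map_comap_subtype, inf_eq_right.2 P.2.1]) rfl)
      right_inv := fun s => by
        refine Sigma.ext rfl (heq_of_eq (Subtype.ext ?_))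
        exact Submodule.comap_map_eq_of_injective s.1.1.subtype_injective _ }
  have hfib : ∀ W' : {W : Submodule F V // finrank F ↥W = m'},
      Nat.card {U : Submodule F ↥W'.1 // finrank F ↥U = m} = numSub F ↥W m := by
    intro W'
    let l : ↥W'.1 ≃ₗ[F] ↥W := LinearEquiv.ofFinrankEq _ _ (W'.2.trans hW.symm)
    exact Nat.card_congr ((Submodule.orderIsoMapComap l).toEquiv.subtypeEquiv fun U => by
      show _ ↔ finrank F ↥(U.map (l : ↥W'.1 →ₗ[F] ↥W)) = m
      rw [LinearEquiv.finrank_map_eq])
  rw [numFlag, numSub, Nat.card_congr e, Nat.card_sigma, Finset.sum_congr rfl (fun U _ => hfib U),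
    Finset.sum_const, Finset.card_univ, smul_eq_mul, Nat.card_eq_fintype_card]

end Cfsg.Agent.Lib.Elusive
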