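import Mathlib
import Cfsg.Prelude.Def_GeometricClasses
import Cfsg.Agent.Lib.LinClasses.SquareRoot

/-! Monomial involutions permute a decomposition into subspaces of equal dimension. -/

set_option autoImplicit false

namespace Cfsg.Agent.Lib.Elusive

open Module

/-- Swap consecutive indices below `2 * j`. -/
def pairSwap (t j : ℕ) (hj : 2 * j ≤ t) : Equiv.Perm (Fin t) :=
  Function.Involutive.toPerm
    (fun b => ⟨if (b : ℕ) < 2 * j then (if (b : ℕ) % 2 = 0 then b + 1 else b - 1) else b, by
      have := b.2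
      split_ifs <;> omega⟩)
    (fun b => Fin.ext (by
      have := b.2
      dsimp only
      split_ifs <;> omega))

theorem pairSwap_val (t j : ℕ) (hj : 2 * j ≤ t) (b : Fin t) : (pairSwap t j hj b : ℕ) =
    if (b : ℕ) < 2 * j then (if (b : ℕ) % 2 = 0 then (b : ℕ) + 1 else (b : ℕ) - 1) else (b : ℕ) := rfl

theorem pairSwap_pairSwap (t j : ℕ) (hj : 2 * j ≤ t) (b : Fin t) : pairSwap t j hj (pairSwap t j hj b) = b :=
  Fin.ext (by rw [pairSwap_val, pairSwap_val]; have := b.2; split_ifs <;> omega)

/-- An involution with `k` transpositions on `a * t` points permutes some partition into `t` blocks of size `a`. -/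
theorem exists_block_placement {a t k l : ℕ} (ha : 1 ≤ a) (hn : 2 * k + l = a * t) :
    ∃ e : ((Fin k × Fin 2) ⊕ Fin l) ≃ Fin t × Fin a, ∃ σ : Equiv.Perm (Fin t), (∀ b, σ (σ b) = b) ∧
      (∀ (i : Fin k) (s : Fin 2), (e (Sum.inl (i, s + 1))).1 = σ (e (Sum.inl (i, s))).1) ∧
      ∀ i : Fin l, σ (e (Sum.inr i)).1 = (e (Sum.inr i)).1 := by
  classical
  set j := k / a with hj
  set h := a / 2 with hh
  have hk : j * a ≤ k := Nat.div_mul_le_self k a
  have hρ : k - j * a < a := by
    have h1 := Nat.mod_lt k (show a > 0 by omega)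
    have h2 := Nat.mod_add_div k a
    rw [← hj, mul_comm] at h2
    omega
  have h2j : 2 * j ≤ t := by
    by_contra hcon
    have : a * (t + 1) ≤ a * (2 * j) := Nat.mul_le_mul_left a (by omega)
    rw [Nat.mul_succ, mul_left_comm, mul_comm a j] at this
    omega
  clear_value j h
  have hcap : k - j * a ≤ (t - 2 * j) * h := by
    obtain ⟨d, hd⟩ : ∃ d, t = 2 * j + d := ⟨t - 2 * j, by omega⟩
    have : a * t = 2 * (j * a) + a * d := by rw [hd, mul_add]; ring
    rw [show t - 2 * j = d by omega]
    rcases d with _ | _ | d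
    · omega
    · omega
    · have : 2 * h ≤ (d + 1 + 1) * h := Nat.mul_le_mul_right h (by omega)
      omega
  have hblk : ∀ i : ℕ, i < k → ¬ i < j * a → (i - j * a) / h < t - 2 * j ∧ 0 < h := by
    intro i hi hni
    have hpos : 0 < h := by
      by_contra h0
      have : (t - 2 * j) * h = 0 := by rw [show h = 0 by omega, mul_zero]
      omega
    exact ⟨(Nat.div_lt_iff_lt_mul hpos).2 (by omega), hpos⟩
  let f : Fin k × Fin 2 → Fin t × Fin a := fun p =>
    if hp : (p.1 : ℕ) < j * a then
      (⟨2 * ((p.1 : ℕ) / a) + p.2, by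
        have := (Nat.div_lt_iff_lt_mul (show 0 < a by omega)).2 hp
        have := p.2.2
        omega⟩, ⟨(p.1 : ℕ) % a, Nat.mod_lt _ (by omega)⟩)
    else
      (⟨2 * j + ((p.1 : ℕ) - j * a) / h, by have := (hblk _ p.1.2 hp).1; omega⟩,
        ⟨2 * (((p.1 : ℕ) - j * a) % h) + p.2, by
          have := Nat.mod_lt ((p.1 : ℕ) - j * a) (hblk _ p.1.2 hp).2
          have := p.2.2
          omega⟩)
  have hlow : ∀ p : Fin k × Fin 2, ((f p).1 : ℕ) < 2 * j ↔ (p.1 : ℕ) < j * a := by
    intro p
    simp only [f]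
    split_ifs with hp
    · have := (Nat.div_lt_iff_lt_mul (show 0 < a by omega)).2 hp
      have := p.2.2
      simp only [hp, iff_true]
      omega
    · simp [hp]
  have hinj : Function.Injective f := by
    rintro ⟨i, s⟩ ⟨i', s'⟩ heq
    have hb := hlow (i, s)
    rw [heq, hlow (i', s')] at hb
    dsimp only at hb
    simp only [f] at heq
    have := s.2
    have := s'.2
    by_cases hp : (i : ℕ) < j * a
    · rw [dif_pos hp, dif_pos (hb.2 hp), Prod.ext_iff, Fin.ext_iff, Fin.ext_iff] at heq
      dsimp only at heq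
      have hq : (i : ℕ) / a = (i' : ℕ) / a := by omega
      refine Prod.ext (Fin.ext ?_) (Fin.ext ?_)
      · show (i : ℕ) = i'
        have h1 := Nat.div_add_mod (i : ℕ) a
        have h2 := Nat.div_add_mod (i' : ℕ) a
        rw [hq, heq.2] at h1
        omega
      · show (s : ℕ) = s'
        omega
    · rw [dif_neg hp, dif_neg (mt hb.1 hp), Prod.ext_iff, Fin.ext_iff, Fin.ext_iff] at heq
      dsimp only at heq
      have hq : ((i : ℕ) - j * a) / h = ((i' : ℕ) - j * a) / h := by omega
      have hm : ((i : ℕ) - j * a) % h = ((i' : ℕ) - j * a) % h := by omega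
      have h1 := Nat.div_add_mod ((i : ℕ) - j * a) h
      have h2 := Nat.div_add_mod ((i' : ℕ) - j * a) h
      rw [hq, hm] at h1
      have := mt hb.1 hp
      refine Prod.ext (Fin.ext ?_) (Fin.ext ?_)
      · show (i : ℕ) = i'
        omega
      · show (s : ℕ) = s'
        omega
  have hcard : Fintype.card (Fin t × Fin a) = Fintype.card ((Fin k × Fin 2) ⊕ Fin l) := by
    simp only [Fintype.card_prod, Fintype.card_sum, Fintype.card_fin]
    rw [mul_comm t a, mul_comm k 2]; omega
  obtain ⟨e, he⟩ : ∃ e : ((Fin k × Fin 2) ⊕ Fin l) ≃ Fin t × Fin a, ∀ p, e (Sum.inl p) = f p := by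
    let e₀ : ((Fin k × Fin 2) ⊕ Fin l) ≃ Fin t × Fin a := Fintype.equivOfCardEq hcard.symm
    obtain ⟨π, hπ⟩ := Equiv.Perm.exists_extending_pair (fun p => e₀ (Sum.inl p)) f
      (e₀.injective.comp Sum.inl_injective) hinj
    exact ⟨e₀.trans π, fun p => hπ p⟩
  refine ⟨e, pairSwap t j h2j, pairSwap_pairSwap t j h2j,
    fun i s => ?_, fun i => ?_⟩
  · rw [he, he, Fin.ext_iff]
    rw [pairSwap_val]
    simp only [f]
    have := s.2
    by_cases hp : (i : ℕ) < j * a
    · simp only [dif_pos hp]
      have := (Nat.div_lt_iff_lt_mul (show 0 < a by omega)).2 hp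
      obtain rfl | rfl : s = 0 ∨ s = 1 := by omega
      all_goals simp
      all_goals (try split_ifs)
      all_goals omega
    · simp only [dif_neg hp]
      rw [if_neg (Nat.not_lt.2 (Nat.le_add_right (2 * j) (((i : ℕ) - j * a) / h)))]
  · have hnl : ¬ ((e (Sum.inr i)).1 : ℕ) < 2 * j := by
      intro hlt
      set b := (e (Sum.inr i)).1
      set c := (e (Sum.inr i)).2
      have hi' : ((b : ℕ) / 2) * a + c < k := by
        have h1 : ((b : ℕ) / 2 + 1) * a ≤ j * a := Nat.mul_le_mul_right a (by omega)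
        have := c.2
        rw [Nat.succ_mul] at h1
        omega
      have hp : ((b : ℕ) / 2) * a + c < j * a := by
        have h1 : ((b : ℕ) / 2 + 1) * a ≤ j * a := Nat.mul_le_mul_right a (by omega)
        have := c.2
        rw [Nat.succ_mul] at h1
        omega
      have hf : f (⟨_, hi'⟩, ⟨(b : ℕ) % 2, Nat.mod_lt _ (by omega)⟩) = (b, c) := by
        simp only [f, dif_pos hp]
        refine Prod.ext (Fin.ext ?_) (Fin.ext ?_)
        · show 2 * ((((b : ℕ) / 2) * a + c) / a) + (b : ℕ) % 2 = b
          rw [Nat.mul_comm ((b : ℕ) / 2) a, Nat.mul_add_div (by omega), Nat.div_eq_of_lt c.2]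
          omega
        · show (((b : ℕ) / 2) * a + c) % a = c
          rw [Nat.mul_comm ((b : ℕ) / 2) a, Nat.mul_add_mod, Nat.mod_eq_of_lt c.2]
      rw [← he] at hf
      exact Sum.inl_ne_inr (e.injective hf)
    rw [Fin.ext_iff]
    rw [pairSwap_val, if_neg hnl]

variable {F : Type*} [Field F] {n : ℕ}

/-- A monomial endomorphism with involutive underlying permutation permutes a decomposition. -/
theorem exists_decomposition_of_pairs {a t k l : ℕ} (ha : 1 ≤ a) (ht : 2 ≤ t) (hat : n = a * t)
    (x : Module.End F (Fin n → F)) (B : Basis ((Fin k × Fin 2) ⊕ Fin l) F (Fin n → F))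
    (hpair : ∀ i s, ∃ μ : F, μ ≠ 0 ∧ x (B (Sum.inl (i, s))) = μ • B (Sum.inl (i, s + 1)))
    (hfix : ∀ i, ∃ μ : F, μ ≠ 0 ∧ x (B (Sum.inr i)) = μ • B (Sum.inr i)) :
    ∃ D : Fin t → Submodule F (Fin n → F), Cfsg.Geo.IsMDecomposition a D ∧
      ∃ σ : Equiv.Perm (Fin t), ∀ j, (D j).map x = D (σ j) := by
  classical
  have hn : 2 * k + l = a * t := by
    have := Module.finrank_eq_card_basis B
    simp only [Module.finrank_fin_fun, Fintype.card_sum, Fintype.card_prod, Fintype.card_fin] at this
    omega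
  obtain ⟨e, σ, hσ, hσp, hσf⟩ := exists_block_placement ha hn
  let C := B.reindex e
  let S : Fin t → Set (Fin t × Fin a) := fun b => {p | p.1 = b}
  let D : Fin t → Submodule F (Fin n → F) := fun b => Submodule.span F (C '' S b)
  have hC : ∀ i, C (e i) = B i := fun i => by simp [C]
  have hle : ∀ b, (D b).map x ≤ D (σ b) := by
    intro b
    rw [Submodule.map_span, Submodule.span_le]
    rintro _ ⟨_, ⟨p, hp, rfl⟩, rfl⟩
    obtain ⟨i, rfl⟩ := e.surjective p
    rw [hC]
    rcases i with ⟨i, s⟩ | i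
    · obtain ⟨μ, -, hμ⟩ := hpair i s
      rw [hμ]
      refine Submodule.smul_mem _ μ (Submodule.subset_span ⟨e (Sum.inl (i, s + 1)), ?_, hC _⟩)
      show _ = σ b
      rw [hσp, show (e (Sum.inl (i, s))).1 = b from hp]
    · obtain ⟨μ, -, hμ⟩ := hfix i
      rw [hμ]
      refine Submodule.smul_mem _ μ (Submodule.subset_span ⟨e (Sum.inr i), ?_, hC _⟩)
      show _ = σ b
      rw [← hσf, show (e (Sum.inr i)).1 = b from hp]
  have hdim : ∀ b, finrank F (D b) = a := by
    intro b
    have hinj : Function.Injective (fun c : Fin a => (b, c)) := fun c c' h => (Prod.ext_iff.1 h).2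
    have hS : C '' S b = Set.range (C ∘ fun c : Fin a => (b, c)) := by
      ext v
      constructor
      · rintro ⟨⟨b', c⟩, rfl, rfl⟩; exact ⟨c, rfl⟩
      · rintro ⟨c, rfl⟩; exact ⟨(b, c), rfl, rfl⟩
    show finrank F ↥(Submodule.span F (C '' S b)) = a
    rw [hS, finrank_span_eq_card (C.linearIndependent.comp _ hinj), Fintype.card_fin]
  have hxinj : Function.Injective x := by
    have hsurj : Function.Surjective x := by
      rw [← LinearMap.range_eq_top, eq_top_iff, ← B.span_eq, Submodule.span_le]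
      rintro _ ⟨i, rfl⟩
      rcases i with ⟨i, s⟩ | i
      · obtain ⟨μ, h0, hμ⟩ := hpair i (s + 1)
        refine ⟨μ⁻¹ • B (Sum.inl (i, s + 1)), ?_⟩
        rw [map_smul, hμ, smul_smul, inv_mul_cancel₀ h0, one_smul]
        congr 3
        fin_cases s <;> rfl
      · obtain ⟨μ, h0, hμ⟩ := hfix i
        exact ⟨μ⁻¹ • B (Sum.inr i), by rw [map_smul, hμ, smul_smul, inv_mul_cancel₀ h0, one_smul]⟩
    exact LinearMap.injective_iff_surjective.2 hsurj
  refine ⟨D, ⟨ht, ha, hdim, fun b => ?_, ?_⟩, σ, fun b => ?_⟩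
  · refine Disjoint.mono_right (iSup₂_le fun b' hb' => Submodule.span_mono (Set.image_mono
      (fun p hp h' => hb' (hp.symm.trans h') : S b' ⊆ (S b)ᶜ))) ?_
    exact C.linearIndependent.disjoint_span_image disjoint_compl_right
  · rw [eq_top_iff, ← C.span_eq, Submodule.span_le]
    rintro _ ⟨p, rfl⟩
    exact Submodule.mem_iSup_of_mem p.1 (Submodule.subset_span ⟨p, rfl, rfl⟩)
  · refine Submodule.eq_of_le_of_finrank_eq (hle b) ?_
    rw [← (Submodule.equivMapOfInjective x hxinj (D b)).finrank_eq, hdim, hdim]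

/-- A square root of a nonzero scalar permutes a decomposition. -/
theorem exists_decomposition_of_sq {a t : ℕ} (ha : 1 ≤ a) (ht : 2 ≤ t) (hat : n = a * t) [Finite F]
    (x : Matrix (Fin n) (Fin n) F) {z : F} (hz0 : z ≠ 0) (hx : x * x = z • 1) :
    ∃ D : Fin t → Submodule F (Fin n → F), Cfsg.Geo.IsMDecomposition a D ∧
      ∃ σ : Equiv.Perm (Fin t), ∀ j, (D j).map (Matrix.toLin' x) = D (σ j) := by
  classical
  have hxx : ∀ v, Matrix.toLin' x (Matrix.toLin' x v) = z • v := fun v => by
    rw [Matrix.toLin'_apply, Matrix.toLin'_apply, LinClasses.mulVec_mulVec_of_sq hx]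
  by_cases hz : IsSquare z
  · obtain ⟨s, rfl⟩ := hz
    have hs0 : s ≠ 0 := fun h => hz0 (by rw [h, mul_zero])
    by_cases hs : s + s = 0
    · haveI : CharP F 2 := (CharP.charP_iff_prime_eq_zero Nat.prime_two).2 (by
        have h2 : (2 : F) * s = 0 := by rw [two_mul]; exact hs
        rw [Nat.cast_ofNat]; exact (mul_eq_zero.1 h2).resolve_right hs0)
      obtain ⟨r, k, hrk, Φ, hΦ⟩ := LinClasses.exists_isModel_charTwo hx
      let P := fun i => Φ (Pi.single i (1 : F))
      let v : (Fin r × Fin 2) ⊕ Fin k → (Fin n → F) :=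
        Sum.elim (fun p => if p.2 = 0 then P (.inl p.1) else Matrix.toLin' x (P (.inl p.1)))
          (fun i => P (.inr (.inl i)))
      have hcol : ∀ i, Matrix.toLin' x (P (.inl i)) = P (.inr (.inr i)) + s • P (.inl i) := by
        intro i
        rw [Matrix.toLin'_apply]
        simp only [P]
        rw [hΦ, Matrix.add_mulVec, Matrix.mulVec_single_one, Matrix.smul_mulVec, Matrix.one_mulVec,
          map_add, map_smul]
        congr 2
        funext q
        rcases q with q | q | q <;> simp [SquareZero.model, Pi.single_apply]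
      have hfixP : ∀ i, Matrix.toLin' x (P (.inr (.inl i))) = s • P (.inr (.inl i)) := by
        intro i
        rw [Matrix.toLin'_apply]
        simp only [P]
        rw [hΦ, Matrix.add_mulVec, Matrix.mulVec_single_one, Matrix.smul_mulVec, Matrix.one_mulVec,
          map_add, map_smul]
        rw [show Matrix.col (SquareZero.model F r k) (Sum.inr (Sum.inl i)) = 0 from
          funext fun q => by rcases q with q | q | q <;> simp [SquareZero.model], map_zero, zero_add]
      have hspan : ⊤ ≤ Submodule.span F (Set.range v) := by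
        rw [← ((Pi.basisFun F _).map Φ).span_eq, Submodule.span_le]
        rintro _ ⟨q, rfl⟩
        rw [Basis.map_apply, Pi.basisFun_apply]
        rcases q with q | q | q
        · exact Submodule.subset_span ⟨.inl (q, 0), by simp [v, P]⟩
        · exact Submodule.subset_span ⟨.inr q, rfl⟩
        · have h1 : P (.inr (.inr q)) = Matrix.toLin' x (P (.inl q)) - s • P (.inl q) := by
            rw [hcol]; abel
          rw [show Φ (Pi.single (Sum.inr (Sum.inr q)) 1) = P (.inr (.inr q)) from rfl, h1]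
          exact sub_mem (Submodule.subset_span ⟨.inl (q, 1), by simp [v]⟩)
            (Submodule.smul_mem _ _ (Submodule.subset_span ⟨.inl (q, 0), by simp [v]⟩))
      have hcard : Fintype.card ((Fin r × Fin 2) ⊕ Fin k) = finrank F (Fin n → F) := by
        simp only [Fintype.card_sum, Fintype.card_prod, Fintype.card_fin, Module.finrank_fin_fun]
        rw [Fintype.card_fin] at hrk
        omega
      let B := basisOfTopLeSpanOfCardEqFinrank v hspan hcard
      refine exists_decomposition_of_pairs ha ht hat _ B (fun i j => ?_) (fun i => ⟨s, hs0, ?_⟩)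
      · rw [coe_basisOfTopLeSpanOfCardEqFinrank]
        fin_cases j
        · exact ⟨1, one_ne_zero, by simp [v]⟩
        · exact ⟨s * s, hz0, by simp [v, hx, Matrix.smul_mulVec]⟩
      · rw [coe_basisOfTopLeSpanOfCardEqFinrank]
        exact hfixP i
    · obtain ⟨c, d, hcd, Φ, hΦ⟩ := LinClasses.exists_isModel_split hs hx
      let e : Fin c ⊕ Fin d ≃ (Fin 0 × Fin 2) ⊕ Fin (c + d) :=
        finSumFinEquiv.trans (Equiv.emptySum (Fin 0 × Fin 2) _).symm
      refine exists_decomposition_of_pairs ha ht hat _ (((Pi.basisFun F _).map Φ).reindex e)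
        (fun i => i.elim0) (fun i => ?_)
      obtain ⟨q, hq⟩ : ∃ q, e.symm (Sum.inr i) = q := ⟨_, rfl⟩
      refine ⟨Sum.elim (fun _ : Fin c => s) (fun _ : Fin d => -s) q, ?_, ?_⟩
      · rcases q with q | q <;> simpa using hs0
      · rw [Basis.reindex_apply, hq, Basis.map_apply, Pi.basisFun_apply, Matrix.toLin'_apply, hΦ,
          Matrix.mulVec_single_one, ← map_smul]
        congr 1
        funext p
        simp only [Matrix.col_apply, Matrix.diagonal_apply, Pi.smul_apply, smul_eq_mul, Pi.single_apply]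
        split_ifs with h <;> simp [*]
  · obtain ⟨b, hb, Φ, hΦ⟩ := LinClasses.exists_isModel_rot hz hx
    let e : Fin 2 × Fin b ≃ (Fin b × Fin 2) ⊕ Fin 0 := (Equiv.prodComm _ _).trans (Equiv.sumEmpty _ _).symm
    refine exists_decomposition_of_pairs ha ht hat _ (((Pi.basisFun F _).map Φ).reindex e) (fun i j => ?_)
      (fun i => i.elim0)
    have h0 : Matrix.toLin' x (Φ (Pi.single (0, i) 1)) = Φ (Pi.single (1, i) 1) := by
      rw [Matrix.toLin'_apply, hΦ]
      congr 1
      funext ⟨p, q⟩
      rw [Matrix.mulVec_single_one]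
      fin_cases p <;> simp [LinClasses.rotBlock, Matrix.blockDiagonal_apply, Pi.single_apply]
    fin_cases j
    · refine ⟨1, one_ne_zero, ?_⟩
      simp [e, h0]
    · refine ⟨z, hz0, ?_⟩
      simp [e, ← h0, hx, Matrix.smul_mulVec]

end Cfsg.Agent.Lib.Elusive
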