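import Mathlib
import Cfsg.Agent.Lib.Elusive.FormBasics
import Cfsg.Agent.Lib.Forms.Families

/-! Hermitian forms over finite fields: orthonormal frames, subspaces, determinants. -/

set_option autoImplicit false
set_option linter.style.haveILetI false
set_option linter.unusedSectionVars false

namespace Cfsg.Agent.Lib.Elusive

open Module Cfsg.Agent.Lib.Forms

variable {F : Type*} [Field F] [Fintype F] {σ : F →+* F} {V : Type*} [AddCommGroup V] [Module F V]
  [FiniteDimensional F V] {B : V →ₛₗ[σ] V →ₗ[F] F} (h : IsGoodForm B 1) (hσ : σ ≠ RingHom.id F)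
include h hσ

/-- A non-degenerate subspace has an anisotropic vector. -/
theorem exists_anisotropic {T : Submodule F V} (hT : Nd B T) (hne : T ≠ ⊥) : ∃ v ∈ T, B v v ≠ 0 := by
  by_contra hcon
  push Not at hcon
  obtain ⟨v, hv, hv0⟩ := Submodule.exists_mem_ne_zero_of_ne_bot hne
  have hS : B.IsSymm := ⟨fun x y => by rw [h.herm x y, one_mul]⟩
  exact hv0 (hT v hv fun w hw => hermitian_polarization hσ hS T hcon v hv w hw)

/-- An anisotropic vector scales to length one. -/
theorem exists_unit_vector {T : Submodule F V} (hT : Nd B T) (hne : T ≠ ⊥) : ∃ v ∈ T, B v v = 1 := by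
  obtain ⟨v, hv, hb⟩ := exists_anisotropic h hσ hT hne
  have hfix : σ (B v v) = B v v := by
    have := h.herm v v
    rw [one_mul] at this
    exact this.symm
  obtain ⟨x, hx⟩ := exists_norm_eq hσ h.invol (c := (B v v)⁻¹) (by rw [map_inv₀, hfix])
  refine ⟨x • v, T.smul_mem _ hv, ?_⟩
  simp only [map_smulₛₗ, LinearMap.smul_apply, RingHom.id_apply, smul_eq_mul]
  rw [← mul_assoc, hx, inv_mul_cancel₀ hb]

/-- Orthonormal families inside a non-degenerate subspace. -/
theorem exists_onb : ∀ (a : ℕ) {T : Submodule F V}, Nd B T → a ≤ finrank F ↥T →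
    ∃ f : Fin a → V, (∀ i, f i ∈ T) ∧ (∀ i j, B (f i) (f j) = if i = j then 1 else 0) ∧ LinearIndependent F f := by
  intro a
  induction a with
  | zero => exact fun _ _ => ⟨Fin.elim0, fun i => i.elim0, fun i => i.elim0, linearIndependent_empty_type⟩
  | succ a ih =>
    intro T hT ha
    obtain ⟨v, hv, hb⟩ := exists_unit_vector h hσ hT (fun e => by rw [e, finrank_bot] at ha; omega)
    have hv0 : v ≠ 0 := fun e => by rw [e, map_zero] at hb; exact zero_ne_one hb
    have hL : Nd B (F ∙ v) := by
      intro u hu hz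
      obtain ⟨c, rfl⟩ := Submodule.mem_span_singleton.1 hu
      have h1 := hz v (Submodule.mem_span_singleton_self v)
      rw [map_smulₛₗ, LinearMap.smul_apply, hb, smul_eq_mul, mul_one] at h1
      rw [(map_eq_zero σ).1 h1, zero_smul]
    obtain ⟨hS, -, -, hdim⟩ := split_nd h hL hT ((Submodule.span_singleton_le_iff_mem _ _).2 hv)
    rw [finrank_span_singleton hv0] at hdim
    obtain ⟨f, hfT, hfg, -⟩ := ih hS (by omega)
    have hg : ∀ i j, B ((Fin.cons v f : Fin (a + 1) → V) i) ((Fin.cons v f : Fin (a + 1) → V) j) =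
        if i = j then 1 else 0 := by
      intro i j
      induction i using Fin.cases with
      | zero =>
        induction j using Fin.cases with
        | zero => simpa using hb
        | succ j =>
          rw [Fin.cons_zero, Fin.cons_succ, if_neg (Fin.succ_ne_zero j).symm]
          exact (hfT j).2 v (Submodule.mem_span_singleton_self v)
      | succ i =>
        induction j using Fin.cases with
        | zero =>
          rw [Fin.cons_zero, Fin.cons_succ, if_neg (Fin.succ_ne_zero i)]
          exact h.eq_zero_symm ((hfT i).2 v (Submodule.mem_span_singleton_self v))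
        | succ j => simp only [Fin.cons_succ, hfg, Fin.succ_inj]
    refine ⟨Fin.cons v f, Fin.cases hv fun i => (hfT i).1, hg, ?_⟩
    exact linearIndependent_of_orthogonal (B := B) (fun i j hij => by rw [hg, if_neg hij])
      (fun i => by rw [hg, if_pos rfl]; exact one_ne_zero)

/-- An orthonormal frame of a non-degenerate subspace. -/
theorem exists_herm_frame {W : Submodule F V} (hW : Nd B W) {m : ℕ} (hd : finrank F ↥W = m) :
    ∃ f : Fin m → V, (∀ i, f i ∈ W) ∧ (∀ i j, B (f i) (f j) = if i = j then 1 else 0) ∧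
      LinearIndependent F f ∧ Submodule.span F (Set.range f) = W := by
  obtain ⟨f, hf, hg, hli⟩ := exists_onb h hσ m hW hd.ge
  refine ⟨f, hf, hg, hli, Submodule.eq_of_le_of_finrank_eq (Submodule.span_le.2 ?_) ?_⟩
  · rintro _ ⟨i, rfl⟩; exact hf i
  · rw [finrank_span_eq_card hli, Fintype.card_fin, hd]

/-- Non-degenerate subspaces of every dimension. -/
theorem exists_herm_nd_sub {T : Submodule F V} (hT : Nd B T) {a : ℕ} (ha : a ≤ finrank F ↥T) :
    ∃ A, A ≤ T ∧ Nd B A ∧ finrank F ↥A = a := by
  classical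
  obtain ⟨f, hf, hg, hli⟩ := exists_onb h hσ a hT ha
  refine ⟨Submodule.span F (Set.range f), Submodule.span_le.2 ?_, fun u hu hz => ?_,
    (finrank_span_eq_card hli).trans (Fintype.card_fin a)⟩
  · rintro _ ⟨i, rfl⟩; exact hf i
  · obtain ⟨c, rfl⟩ := (Submodule.mem_span_range_iff_exists_fun F).1 hu
    refine Finset.sum_eq_zero fun i _ => ?_
    have h1 := hz (f i) (Submodule.subset_span ⟨i, rfl⟩)
    simp only [map_sum, map_smulₛₗ, LinearMap.sum_apply, LinearMap.smul_apply, hg, smul_eq_mul, mul_ite, mul_one,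
      mul_zero, Finset.sum_ite_eq', Finset.mem_univ, if_true] at h1
    rw [(map_eq_zero σ).1 h1, zero_smul]

/-- Totally isotropic subspaces of every admissible dimension. -/
theorem exists_herm_iso_sub {T : Submodule F V} (hT : Nd B T) {a : ℕ} (ha : 2 * a ≤ finrank F ↥T) :
    ∃ A, A ≤ T ∧ Iso B A ∧ finrank F ↥A = a := by
  classical
  obtain ⟨f, hf, hg, hli⟩ := exists_onb h hσ (2 * a) hT ha
  obtain ⟨l, hl⟩ := exists_norm_eq hσ h.invol (c := (-1 : F)) (by rw [map_neg, map_one])
  let i₀ : Fin a → Fin (2 * a) := fun j => ⟨(j : ℕ), by omega⟩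
  let i₁ : Fin a → Fin (2 * a) := fun j => ⟨a + (j : ℕ), by omega⟩
  let g : Fin a → V := fun j => f (i₀ j) + l • f (i₁ j)
  have h01 : ∀ j j', i₀ j ≠ i₁ j' := fun j j' e => by
    have := congrArg Fin.val e; simp only [i₀, i₁] at this; omega
  have hi0 : ∀ j j', (i₀ j = i₀ j') ↔ j = j' := fun j j' => by simp [i₀, Fin.ext_iff]
  have hi1 : ∀ j j', (i₁ j = i₁ j') ↔ j = j' := fun j j' => by simp [i₁, Fin.ext_iff]
  have hgg : ∀ j j', B (g j) (g j') = 0 := by
    intro j j'
    simp only [g, map_add, map_smulₛₗ, LinearMap.add_apply, LinearMap.smul_apply, map_smul, hg, hi0, hi1,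
      if_neg (h01 j j'), if_neg (h01 j' j).symm, smul_eq_mul, mul_zero, add_zero, zero_add, RingHom.id_apply]
    split_ifs
    · linear_combination hl
    · ring
  have hdual : ∀ j j', B (f (i₀ j)) (g j') = if j = j' then 1 else 0 := fun j j' => by
    simp only [g, map_add, map_smul, hg, hi0, if_neg (h01 j j'), smul_eq_mul, mul_zero, add_zero]
  have hglin : LinearIndependent F g := by
    rw [Fintype.linearIndependent_iff]
    intro c hc j
    have h1 := congrArg (B (f (i₀ j))) hc
    simp only [map_sum, map_smul, hdual, smul_eq_mul, mul_ite, mul_one, mul_zero, Finset.sum_ite_eq,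
      Finset.mem_univ, if_true, map_zero] at h1
    exact h1
  refine ⟨Submodule.span F (Set.range g), Submodule.span_le.2 ?_, ?_,
    (finrank_span_eq_card hglin).trans (Fintype.card_fin a)⟩
  · rintro _ ⟨j, rfl⟩; exact T.add_mem (hf _) (T.smul_mem _ (hf _))
  · intro x hx y hy
    obtain ⟨c, rfl⟩ := (Submodule.mem_span_range_iff_exists_fun F).1 hx
    obtain ⟨c', rfl⟩ := (Submodule.mem_span_range_iff_exists_fun F).1 hy
    simp [map_sum, hgg]

/-- An isometry has determinant of norm one on each non-degenerate invariant subspace. -/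
theorem det_restrict_norm {g : Module.End F V} (hg : ∀ u v, B (g u) (g v) = B u v) {W : Submodule F V}
    (hWi : Inv g W) (hW : Nd B W) :
    σ (LinearMap.det (g.restrict hWi : Module.End F ↥W)) * LinearMap.det (g.restrict hWi : Module.End F ↥W) = 1 := by
  classical
  obtain ⟨f, hf, hfg, hli, hspan⟩ := exists_herm_frame h hσ hW (m := finrank F ↥W) rfl
  let f' : Fin (finrank F ↥W) → ↥W := fun i => ⟨f i, hf i⟩
  have hli' : LinearIndependent F f' := LinearIndependent.of_comp W.subtype hli
  by_cases h0 : finrank F ↥W = 0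
  · haveI : Subsingleton ↥W := Module.finrank_zero_iff.1 h0
    rw [Subsingleton.elim (g.restrict hWi : Module.End F ↥W) 1, map_one, map_one, mul_one]
  haveI : Nonempty (Fin (finrank F ↥W)) := ⟨⟨0, Nat.pos_of_ne_zero h0⟩⟩
  let b := basisOfLinearIndependentOfCardEqFinrank hli' (Fintype.card_fin _)
  have hb : ∀ i, (b i : V) = f i := fun i => by simp [b, f']
  set M := LinearMap.toMatrix b b (g.restrict hWi : Module.End F ↥W) with hM
  have hcol : ∀ j, g (f j) = ∑ i, M i j • f i := fun j => by
    have h1 := congrArg Subtype.val (b.sum_repr ((g.restrict hWi : Module.End F ↥W) (b j)))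
    simp only [Submodule.coe_sum, Submodule.coe_smul, hb] at h1
    have h2 : (((g.restrict hWi : Module.End F ↥W) (b j) : ↥W) : V) = g (f j) := by rw [← hb j]; rfl
    rw [← h2, ← h1]
    exact Finset.sum_congr rfl fun i _ => by rw [hM, LinearMap.toMatrix_apply]
  have hMM : (M.map σ).transpose * M = 1 := by
    ext j k
    have h1 := hg (f j) (f k)
    rw [hcol, hcol, hfg] at h1
    simp only [map_sum, map_smulₛₗ, LinearMap.sum_apply, LinearMap.smul_apply, hfg, smul_eq_mul,
      mul_ite, mul_one, mul_zero, Finset.sum_ite_eq', Finset.mem_univ, if_true, RingHom.id_apply] at h1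
    rw [Matrix.mul_apply, Matrix.one_apply, ← h1]
    exact Finset.sum_congr rfl fun i _ => by
      rw [Matrix.transpose_apply, Matrix.map_apply, mul_comm]
  have h2 := congrArg Matrix.det hMM
  rw [Matrix.det_mul, Matrix.det_transpose, Matrix.det_one, ← RingHom.mapMatrix_apply, ← RingHom.map_det,
    hM, LinearMap.det_toMatrix] at h2
  exact h2

end Cfsg.Agent.Lib.Elusive
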