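import Mathlib
import Cfsg.Agent.Lib.Elusive.Count
import Cfsg.Agent.Lib.Elusive.Linear

/-! Endomorphisms with a prime power equal to a scalar. -/

set_option autoImplicit false

namespace Cfsg.Agent.Lib.Elusive

open Module Polynomial

section General

variable {F : Type*} [Field F] {V : Type*} [AddCommGroup V] [Module F V] {r : ℕ}

theorem inv_smul_iff {d : F} (hd : d ≠ 0) (f : Module.End F V) (U : Submodule F V) :
    Inv (d • f) U ↔ Inv f U := by
  refine forall₂_congr fun v _ => ?_
  rw [LinearMap.smul_apply]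
  exact Submodule.smul_mem_iff _ hd

theorem exists_root {c d : F} (hc : c ≠ 0) (hr : r.Prime) {j : ℕ} (hj : ¬ r ∣ j) (h : c ^ j = d ^ r) :
    ∃ e : F, e ^ r = c := by
  have hd : d ≠ 0 := fun h0 => by rw [h0, zero_pow hr.ne_zero] at h; exact pow_ne_zero _ hc h
  have hg := Nat.gcd_eq_gcd_ab r j
  rw [Nat.Coprime.gcd_eq_one ((Nat.Prime.coprime_iff_not_dvd hr).2 hj)] at hg
  refine ⟨c ^ Nat.gcdA r j * d ^ Nat.gcdB r j, ?_⟩
  have hz : c ^ (j : ℤ) = d ^ (r : ℤ) := by rw [zpow_natCast, zpow_natCast]; exact h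
  rw [← zpow_natCast (c ^ Nat.gcdA r j * d ^ Nat.gcdB r j) r, mul_zpow, ← zpow_mul, ← zpow_mul,
    mul_comm (Nat.gcdB r j), zpow_mul d, ← hz, ← zpow_mul, ← zpow_add₀ hc, mul_comm _ (r : ℤ), ← hg]
  simp

theorem exists_root_of_not_dvd [Fintype F] (hr : r.Prime) (h : ¬ r ∣ Fintype.card F - 1) {c : F}
    (hc : c ≠ 0) : ∃ e : F, e ^ r = c :=
  exists_root hc hr h (d := 1) (by rw [one_pow, FiniteField.pow_card_sub_one_eq_one c hc])

theorem det_smul_one [FiniteDimensional F V] (c : F) :
    LinearMap.det (c • (1 : Module.End F V)) = c ^ finrank F V := by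
  rw [LinearMap.det_smul, map_one, mul_one]

theorem scalar_ne_zero [FiniteDimensional F V] {f : Module.End F V} (hdet : LinearMap.det f = 1) {c : F}
    (hc : f ^ r = c • 1) (hn : finrank F V ≠ 0) : c ≠ 0 := by
  intro h
  have := congrArg LinearMap.det hc
  rw [map_pow, hdet, one_pow, det_smul_one, h, zero_pow hn] at this
  exact one_ne_zero this

/-- `f ^ r` is a scalar that is not an `r`-th power. -/
def NonSplit (r : ℕ) (f : Module.End F V) : Prop := ∃ c : F, f ^ r = c • 1 ∧ ∀ d : F, d ^ r ≠ c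

theorem NonSplit.dvd_finrank [FiniteDimensional F V] (hr : r.Prime) {f : Module.End F V} (h : NonSplit r f)
    {W : Submodule F V} (hW : Inv f W) : r ∣ finrank F ↥W := by
  obtain ⟨c, hc, hd⟩ := h
  by_contra hnd
  by_cases hc0 : c = 0
  · exact hd 0 (by rw [hc0, zero_pow hr.ne_zero])
  have hW' : ∀ k : ℕ, ∀ w : ↥W, (((f.restrict hW) ^ k) w : V) = (f ^ k) (w : V) := fun k => by
    induction k with
    | zero => intro w; rfl
    | succ k ih => intro w; rw [pow_succ, pow_succ, Module.End.mul_apply, Module.End.mul_apply, ih]; rfl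
  have hpow : (f.restrict hW) ^ r = c • (1 : Module.End F ↥W) := by
    refine LinearMap.ext fun w => Subtype.ext ?_
    rw [hW', hc]; rfl
  have hdet := congrArg LinearMap.det hpow
  rw [map_pow, det_smul_one] at hdet
  obtain ⟨e, he⟩ := exists_root hc0 hr hnd hdet.symm
  exact hd e he

theorem adjoinRoot_norm (hr : r.Prime) (c : F) [hirr : Fact (Irreducible (X ^ r - C c : F[X]))] :
    Algebra.norm F (AdjoinRoot.root (X ^ r - C c : F[X])) = (-1) ^ (r + 1) * c ∧
      finrank F (AdjoinRoot (X ^ r - C c : F[X])) = r := by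
  have hm : (X ^ r - C c : F[X]).Monic := monic_X_pow_sub_C c hr.ne_zero
  have hdeg : (X ^ r - C c : F[X]).natDegree = r := natDegree_X_pow_sub_C
  let pb := AdjoinRoot.powerBasis hm.ne_zero
  have hfr : finrank F (AdjoinRoot (X ^ r - C c : F[X])) = r := by
    rw [pb.finrank]; exact hdeg
  refine ⟨?_, hfr⟩
  have := Algebra.PowerBasis.norm_gen_eq_coeff_zero_minpoly pb
  rw [show pb.gen = AdjoinRoot.root _ from rfl, AdjoinRoot.minpoly_root hm.ne_zero, hm.leadingCoeff,
    inv_one, map_one, mul_one, show pb.dim = r from hdeg] at this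
  rw [this, coeff_sub, coeff_X_pow, if_neg (Ne.symm hr.ne_zero), coeff_C_zero, pow_succ]
  ring

/-- A non-split endomorphism is multiplication by a root on a vector space over a bigger field. -/
theorem NonSplit.structure' [FiniteDimensional F V] (hr : r.Prime) {f : Module.End F V} (h : NonSplit r f) :
    r ∣ finrank F V ∧
    (∃ c : F, f ^ r = c • 1 ∧ (∀ d : F, d ^ r ≠ c) ∧
      LinearMap.det f = ((-1) ^ (r + 1) * c) ^ (finrank F V / r)) ∧
    ∀ k k', k ≤ k' → r * k' ≤ finrank F V →
      ∃ U W U' : Submodule F V, Inv f U ∧ Inv f W ∧ Inv f U' ∧ U ≤ W ∧ IsCompl U U' ∧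
        finrank F ↥U = r * k ∧ finrank F ↥W = r * k' := by
  obtain ⟨c, hc, hd⟩ := h
  haveI hirr : Fact (Irreducible (X ^ r - C c : F[X])) := ⟨X_pow_sub_C_irreducible_of_prime hr hd⟩
  obtain ⟨hnorm, hfr⟩ := adjoinRoot_norm hr c
  have hker : ∀ g : F[X], g ∈ Ideal.span {(X ^ r - C c : F[X])} → (Polynomial.aeval f) g = 0 := by
    intro g hg
    obtain ⟨g', rfl⟩ := Ideal.mem_span_singleton.1 hg
    rw [map_mul, map_sub, map_pow, aeval_X, aeval_C, hc, Algebra.algebraMap_eq_smul_one, sub_self, zero_mul]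
  let φ : AdjoinRoot (X ^ r - C c : F[X]) →ₐ[F] Module.End F V :=
    Ideal.Quotient.liftₐ _ (Polynomial.aeval f) hker
  letI : Module (AdjoinRoot (X ^ r - C c : F[X])) V := Module.compHom V φ.toRingHom
  haveI : IsScalarTower F (AdjoinRoot (X ^ r - C c : F[X])) V := ⟨fun a l v => by
    show φ (a • l) v = a • φ l v
    rw [map_smul]; rfl⟩
  haveI : Module.Finite F (AdjoinRoot (X ^ r - C c : F[X])) :=
    Module.finite_of_finrank_pos (by rw [hfr]; exact hr.pos)
  haveI : FiniteDimensional (AdjoinRoot (X ^ r - C c : F[X])) V := Module.Finite.of_restrictScalars_finite F _ V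
  have hroot : ∀ v : V, AdjoinRoot.root (X ^ r - C c : F[X]) • v = f v := fun v => by
    show φ (AdjoinRoot.root _) v = f v
    rw [show φ (AdjoinRoot.root _) = Polynomial.aeval f (X : F[X]) from rfl, aeval_X]
  have hn : r * finrank (AdjoinRoot (X ^ r - C c : F[X])) V = finrank F V := by
    rw [← Module.finrank_mul_finrank F (AdjoinRoot (X ^ r - C c : F[X])) V, hfr]
  refine ⟨⟨_, hn.symm⟩, ⟨c, hc, hd, ?_⟩, fun k k' hk hk' => ?_⟩
  · have hf : f = ((AdjoinRoot.root (X ^ r - C c : F[X])) •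
        (LinearMap.id : V →ₗ[AdjoinRoot (X ^ r - C c : F[X])] V)).restrictScalars F :=
      LinearMap.ext fun v => (hroot v).symm
    rw [hf, LinearMap.det_restrictScalars, LinearMap.det_smul, LinearMap.det_id, mul_one, map_pow, hnorm,
      ← hn, Nat.mul_div_cancel_left _ hr.pos]
  · set L := AdjoinRoot (X ^ r - C c : F[X])
    have hk'' : k' ≤ finrank L V := Nat.le_of_mul_le_mul_left (hn ▸ hk') hr.pos
    let b := Module.finBasis L V
    let S : ∀ j, j ≤ finrank L V → Submodule L V := fun j hj =>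
      Submodule.span L (Set.range (b ∘ Fin.castLE hj))
    have hS : ∀ j hj, finrank L ↥(S j hj) = j := fun j hj => by
      rw [finrank_span_eq_card (b.linearIndependent.comp _ (Fin.castLE_injective hj)), Fintype.card_fin]
    have hInv : ∀ T : Submodule L V, Inv f (T.restrictScalars F) := fun T v hv => by
      rw [← hroot]; exact T.smul_mem _ hv
    have hdim : ∀ T : Submodule L V, finrank F ↥(T.restrictScalars F) = r * finrank L ↥T := fun T => by
      have := Module.finrank_mul_finrank F L ↥T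
      rw [hfr] at this
      exact this.symm
    obtain ⟨T', hT'⟩ := (S k (hk.trans hk'')).exists_isCompl
    refine ⟨(S k (hk.trans hk'')).restrictScalars F, (S k' hk'').restrictScalars F, T'.restrictScalars F,
      hInv _, hInv _, hInv _, ?_, ?_, by rw [hdim, hS], by rw [hdim, hS]⟩
    · intro v hv
      refine Submodule.span_mono ?_ hv
      rintro _ ⟨j, rfl⟩
      exact ⟨Fin.castLE hk j, rfl⟩
    · refine ⟨disjoint_iff.2 ?_, codisjoint_iff.2 ?_⟩
      · rw [eq_bot_iff]
        intro v hv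
        exact (Submodule.mem_bot F).2 ((Submodule.mem_bot L).1 (hT'.inf_eq_bot.le hv))
      · rw [eq_top_iff]
        intro v _
        have hv : v ∈ (S k (hk.trans hk'')) ⊔ T' := hT'.sup_eq_top.ge Submodule.mem_top
        obtain ⟨a, ha, a', ha', rfl⟩ := Submodule.mem_sup.1 hv
        exact Submodule.add_mem_sup ha ha'

theorem conj_pow {W : Type*} [AddCommGroup W] [Module F W] (e : V ≃ₗ[F] W) (g : Module.End F V) (k : ℕ)
    (w : W) : ((e.conj g) ^ k) w = e ((g ^ k) (e.symm w)) := by
  induction k generalizing w with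
  | zero => simp
  | succ k ih =>
    rw [pow_succ, Module.End.mul_apply, ih, pow_succ, Module.End.mul_apply, LinearEquiv.conj_apply_apply,
      LinearEquiv.symm_apply_apply]

theorem exists_nonSplit [FiniteDimensional F V] (hr : r.Prime) (hrn : r ∣ finrank F V)
    {c : F} (hd : ∀ d : F, d ^ r ≠ c) :
    ∃ f : Module.End F V, f ^ r = c • 1 ∧ LinearMap.det f = ((-1) ^ (r + 1) * c) ^ (finrank F V / r) := by
  haveI hirr : Fact (Irreducible (X ^ r - C c : F[X])) := ⟨X_pow_sub_C_irreducible_of_prime hr hd⟩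
  obtain ⟨hnorm, hfr⟩ := adjoinRoot_norm hr c
  haveI : Module.Finite F (AdjoinRoot (X ^ r - C c : F[X])) :=
    Module.finite_of_finrank_pos (by rw [hfr]; exact hr.pos)
  set L := AdjoinRoot (X ^ r - C c : F[X])
  set ρ : L := AdjoinRoot.root _
  have hρ : ρ ^ r = algebraMap F L c := by
    have h := AdjoinRoot.eval₂_root (X ^ r - C c : F[X])
    simp only [eval₂_sub, eval₂_X_pow, eval₂_C, sub_eq_zero] at h
    exact h
  let g : Module.End F (Fin (finrank F V / r) → L) :=
    (ρ • (LinearMap.id : (Fin (finrank F V / r) → L) →ₗ[L] _)).restrictScalars F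
  have hg : ∀ (k : ℕ) a, (g ^ k) a = ρ ^ k • a := fun k => by
    induction k with
    | zero => intro a; simp
    | succ k ih =>
      intro a
      rw [pow_succ, Module.End.mul_apply, ih]
      show ρ ^ k • (ρ • a) = _
      rw [smul_smul, ← pow_succ]
  let e : (Fin (finrank F V / r) → L) ≃ₗ[F] V := LinearEquiv.ofFinrankEq _ _ (by
    rw [Module.finrank_pi_fintype, Finset.sum_const, Finset.card_univ, Fintype.card_fin, smul_eq_mul, hfr,
      Nat.div_mul_cancel hrn])
  refine ⟨e.conj g, LinearMap.ext fun w => ?_, ?_⟩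
  · rw [conj_pow, hg, hρ, algebraMap_smul, map_smul, LinearEquiv.apply_symm_apply]; rfl
  · rw [LinearEquiv.conj_apply, LinearMap.comp_assoc, LinearMap.det_conj]
    show LinearMap.det g = _
    rw [LinearMap.det_restrictScalars, LinearMap.det_smul, LinearMap.det_id, mul_one, map_pow, hnorm,
      Module.finrank_fin_fun]

end General

section Finite

variable {F : Type*} [Field F] [Fintype F] {V : Type*} [AddCommGroup V] [Module F V] [FiniteDimensional F V]
  {r : ℕ}

theorem orderOf_eq_one_iff_dvd : orderOf (Fintype.card F : ZMod r) = 1 ↔ r ∣ Fintype.card F - 1 := by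
  have := dvd_pow_sub_one_iff (r := r) (q := Fintype.card F) Fintype.card_pos 1
  rw [pow_one, Nat.dvd_one] at this
  exact this.symm

theorem orderOf_pos (hr : r.Prime) (hrF : (r : F) ≠ 0) : 0 < orderOf (Fintype.card F : ZMod r) := by
  haveI : Fact r.Prime := ⟨hr⟩
  obtain ⟨p, hp⟩ := CharP.exists F
  obtain ⟨k, hp', hk⟩ := FiniteField.card F p
  have h0 : (Fintype.card F : ZMod r) ≠ 0 := by
    rw [Ne, ZMod.natCast_eq_zero_iff, hk]
    intro h
    have := (Nat.prime_dvd_prime_iff_eq hr hp').1 (hr.dvd_of_dvd_pow h)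
    exact hrF (by rw [this]; exact CharP.cast_eq_zero F p)
  exact orderOf_pos_iff.2 (isOfFinOrder_iff_pow_eq_one.2
    ⟨r - 1, by have := hr.two_le; omega, ZMod.pow_card_sub_one_eq_one h0⟩)

/-- A non-`r`-th power `z` with `z ^ k = 1` exists iff the `r`-part of `k` is at least that of `q - 1`. -/
theorem exists_nonpower_iff (hr : r.Prime) (hrq : r ∣ Fintype.card F - 1) {k : ℕ} (hk : k ≠ 0) :
    (∃ z : F, (∀ d : F, d ^ r ≠ z) ∧ z ^ k = 1) ↔
      padicValNat r (Fintype.card F - 1) ≤ padicValNat r k := by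
  classical
  haveI : Fact r.Prime := ⟨hr⟩
  set N := Fintype.card F - 1 with hN
  have hN0 : N ≠ 0 := by have := Fintype.one_lt_card (α := F); omega
  obtain ⟨g, hg⟩ := IsCyclic.exists_monoid_generator (α := Fˣ)
  have hog : orderOf g = N := by
    rw [hN, ← Fintype.card_units, ← Nat.card_eq_fintype_card]
    exact orderOf_eq_card_of_forall_mem_zpowers fun x => mem_powers_iff_mem_zpowers.1 (hg x)
  constructor
  · rintro ⟨z, hz, hzk⟩
    have hz0 : z ≠ 0 := fun h => hz 0 (by rw [h, zero_pow hr.ne_zero])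
    obtain ⟨a, ha⟩ := Submonoid.mem_powers_iff _ _ |>.1 (hg (Units.mk0 z hz0))
    have hra : ¬ r ∣ a := by
      rintro ⟨b, rfl⟩
      exact hz ((g ^ b : Fˣ) : F) (by rw [← Units.val_pow_eq_pow_val, ← pow_mul, mul_comm, ha]; rfl)
    have hd : N ∣ a * k := by
      rw [← hog]
      exact orderOf_dvd_of_pow_eq_one (Units.ext (by rw [pow_mul, ha]; simpa using hzk))
    have h2 : r ^ padicValNat r N ∣ a * k := (pow_padicValNat_dvd).trans hd
    exact (padicValNat_dvd_iff_le hk).1
      (((Nat.Prime.coprime_iff_not_dvd hr).2 hra).pow_left _ |>.dvd_of_dvd_mul_left h2)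
  · intro hle
    obtain ⟨a, ha⟩ : r ^ padicValNat r N ∣ N := pow_padicValNat_dvd
    have hra : ¬ r ∣ a := fun ⟨b, hb⟩ =>
      pow_succ_padicValNat_not_dvd (p := r) hN0 ⟨b, ha.trans (by rw [hb, pow_succ, mul_assoc])⟩
    refine ⟨((g ^ a : Fˣ) : F), fun d hd => ?_, ?_⟩
    · have hd0 : d ≠ 0 := fun h => by
        rw [h, zero_pow hr.ne_zero] at hd
        exact (g ^ a).ne_zero hd.symm
      obtain ⟨b, hb⟩ := Submonoid.mem_powers_iff _ _ |>.1 (hg (Units.mk0 d hd0))
      have he : g ^ (b * r) = g ^ a := Units.ext (by rw [pow_mul, hb]; simpa using hd)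
      rw [pow_eq_pow_iff_modEq, hog] at he
      have := he.of_dvd hrq
      exact hra (Nat.modEq_zero_iff_dvd.1 (this.symm.trans (Nat.modEq_zero_iff_dvd.2 (dvd_mul_left r b))))
    · obtain ⟨k', hk'⟩ := (padicValNat_dvd_iff_le hk).2 hle
      have hdvd : N ∣ a * k := ⟨k', (congrArg (a * ·) hk').trans ((by ring : a * (r ^ padicValNat r N * k') = r ^ padicValNat r N * a * k').trans (congrArg (· * k') ha.symm))⟩
      rw [← Units.val_pow_eq_pow_val, ← pow_mul, orderOf_dvd_iff_pow_eq_one.1 (hog ▸ hdvd), Units.val_one]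

/-- The arithmetic criterion for a non-split element of determinant one. -/
theorem forall_power_iff (hr : r.Prime) (hrq : r ∣ Fintype.card F - 1) {n : ℕ} (hn : n ≠ 0) (hrn : r ∣ n) :
    (∀ c : F, ((-1) ^ (r + 1) * c) ^ (n / r) = 1 → ∃ d : F, d ^ r = c) ↔
      (padicValNat r n ≤ padicValNat r (Fintype.card F - 1) ∧
        (r = 2 → Even n → Fintype.card F % 4 = 1)) := by
  classical
  haveI : Fact r.Prime := ⟨hr⟩
  obtain ⟨k, rfl⟩ := hrn
  have hk : k ≠ 0 := fun h => hn (by rw [h, mul_zero])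
  rw [Nat.mul_div_cancel_left _ hr.pos, padicValNat.mul hr.ne_zero hk, padicValNat.self hr.one_lt]
  by_cases h2 : r = 2 ∧ Fintype.card F % 4 ≠ 1
  · obtain ⟨rfl, h4⟩ := h2
    refine iff_of_false (fun h => ?_) fun h => h4 (h.2 rfl (even_two_mul k))
    obtain ⟨d, hd⟩ := h (-1) (by norm_num)
    have := FiniteField.isSquare_neg_one_iff.1 ⟨d, by rw [← hd]; ring⟩
    have hodd : ¬ 2 ∣ Fintype.card F := by
      intro h'
      have := Fintype.one_lt_card (α := F)
      omega
    omega
  · have hε : ∃ e : F, e ≠ 0 ∧ e ^ r = (-1) ^ (r + 1) := by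
      rcases hr.eq_two_or_odd' with rfl | ho
      · obtain ⟨e, he⟩ := FiniteField.isSquare_neg_one_iff.2
          (show Fintype.card F % 4 ≠ 3 by simp only [true_and, not_not] at h2; omega)
        refine ⟨e, fun h0 => ?_, by rw [sq, ← he]; norm_num⟩
        rw [h0] at he; simp at he
      · exact ⟨1, one_ne_zero, by rw [one_pow, Even.neg_one_pow (ho.add_one)]⟩
    obtain ⟨e, he0, he⟩ := hε
    have hmid : (∀ c : F, ((-1) ^ (r + 1) * c) ^ k = 1 → ∃ d : F, d ^ r = c) ↔
        ¬ (∃ z : F, (∀ d : F, d ^ r ≠ z) ∧ z ^ k = 1) := by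
      rw [← he]
      constructor
      · rintro h ⟨z, hz, hzk⟩
        have hne : e ^ r ≠ 0 := pow_ne_zero _ he0
        obtain ⟨d, hd⟩ := h (z / e ^ r) (by rw [mul_div_cancel₀ _ hne]; exact hzk)
        exact hz (d * e) (by rw [mul_pow, hd, div_mul_cancel₀ _ hne])
      · intro h c hc
        by_contra hnd
        refine h ⟨e ^ r * c, fun d hd => hnd ⟨d / e, ?_⟩, hc⟩
        rw [div_pow, hd, mul_div_cancel_left₀ _ (pow_ne_zero _ he0)]
    rw [hmid, exists_nonpower_iff hr hrq hk]
    refine ⟨fun h => ⟨by omega, fun h2' _ => by tauto⟩, fun h => by omega⟩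

/-- The case `r ∣ q - 1`. -/
theorem forall_iff_of_dvd (hr : r.Prime) (hn : finrank F V ≠ 0) (hrq : r ∣ Fintype.card F - 1) (m : ℕ)
    (P : Module.End F V → Prop) (hP : ∀ (d : F) (f : Module.End F V), d ≠ 0 → (P (d • f) ↔ P f))
    (hsplit : ∀ y : Module.End F V, y ^ r = 1 → P y)
    (hns : ∀ f : Module.End F V, NonSplit r f → (P f ↔ r ∣ m)) :
    (∀ f : Module.End F V, LinearMap.det f = 1 → (∃ c : F, f ^ r = c • 1) → (∀ c : F, f ≠ c • 1) → P f) ↔
      (r ∣ m ∨ (padicValNat r (finrank F V) ≤ padicValNat r (Fintype.card F - 1) ∧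
        (r = 2 → Even (finrank F V) → Fintype.card F % 4 = 1))) := by
  constructor
  · intro h
    by_contra hcon
    rw [not_or] at hcon
    by_cases hrn : r ∣ finrank F V
    · refine hcon.2 ((forall_power_iff hr hrq hn hrn).1 fun c hc => ?_)
      by_contra hnd
      push Not at hnd
      obtain ⟨f, hf, hdet⟩ := exists_nonSplit (V := V) hr hrn hnd
      refine hcon.1 ((hns f ⟨c, hf, hnd⟩).1 (h f (hdet.trans hc) ⟨c, hf⟩ fun a ha => ?_))
      refine hnd a ?_
      have h1 := congrArg LinearMap.det (show (1 : Module.End F V) = 1 from rfl)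
      rw [ha, _root_.smul_pow, one_pow] at hf
      haveI : Nontrivial V := Module.nontrivial_of_finrank_pos (Nat.pos_of_ne_zero hn)
      exact smul_left_injective F one_ne_zero hf
    · refine hcon.2 ⟨?_, fun h2 hev => absurd (h2 ▸ even_iff_two_dvd.1 hev) hrn⟩
      rw [padicValNat.eq_zero_of_not_dvd hrn]; exact Nat.zero_le _
  · intro h f hdet ⟨c, hc⟩ _
    have hc0 := scalar_ne_zero hdet hc hn
    by_cases hd : ∃ d : F, d ^ r = c
    · obtain ⟨d, rfl⟩ := hd
      have hd0 : d ≠ 0 := fun h0 => hc0 (by rw [h0, zero_pow hr.ne_zero])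
      have hf : f = d • (d⁻¹ • f) := by rw [smul_smul, mul_inv_cancel₀ hd0, one_smul]
      rw [hf, hP d _ hd0]
      exact hsplit _ (by rw [_root_.smul_pow, hc, smul_smul, ← mul_pow, inv_mul_cancel₀ hd0, one_pow, one_smul])
    · push Not at hd
      refine (hns f ⟨c, hc, hd⟩).2 (h.resolve_right fun harith => ?_)
      obtain ⟨hrn, ⟨c', hc', hd', hdet'⟩, -⟩ := NonSplit.structure' hr (⟨c, hc, hd⟩ : NonSplit r f)
      obtain ⟨d, he⟩ := (forall_power_iff hr hrq hn hrn).2 harith c' (hdet'.symm.trans hdet)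
      exact hd' d he

/-- The case `r ∤ q - 1`. -/
theorem forall_iff_of_not_dvd (hr : r.Prime) (hn : finrank F V ≠ 0) (hrq : ¬ r ∣ Fintype.card F - 1)
    (P : Module.End F V → Prop) (hP : ∀ (d : F) (f : Module.End F V), d ≠ 0 → (P (d • f) ↔ P f)) :
    (∀ f : Module.End F V, LinearMap.det f = 1 → (∃ c : F, f ^ r = c • 1) → (∀ c : F, f ≠ c • 1) → P f) ↔
      ∀ y : Module.End F V, y ^ r = 1 → y ≠ 1 → P y := by
  have huniq : ∀ a : F, a ^ r = 1 → a = 1 := by
    intro a ha
    have ha0 : a ≠ 0 := by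
      intro h0
      rw [h0, zero_pow hr.ne_zero] at ha
      exact zero_ne_one ha
    have h1 := pow_gcd_eq_one.2 ⟨ha, FiniteField.pow_card_sub_one_eq_one a ha0⟩
    rwa [((Nat.Prime.coprime_iff_not_dvd hr).2 hrq).gcd_eq_one, pow_one] at h1
  constructor
  · intro h y hy hy1
    refine h y (huniq _ (by rw [← map_pow, hy, map_one])) ⟨1, by rw [hy, one_smul]⟩ fun a ha => hy1 ?_
    rw [ha, _root_.smul_pow, one_pow] at hy
    haveI : Nontrivial V := Module.nontrivial_of_finrank_pos (Nat.pos_of_ne_zero hn)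
    have := smul_left_injective F (one_ne_zero (α := Module.End F V)) (hy.trans (one_smul F _).symm)
    rw [ha, huniq a this, one_smul]
  · intro h f hdet ⟨c, hc⟩ hns
    have hc0 := scalar_ne_zero hdet hc hn
    obtain ⟨d, rfl⟩ := exists_root_of_not_dvd hr hrq hc0
    have hd0 : d ≠ 0 := fun h0 => hc0 (by rw [h0, zero_pow hr.ne_zero])
    have hf : f = d • (d⁻¹ • f) := by rw [smul_smul, mul_inv_cancel₀ hd0, one_smul]
    rw [hf, hP d _ hd0]
    exact h _ (by rw [_root_.smul_pow, hc, smul_smul, ← mul_pow, inv_mul_cancel₀ hd0, one_pow, one_smul])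
      fun h1 => hns d (by rw [hf, h1])

/-- An element of order `r` with the least possible fixed space. -/
theorem exists_min_fixed (hr : r.Prime) (hrF : (r : F) ≠ 0) (hi2 : 2 ≤ orderOf (Fintype.card F : ZMod r))
    (hin : orderOf (Fintype.card F : ZMod r) ≤ finrank F V) :
    ∃ y : Module.End F V, y ^ r = 1 ∧ y ≠ 1 ∧
      finrank F ↥(fix1 y) = finrank F V % orderOf (Fintype.card F : ZMod r) := by
  haveI : Fact r.Prime := ⟨hr⟩
  obtain ⟨p, hp⟩ := CharP.exists F
  haveI : Fact p.Prime := ⟨CharP.char_is_prime F p⟩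
  set i := orderOf (Fintype.card F : ZMod r) with hi
  haveI : NeZero i := ⟨by omega⟩
  let K := FiniteField.Extension F p i
  have hK : finrank F K = i := FiniteField.finrank_extension F p i
  haveI : Fintype K := Fintype.ofFinite _
  obtain ⟨ω, hω⟩ : ∃ ω : Kˣ, orderOf ω = r := by
    refine exists_prime_orderOf_dvd_card' r ?_
    rw [Nat.card_units, Module.natCard_eq_pow_finrank (K := F) (V := K), hK, Nat.card_eq_fintype_card,
      dvd_pow_sub_one_iff Fintype.card_pos]
  have hω1 : (ω : K) ≠ 1 := fun h => by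
    rw [Units.val_eq_one] at h
    rw [h, orderOf_one] at hω; exact hr.ne_one hω.symm
  let g : Module.End F ((Fin (finrank F V / i) → K) × (Fin (finrank F V % i) → F)) :=
    LinearMap.prodMap (((ω : K) • (LinearMap.id : (Fin (finrank F V / i) → K) →ₗ[K] _)).restrictScalars F) LinearMap.id
  have hg : ∀ (k : ℕ) a, (g ^ k) a = ((ω : K) ^ k • a.1, a.2) := fun k => by
    induction k with
    | zero => intro a; simp
    | succ k ih =>
      intro a
      rw [pow_succ, Module.End.mul_apply, ih]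
      refine Prod.ext ?_ rfl
      show (ω : K) ^ k • ((ω : K) • a.1) = _
      rw [smul_smul, ← pow_succ]
  have hfix : fix1 g = LinearMap.range (LinearMap.inr F (Fin (finrank F V / i) → K) _) := by
    ext a
    rw [mem_fix1]
    constructor
    · intro h
      refine ⟨a.2, Prod.ext ?_ rfl⟩
      have h1 : (ω : K) • a.1 = a.1 := congrArg Prod.fst h
      have h2 : ((ω : K) - 1) • a.1 = 0 := by rw [sub_smul, one_smul, h1, sub_self]
      rcases smul_eq_zero.1 h2 with h3 | h3
      · exact absurd (sub_eq_zero.1 h3) hω1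
      · exact h3.symm
    · rintro ⟨b, rfl⟩
      exact Prod.ext (smul_zero (ω : K)) rfl
  let e : ((Fin (finrank F V / i) → K) × (Fin (finrank F V % i) → F)) ≃ₗ[F] V :=
    LinearEquiv.ofFinrankEq _ _ (by
      rw [Module.finrank_prod, Module.finrank_pi_fintype, Finset.sum_const, Finset.card_univ,
        Fintype.card_fin, smul_eq_mul, hK, Module.finrank_fin_fun, mul_comm, Nat.div_add_mod])
  have hfix' : fix1 (e.conj g) = (fix1 g).map (e : _ →ₗ[F] V) := by
    ext v
    rw [mem_fix1, Submodule.mem_map_equiv, mem_fix1, LinearEquiv.conj_apply_apply]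
    exact ⟨fun h => e.injective (by rw [LinearEquiv.apply_symm_apply]; exact h),
      fun h => by rw [h, LinearEquiv.apply_symm_apply]⟩
  have hc : finrank F ↥(fix1 (e.conj g)) = finrank F V % i := by
    rw [hfix', LinearEquiv.finrank_map_eq, hfix,
      LinearMap.finrank_range_of_inj LinearMap.inr_injective, Module.finrank_fin_fun]
  refine ⟨e.conj g, LinearMap.ext fun v => ?_, fun h1 => ?_, hc⟩
  · rw [conj_pow, hg, ← Units.val_pow_eq_pow_val, show ω ^ r = 1 from hω ▸ pow_orderOf_eq_one ω,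
      Units.val_one, one_smul, Prod.mk.eta, LinearEquiv.apply_symm_apply]
    rfl
  · have : fix1 (e.conj g) = ⊤ := Submodule.eq_top_iff'.2 fun v => mem_fix1.2 (by rw [h1]; rfl)
    rw [this, finrank_top] at hc
    have := Nat.mod_lt (finrank F V) (show i > 0 by omega)
    omega

end Finite

/-- Passing from matrices of determinant one to endomorphisms. -/
theorem forall_specialLinearGroup_iff {F : Type*} [Field F] (n r : ℕ) (P : Module.End F (Fin n → F) → Prop) :
    (∀ x : Matrix.SpecialLinearGroup (Fin n) F,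
      (∃ c : F, ((x ^ r : Matrix.SpecialLinearGroup (Fin n) F) : Matrix (Fin n) (Fin n) F) = c • (1 : Matrix (Fin n) (Fin n) F)) →
      (∀ c : F, (x : Matrix (Fin n) (Fin n) F) ≠ c • (1 : Matrix (Fin n) (Fin n) F)) →
      P (Matrix.toLin' (x : Matrix (Fin n) (Fin n) F))) ↔
    ∀ f : Module.End F (Fin n → F), LinearMap.det f = 1 → (∃ c : F, f ^ r = c • 1) → (∀ c : F, f ≠ c • 1) → P f := by
  constructor
  · intro h f hdet ⟨c, hc⟩ hns
    have hd : (Matrix.toLinAlgEquiv'.symm f).det = 1 := by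
      rw [← hdet, ← LinearMap.det_toLin' (Matrix.toLinAlgEquiv'.symm f)]
      exact congrArg LinearMap.det (Matrix.toLinAlgEquiv'.apply_symm_apply f)
    let x : Matrix.SpecialLinearGroup (Fin n) F := ⟨Matrix.toLinAlgEquiv'.symm f, hd⟩
    have := h x ⟨c, ?_⟩ fun a ha => hns a ?_
    · have he : Matrix.toLin' (Matrix.toLinAlgEquiv'.symm f) = f := Matrix.toLinAlgEquiv'.apply_symm_apply f
      rwa [he] at this
    · rw [Matrix.SpecialLinearGroup.coe_pow]
      show Matrix.toLinAlgEquiv'.symm f ^ r = _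
      rw [← map_pow, hc, map_smul, map_one]
    · have := congrArg Matrix.toLinAlgEquiv' (show Matrix.toLinAlgEquiv'.symm f = a • 1 from ha)
      rwa [AlgEquiv.apply_symm_apply, map_smul, map_one] at this
  · intro h x ⟨c, hc⟩ hns
    refine h (Matrix.toLinAlgEquiv' (x : Matrix (Fin n) (Fin n) F)) ?_ ⟨c, ?_⟩ fun a ha => hns a ?_
    · exact (LinearMap.det_toLin' _).trans x.2
    · rw [← map_pow, ← Matrix.SpecialLinearGroup.coe_pow, hc, map_smul, map_one]
    · exact Matrix.toLinAlgEquiv'.injective (by rw [ha, map_smul, map_one])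

end Cfsg.Agent.Lib.Elusive
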