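import Mathlib
import Cfsg.Agent.Lib.Classical.UnitaryOrder
import Cfsg.Agent.Lib.Forms.Unitary
import Cfsg.Agent.Lib.Elusive.BlockIsometry
import Cfsg.Agent.Lib.Elusive.HermBasics
import Cfsg.Agent.Lib.Elusive.Scalar

/-! The unitary group: elements of prime order modulo scalars as linear maps, and the block sizes. -/

set_option autoImplicit false
set_option linter.style.haveILetI false
set_option linter.unusedSectionVars false

namespace Cfsg.Agent.Lib.Elusive

open Module Cfsg.Agent.Lib.Forms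

variable {F : Type*} [Field F] [Fintype F] {q n r : ℕ}

theorem exists_prime_pow_q {p : ℕ} [Fact p.Prime] [CharP F p] (hF : Fintype.card F = q ^ 2) :
    ∃ e, 1 ≤ e ∧ q = p ^ e := by
  obtain ⟨k, -, hk⟩ := FiniteField.card F p
  have hdvd : q ∣ p ^ (k : ℕ) := by rw [← hk, hF]; exact dvd_pow_self q two_ne_zero
  obtain ⟨e, -, he⟩ := (Nat.dvd_prime_pow Fact.out).mp hdvd
  refine ⟨e, Nat.pos_of_ne_zero fun h0 => ?_, he⟩
  have := two_le_of_card_sq hF
  rw [he, h0, pow_zero] at this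
  omega

theorem herm_pres_iff (hF : Fintype.card F = q ^ 2) (f : Module.End F (Fin n → F)) :
    (∀ u v, Cfsg.hermForm n F q (f u) (f v) = Cfsg.hermForm n F q u v) ↔
      ∀ u v, hermSesq hF n (f u) (f v) = hermSesq hF n u v := by
  simp only [hermSesq_apply]
  exact ⟨fun h u v => h v u, fun h u v => h v u⟩

/-- The elements of `SU` as linear maps. -/
theorem forall_SU_iff (hF : Fintype.card F = q ^ 2) (P : Module.End F (Fin n → F) → Prop) :
    (∀ x : Matrix.SpecialLinearGroup (Fin n) F, x ∈ Cfsg.SU n F q →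
      (∃ z : F, ((x ^ r : Matrix.SpecialLinearGroup (Fin n) F) : Matrix (Fin n) (Fin n) F) =
        z • (1 : Matrix (Fin n) (Fin n) F)) →
      (∀ z : F, (x : Matrix (Fin n) (Fin n) F) ≠ z • (1 : Matrix (Fin n) (Fin n) F)) →
      P (Matrix.toLin' (x : Matrix (Fin n) (Fin n) F))) ↔
    ∀ f : Module.End F (Fin n → F), LinearMap.det f = 1 → (∃ c : F, f ^ r = c • 1) → (∀ c : F, f ≠ c • 1) →
      (∀ u v, hermSesq hF n (f u) (f v) = hermSesq hF n u v) → P f := by
  have hmem : ∀ x : Matrix.SpecialLinearGroup (Fin n) F, x ∈ Cfsg.SU n F q ↔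
      ∀ u v, hermSesq hF n (Matrix.toLin' (x : Matrix (Fin n) (Fin n) F) u)
        (Matrix.toLin' (x : Matrix (Fin n) (Fin n) F) v) = hermSesq hF n u v := fun x => by
    rw [← herm_pres_iff hF]
    simp only [Matrix.toLin'_apply]
    exact Iff.rfl
  rw [← forall_specialLinearGroup_iff n r]
  exact ⟨fun h x h1 h2 h3 => h x ((hmem x).2 h3) h1 h2, fun h x h1 h2 h3 => h x h2 h3 ((hmem x).1 h1)⟩

variable (hF : Fintype.card F = q ^ 2)
include hF

theorem smul_pres {d : F} (hd : d ^ (q + 1) = 1) {f : Module.End F (Fin n → F)}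
    (hf : ∀ u v, hermSesq hF n (f u) (f v) = hermSesq hF n u v) (u v : Fin n → F) :
    hermSesq hF n ((d • f) u) ((d • f) v) = hermSesq hF n u v := by
  simp only [LinearMap.smul_apply, map_smulₛₗ, RingHom.id_apply, smul_eq_mul, qPowHom_apply, hf]
  rw [← mul_assoc, ← pow_succ', hd, one_mul]

theorem norm_scalar {f : Module.End F (Fin n → F)} (hn : 0 < n)
    (hf : ∀ u v, hermSesq hF n (f u) (f v) = hermSesq hF n u v) {c : F} (hc : f ^ r = c • 1) :
    c ^ (q + 1) = 1 := by
  have hk : ∀ (k : ℕ) u v, hermSesq hF n ((f ^ k) u) ((f ^ k) v) = hermSesq hF n u v := fun k => by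
    induction k with
    | zero => intro u v; rfl
    | succ k ih => intro u v; rw [pow_succ', Module.End.mul_apply, Module.End.mul_apply, hf, ih]
  have hq : q ≠ 0 := by have := two_le_of_card_sq hF; omega
  let e : Fin n → F := Pi.single ⟨0, hn⟩ 1
  have he : hermSesq hF n e e = 1 := by
    simp [Cfsg.hermForm, e, Pi.single_apply, zero_pow hq, ite_pow]
  have h1 := hk r e e
  rw [hc] at h1
  simp only [LinearMap.smul_apply, Module.End.one_apply, map_smulₛₗ, RingHom.id_apply, smul_eq_mul,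
    qPowHom_apply, he, mul_one] at h1
  rw [pow_succ', ← h1]

theorem det_norm {f : Module.End F (Fin n → F)}
    (hf : ∀ u v, hermSesq hF n (f u) (f v) = hermSesq hF n u v) : LinearMap.det f ^ (q + 1) = 1 := by
  have hinj := (hermSesq_goodForm (n := n) hF).injective_of_preserves hf
  let e : (Fin n → F) ≃ₗ[F] (Fin n → F) := LinearEquiv.ofInjectiveEndo f hinj
  let g : Cfsg.GU n F q := ⟨(glEquiv (Fin n) F).symm e, mem_preserving_iff.2 fun u v => by
    show Cfsg.hermForm n F q (((glEquiv (Fin n) F).symm e : Matrix (Fin n) (Fin n) F).mulVec u)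
      (((glEquiv (Fin n) F).symm e : Matrix (Fin n) (Fin n) F).mulVec v) = _
    rw [glEquiv_symm_mulVec, glEquiv_symm_mulVec]
    exact (herm_pres_iff hF f).2 hf u v⟩
  have h1 := Cfsg.Agent.Lib.Classical.det_norm_one hF g
  have h2 : Matrix.toLin' (g.1 : Matrix (Fin n) (Fin n) F) = f := LinearMap.ext fun v => by
    rw [Matrix.toLin'_apply]; exact glEquiv_symm_mulVec e v
  rwa [← LinearMap.det_toLin', h2] at h1

omit hF in
/-- A root inside the norm one group. -/
theorem exists_norm_root (hr : r.Prime) (hrq : ¬ r ∣ q + 1) {c : F} (hc : c ^ (q + 1) = 1) :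
    ∃ d : F, d ^ (q + 1) = 1 ∧ d ^ r = c := by
  rcases Nat.eq_zero_or_pos q with rfl | hq
  · exact ⟨1, one_pow _, by rw [one_pow, ← pow_one c]; exact hc.symm⟩
  obtain ⟨k, -, hk⟩ := Nat.exists_mul_mod_eq_one_of_coprime ((Nat.Prime.coprime_iff_not_dvd hr).2 hrq)
    (show 1 < q + 1 by omega)
  refine ⟨c ^ k, by rw [← pow_mul, mul_comm, pow_mul, hc, one_pow], ?_⟩
  rw [← pow_mul, pow_eq_pow_mod (k * r) hc, mul_comm, hk, pow_one]

omit hF in
theorem eq_one_of_norm (hr : r.Prime) (hrq : ¬ r ∣ q + 1) {a : F} (h1 : a ^ r = 1) (h2 : a ^ (q + 1) = 1) : a = 1 := by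
  have h3 := pow_gcd_eq_one.2 ⟨h1, h2⟩
  rwa [((Nat.Prime.coprime_iff_not_dvd hr).2 hrq).gcd_eq_one, pow_one] at h3

/-- When `r` does not divide `q + 1` the scalars can be removed. -/
theorem forall_isometry_iff (hr : r.Prime) (hrq : ¬ r ∣ q + 1) (hn : 0 < n)
    (P : Module.End F (Fin n → F) → Prop) (hP : ∀ (d : F) f, d ≠ 0 → (P (d • f) ↔ P f)) :
    (∀ f : Module.End F (Fin n → F), LinearMap.det f = 1 → (∃ c : F, f ^ r = c • 1) → (∀ c : F, f ≠ c • 1) →
      (∀ u v, hermSesq hF n (f u) (f v) = hermSesq hF n u v) → P f) ↔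
    ∀ y : Module.End F (Fin n → F), y ^ r = 1 → y ≠ 1 →
      (∀ u v, hermSesq hF n (y u) (y v) = hermSesq hF n u v) → P y := by
  haveI : Nonempty (Fin n) := ⟨⟨0, hn⟩⟩
  constructor
  · intro h y hy hy1 hyp
    refine h y (eq_one_of_norm hr hrq (by rw [← map_pow, hy, map_one]) (det_norm hF hyp)) ⟨1, by rw [hy, one_smul]⟩
      (fun a ha => hy1 ?_) hyp
    have h2 : a = 1 := eq_one_of_norm hr hrq
      (by
        have h3 := hy
        rw [ha, _root_.smul_pow, one_pow] at h3
        exact smul_left_injective F one_ne_zero (h3.trans (one_smul F _).symm))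
      (norm_scalar hF hn hyp (r := 1) (by rw [pow_one]; exact ha))
    rw [ha, h2, one_smul]
  · intro h f hdet ⟨c, hc⟩ hns hfp
    obtain ⟨d, hd1, hd⟩ := exists_norm_root hr hrq (norm_scalar hF hn hfp hc)
    have hd0 : d ≠ 0 := fun h0 => by rw [h0, zero_pow (by omega)] at hd1; exact zero_ne_one hd1
    have hf : f = d • (d⁻¹ • f) := by rw [smul_smul, mul_inv_cancel₀ hd0, one_smul]
    rw [hf, hP d _ hd0]
    refine h _ ?_ (fun h1 => hns d (by rw [hf, h1])) (smul_pres hF (by rw [_root_.inv_pow, hd1, inv_one]) hfp)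
    rw [_root_.smul_pow, hc, smul_smul, _root_.inv_pow, hd,
      inv_mul_cancel₀ (by rw [← hd]; exact pow_ne_zero _ hd0), one_smul]

omit hF in
/-- `N` coordinate blocks of size `c`. -/
theorem exists_blockEmb_unit (hF : Fintype.card F = q ^ 2) {N c : ℕ} (hNc : N * c ≤ n) :
    Nonempty (BlockEmb (hermSesq hF n) (hermSesq hF c) N) := by
  classical
  have hlt : ∀ (m : Fin N) (l : Fin c), (m : ℕ) * c + l < n := fun m l => by
    have h1 := Nat.mul_le_mul_right c (show (m : ℕ) + 1 ≤ N from m.2)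
    rw [Nat.succ_mul] at h1
    have := l.2
    omega
  let f : Fin N → Fin c → Fin n := fun m l => ⟨(m : ℕ) * c + l, hlt m l⟩
  have hf : ∀ m m' a b, f m a = f m' b → m = m' ∧ a = b := by
    intro m m' l l' e
    have e' : (m : ℕ) * c + l = (m' : ℕ) * c + l' := congrArg Fin.val e
    have := l.2
    have := l'.2
    rcases lt_trichotomy (m : ℕ) m' with hh | hh | hh
    · have h1 := Nat.mul_le_mul_right c (show (m : ℕ) + 1 ≤ m' from hh)
      rw [Nat.succ_mul] at h1
      omega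
    · exact ⟨Fin.ext hh, Fin.ext (by rw [hh] at e'; omega)⟩
    · have h1 := Nat.mul_le_mul_right c (show (m' : ℕ) + 1 ≤ m from hh)
      rw [Nat.succ_mul] at h1
      omega
  have hfi : ∀ m, Function.Injective (f m) := fun m a b e => (hf m m a b e).2
  refine ⟨⟨fun m => Function.ExtendByZero.linearMap F (f m), fun m => LinearMap.funLeft F F (f m), ?_, ?_⟩⟩
  · intro m m' u
    funext a
    show Function.extend (f m') u 0 (f m a) = _
    split_ifs with e
    · subst e; exact (hfi m).extend_apply u 0 a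
    · rw [Function.extend_apply' _ _ _ fun ⟨b, hb⟩ => e (hf m' m b a hb).1.symm]; rfl
  · intro m u v
    simp only [hermSesq_apply, Cfsg.hermForm]
    show ∑ a, v a * (Function.extend (f m) u 0 a) ^ q = _
    symm
    refine Finset.sum_of_injOn (f m) (fun l _ l' _ e => hfi m e) (fun l _ => Finset.mem_coe.2 (Finset.mem_univ _))
      (fun a _ ha => ?_) (fun l _ => ?_)
    · rw [Function.extend_apply' _ _ _ fun ⟨l, hl⟩ => ha ⟨l, Finset.mem_coe.2 (Finset.mem_univ _), hl⟩]
      rw [Pi.zero_apply, zero_pow (by have := two_le_of_card_sq hF; omega), mul_zero]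
    · rw [(hfi m).extend_apply]; rfl

/-- A block of order `r`. -/
theorem exists_unitary_block {c : ℕ} (hr : r.Prime) (hdvd : r ∣ Nat.card (Cfsg.GU c F q)) :
    ∃ y : Module.End F (Fin c → F), y ^ r = 1 ∧ y ≠ 1 ∧
      ∀ u v, hermSesq hF c (y u) (y v) = hermSesq hF c u v := by
  classical
  haveI : Fact r.Prime := ⟨hr⟩
  obtain ⟨g, hg⟩ := exists_prime_orderOf_dvd_card' r hdvd
  let φ : Cfsg.GU c F q →* Matrix (Fin c) (Fin c) F := (Units.coeHom _).comp (Cfsg.GU c F q).subtype
  have hφ : Function.Injective φ := fun a b hab => Subtype.ext (Units.ext hab)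
  refine ⟨Matrix.toLin' (φ g), ?_, fun h1 => ?_, fun u v => ?_⟩
  · rw [← Matrix.toLin'_pow, ← map_pow, ← hg, pow_orderOf_eq_one, map_one, Matrix.toLin'_one]
    rfl
  · have : g = 1 := hφ (Matrix.toLin'.injective (by rw [h1, map_one, Matrix.toLin'_one]; rfl))
    rw [this, orderOf_one] at hg
    exact hr.ne_one hg.symm
  · refine (herm_pres_iff hF _).1 (fun u v => ?_) u v
    simp only [Matrix.toLin'_apply]
    exact g.2 u v

/-- The block sizes. -/
theorem unitary_blockSize {p : ℕ} [Fact p.Prime] [CharP F p] (hr : r.Prime) (hr2 : r ≠ 2) (hrp : r ≠ p) {i b c : ℕ}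
    (hi : i = orderOf (q : ZMod r)) (hb : b = if Even i then i / 2 else i)
    (hc : c = if i % 4 = 0 then i else if i % 4 = 2 then i / 2 else 2 * i) :
    b = orderOf ((Fintype.card F : ℕ) : ZMod r) ∧ 0 < i ∧ BlockSize (qPowHom hF) r c ∧
      r ∣ Nat.card (Cfsg.GU c F q) ∧ (i % 4 = 2 → c = b ∧ SelfDualExp (qPowHom hF) r (q ^ b)) ∧
      (i % 4 ≠ 2 → c = 2 * b ∧ NotSelfDual (qPowHom hF) r) ∧ (i = 2 ↔ r ∣ q + 1) := by
  classical
  haveI : Fact r.Prime := ⟨hr⟩
  haveI : Fact (2 < r) := ⟨lt_of_le_of_ne hr.two_le (Ne.symm hr2)⟩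
  obtain ⟨e, he1, he⟩ := exists_prime_pow_q (p := p) hF
  have hq0 : (q : ZMod r) ≠ 0 := by
    rw [Ne, ZMod.natCast_eq_zero_iff, he]
    exact fun h => hrp ((Nat.prime_dvd_prime_iff_eq hr Fact.out).1 (hr.dvd_of_dvd_pow h))
  have hfin : IsOfFinOrder (q : ZMod r) := isOfFinOrder_iff_pow_eq_one.2
    ⟨r - 1, by have := hr.two_le; omega, ZMod.pow_card_sub_one_eq_one hq0⟩
  have hipos : 0 < i := hi ▸ hfin.orderOf_pos
  have hQ : ((Fintype.card F : ℕ) : ZMod r) = (q : ZMod r) ^ 2 := by rw [hF, Nat.cast_pow]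
  have hbQ : b = orderOf ((Fintype.card F : ℕ) : ZMod r) := by
    rw [hQ, orderOf_pow' _ two_ne_zero, ← hi, hb]
    rcases Nat.even_or_odd i with hev | ho
    · rw [if_pos hev, Nat.gcd_eq_right (even_iff_two_dvd.1 hev)]
    · rw [if_neg (Nat.not_even_iff_odd.2 ho), Nat.Coprime.gcd_eq_one (Nat.coprime_two_right.2 ho), Nat.div_one]
  have hhalf : ∀ u, i = 2 * u → (q : ZMod r) ^ u = -1 := by
    intro u hu
    have h2 : ((q : ZMod r) ^ u) ^ 2 = 1 := by rw [← pow_mul, mul_comm, ← hu, hi]; exact pow_orderOf_eq_one _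
    refine (sq_eq_one_iff.1 h2).resolve_left fun h1 => ?_
    have h3 := Nat.le_of_dvd (by omega) (orderOf_dvd_of_pow_eq_one h1)
    rw [← hi] at h3
    omega
  have hSD : i % 4 = 2 → c = b ∧ SelfDualExp (qPowHom hF) r (q ^ b) := fun h4 => by
    have hbi : b = i / 2 := by rw [hb, if_pos (Nat.even_iff.2 (by omega))]
    refine ⟨by rw [hc, if_neg (by omega), if_pos h4, hbi], ⟨fun a => ?_, ?_, ⟨p, e * b, Fact.out, inferInstance,
      by rw [he, ← pow_mul]⟩, ?_⟩⟩
    · obtain ⟨u, hu⟩ : ∃ u, b = 2 * u + 1 := ⟨b / 2, by omega⟩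
      rw [qPowHom_apply, hu, pow_succ, pow_mul q, ← hF, pow_mul, FiniteField.pow_card_pow]
    · rw [Nat.cast_pow]; exact hhalf b (by omega)
    · rw [← hbQ, hF, ← pow_add, ← pow_mul]; congr 1; omega
  have hNSD : i % 4 ≠ 2 → c = 2 * b ∧ NotSelfDual (qPowHom hF) r := fun h4 => by
    refine ⟨?_, p, e, 1, Fact.out, inferInstance, fun a => by rw [qPowHom_apply, he], by
      rw [← he, pow_one, hF, sq], fun j hj => ?_⟩
    · rw [hc, hb]
      rcases Nat.even_or_odd i with hev | ho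
      · rw [if_pos hev, if_pos (by rw [Nat.even_iff] at hev; omega)]
        rw [Nat.even_iff] at hev; omega
      · rw [if_neg (Nat.not_even_iff_odd.2 ho), if_neg (by rw [Nat.odd_iff] at ho; omega),
          if_neg (by rw [Nat.odd_iff] at ho; omega)]
    · rw [← he, hQ, ← pow_mul] at hj
      rcases Nat.even_or_odd i with hev | ho
      · obtain ⟨u, hu⟩ : ∃ u, i = 2 * (2 * u) := ⟨i / 4, by rw [Nat.even_iff] at hev; omega⟩
        have h5 : (q : ZMod r) ^ (2 * j) = (q : ZMod r) ^ (2 * u + 1) := by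
          rw [hj, pow_succ, hhalf _ hu, neg_one_mul]
        have h6 := hfin.pow_eq_pow_iff_modEq.1 h5
        rw [← hi, hu] at h6
        have h7 := h6.of_dvd (dvd_mul_right 2 (2 * u))
        rw [Nat.ModEq, Nat.mul_mod_right, Nat.mul_add_mod] at h7
        exact absurd h7 (by decide)
      · have h1 : ((q : ZMod r) ^ (2 * j)) ^ i = 1 := by
          rw [← pow_mul, mul_comm, pow_mul, hi, pow_orderOf_eq_one, one_pow]
        rw [hj, neg_pow, hi, pow_orderOf_eq_one, mul_one, ← hi, ho.neg_one_pow] at h1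
        exact ZMod.neg_one_ne_one h1
  have hdvdq : i = 2 ↔ r ∣ q + 1 := by
    rw [← ZMod.natCast_eq_zero_iff, Nat.cast_add, Nat.cast_one, add_eq_zero_iff_eq_neg]
    constructor
    · intro h2
      have := hhalf 1 (by omega)
      rwa [pow_one] at this
    · intro hq
      rw [hi, hq]
      exact orderOf_eq_prime (p := 2) (by simp) ZMod.neg_one_ne_one
  refine ⟨hbQ, hipos, ?_, ?_, hSD, hNSD, hdvdq⟩
  · by_cases h4 : i % 4 = 2
    · exact Or.inl ⟨hr2, ⟨_, (hSD h4).2⟩, (hSD h4).1.trans hbQ⟩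
    · exact Or.inr ⟨(hNSD h4).2, by rw [(hNSD h4).1, hbQ]⟩
  · rw [Cfsg.Agent.Lib.Classical.natCard_GU hF]
    have hcpos : 0 < c := by rw [hc]; split_ifs <;> omega
    refine Dvd.dvd.mul_left (Dvd.dvd.trans ?_ (Finset.dvd_prod_of_mem _ (Finset.mem_range.2 (show c - 1 < c by omega)))) _
    rw [Nat.sub_add_cancel hcpos]
    by_cases h4 : i % 4 = 2
    · have hbi : c = i / 2 := by rw [hc, if_neg (by omega), if_pos h4]
      rw [if_pos (Nat.even_iff.2 (by omega)), ← ZMod.natCast_eq_zero_iff, Nat.cast_add, Nat.cast_pow,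
        hhalf c (by omega), Nat.cast_one, neg_add_cancel]
    · have hodd : ¬ Even (c - 1) := by
        rw [Nat.even_iff, hc]; split_ifs <;> omega
      have hq1 : 0 < q := by rw [he]; exact pow_pos (Fact.out : p.Prime).pos e
      rw [if_neg hodd, dvd_pow_sub_one_iff hq1, ← hi, hc]
      split_ifs
      · exact dvd_rfl
      · exact dvd_mul_left i 2

end Cfsg.Agent.Lib.Elusive
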