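import Mathlib
import Cfsg.Agent.Lib.Elusive.UnitaryCases

/-! Unitary witnesses: monomial and diagonal isometries, and the arithmetic of the norm one group. -/

set_option autoImplicit false
set_option linter.style.haveILetI false
set_option linter.unusedSectionVars false

namespace Cfsg.Agent.Lib.Elusive

open Module Cfsg.Agent.Lib.Forms

variable {F : Type*} [Field F] [Fintype F] {q n r : ℕ} (hF : Fintype.card F = q ^ 2)
include hF

omit [Fintype F] hF in
theorem prod_shift [NeZero r] (z : F) (l : ZMod r) :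
    ∏ s ∈ Finset.range r, (if l + (s : ZMod r) = 0 then z else 1) = z := by
  rw [Finset.prod_ite, Finset.prod_const_one, mul_one, Finset.prod_const]
  have h1 : (Finset.range r).filter (fun s : ℕ => l + (s : ZMod r) = 0) = {(-l).val} := by
    ext s
    simp only [Finset.mem_filter, Finset.mem_range, Finset.mem_singleton]
    constructor
    · rintro ⟨hs, h⟩
      rw [show (-l) = (s : ZMod r) from neg_eq_of_add_eq_zero_right h, ZMod.val_natCast_of_lt hs]
    · rintro rfl
      exact ⟨ZMod.val_lt _, by rw [ZMod.natCast_zmod_val, add_neg_cancel]⟩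
  rw [h1, Finset.card_singleton, pow_one]

/-- A monomial isometry with `f ^ r = z`. -/
theorem exists_monomial (hr : 0 < r) {k : ℕ} (hn : n = k * r) {z : F} (hz : z ^ (q + 1) = 1) :
    ∃ f : Module.End F (Fin n → F), f ^ r = z • 1 ∧
      ∀ u v, hermSesq hF n (f u) (f v) = hermSesq hF n u v := by
  classical
  haveI : NeZero r := ⟨hr.ne'⟩
  let e : Fin n ≃ Fin k × ZMod r := Fintype.equivOfCardEq (by
    rw [Fintype.card_fin, Fintype.card_prod, Fintype.card_fin, ZMod.card, hn])
  let π : Equiv.Perm (Fin n) := (e.trans ((Equiv.refl _).prodCongr (Equiv.addRight (1 : ZMod r)))).trans e.symm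
  let w : Fin n → F := fun a => if (e a).2 = 0 then z else 1
  have hw : ∀ a, w a ^ (q + 1) = 1 := fun a => by
    simp only [w]; split_ifs; exacts [hz, one_pow _]
  let f : Module.End F (Fin n → F) :=
    { toFun := fun v a => w a * v (π a)
      map_add' := fun u v => funext fun a => mul_add _ _ _
      map_smul' := fun c v => funext fun a => mul_left_comm _ _ _ }
  refine ⟨f, ?_, fun u v => ?_⟩
  · have hπ : ∀ (s : ℕ) a, e ((π ^ s) a) = ((e a).1, (e a).2 + (s : ZMod r)) := fun s => by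
      induction s with
      | zero => intro a; simp
      | succ s ih =>
        intro a
        rw [pow_succ', Equiv.Perm.mul_apply]
        simp [π, ih, add_assoc]
    have hf : ∀ (t : ℕ) v a, (f ^ t) v a = (∏ s ∈ Finset.range t, w ((π ^ s) a)) * v ((π ^ t) a) := fun t => by
      induction t with
      | zero => intro v a; simp
      | succ t ih =>
        intro v a
        rw [pow_succ, Module.End.mul_apply, ih, Finset.prod_range_succ, mul_assoc]
        congr 1
        show w ((π ^ t) a) * v (π ((π ^ t) a)) = _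
        rw [← Equiv.Perm.mul_apply, ← pow_succ']
    refine LinearMap.ext fun v => funext fun a => ?_
    rw [hf, LinearMap.smul_apply, Module.End.one_apply, Pi.smul_apply, smul_eq_mul]
    congr 1
    · simp only [w, hπ]
      exact prod_shift z _
    · congr 1
      apply e.injective
      rw [hπ, ZMod.natCast_self, add_zero]
  · simp only [hermSesq_apply, Cfsg.hermForm]
    show ∑ a, w a * v (π a) * (w a * u (π a)) ^ q = _
    rw [← Equiv.sum_comp π fun a => v a * u a ^ q]
    refine Finset.sum_congr rfl fun a _ => ?_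
    have := hw a
    rw [pow_succ] at this
    rw [mul_pow]
    linear_combination (v (π a) * u (π a) ^ q) * this

/-- An isometry squaring to a scalar with known determinant. -/
theorem exists_monomial_two {k : ℕ} (hn : n = k + k) {z : F} (hz : z ^ (q + 1) = 1) :
    ∃ f : Module.End F (Fin n → F), f ^ 2 = z • 1 ∧ LinearMap.det f = (-z) ^ k ∧
      ∀ u v, hermSesq hF n (f u) (f v) = hermSesq hF n u v := by
  classical
  subst hn
  let e : Fin k ⊕ Fin k ≃ Fin (k + k) := finSumFinEquiv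
  let A : Matrix (Fin k ⊕ Fin k) (Fin k ⊕ Fin k) F := Matrix.fromBlocks 0 (z • 1) 1 0
  let M : Matrix (Fin (k + k)) (Fin (k + k)) F := Matrix.reindexAlgEquiv F F e A
  refine ⟨Matrix.toLin' M, ?_, ?_, fun u v => ?_⟩
  · rw [← Matrix.toLin'_pow, pow_two, ← map_mul (Matrix.reindexAlgEquiv F F e),
      show A * A = z • 1 by
        rw [Matrix.fromBlocks_multiply, ← Matrix.fromBlocks_one, Matrix.fromBlocks_smul]
        simp,
      map_smul (Matrix.reindexAlgEquiv F F e), map_one, map_smul, Matrix.toLin'_one]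
    rfl
  · rw [LinearMap.det_toLin', Matrix.det_reindexAlgEquiv]
    have h1 : (Matrix.fromBlocks (1 : Matrix (Fin k) (Fin k) F) (1 : Matrix (Fin k) (Fin k) F) 0 (1 : Matrix (Fin k) (Fin k) F)).det = 1 := by
      rw [Matrix.det_fromBlocks_zero₂₁, Matrix.det_one, one_mul]
    have h2 : Matrix.fromBlocks (1 : Matrix (Fin k) (Fin k) F) (1 : Matrix (Fin k) (Fin k) F) 0 (1 : Matrix (Fin k) (Fin k) F) * A =
        Matrix.fromBlocks (1 : Matrix (Fin k) (Fin k) F) (z • 1) (1 : Matrix (Fin k) (Fin k) F) 0 := by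
      rw [Matrix.fromBlocks_multiply]; simp
    have h3 := congrArg Matrix.det h2
    rw [Matrix.det_mul, h1, one_mul, Matrix.det_fromBlocks_one₁₁] at h3
    rw [h3, one_mul, zero_sub, ← neg_smul, Matrix.det_smul, Matrix.det_one, mul_one, Fintype.card_fin]
  · have hM : ∀ (v : Fin (k + k) → F),
        (∀ a, Matrix.toLin' M v (e (.inl a)) = z * v (e (.inr a))) ∧
        (∀ a, Matrix.toLin' M v (e (.inr a)) = v (e (.inl a))) := by
      intro v
      constructor <;> intro a <;>
        rw [Matrix.toLin'_apply, show M = A.submatrix e.symm e.symm from rfl, Matrix.submatrix_mulVec_equiv] <;>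
        simp [A, Matrix.fromBlocks_mulVec, Function.comp_apply, Matrix.smul_mulVec]
    simp only [hermSesq_apply, Cfsg.hermForm]
    rw [← Equiv.sum_comp e, ← Equiv.sum_comp e, Fintype.sum_sum_type, Fintype.sum_sum_type]
    simp only [(hM _).1, (hM _).2]
    rw [add_comm]
    congr 1
    refine Finset.sum_congr rfl fun a _ => ?_
    have := hz
    rw [pow_succ] at this
    rw [mul_pow]
    linear_combination (v (e (.inr a)) * u (e (.inr a)) ^ q) * this

omit hF in
/-- A diagonal map. -/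
def diagEnd (w : Fin n → F) : Module.End F (Fin n → F) where
  toFun v a := w a * v a
  map_add' u v := funext fun a => mul_add _ _ _
  map_smul' c v := funext fun a => mul_left_comm _ _ _

omit hF in
omit [Fintype F] in
theorem diagEnd_pow (w : Fin n → F) (k : ℕ) : diagEnd w ^ k = diagEnd fun a => w a ^ k := by
  induction k with
  | zero => exact LinearMap.ext fun v => funext fun a => by simp [diagEnd]
  | succ k ih =>
    rw [pow_succ, ih]
    exact LinearMap.ext fun v => funext fun a => by simp [diagEnd, pow_succ, mul_assoc]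

omit hF in
omit [Fintype F] in
theorem det_diagEnd (w : Fin n → F) : LinearMap.det (diagEnd w) = ∏ a, w a := by
  rw [show diagEnd w = Matrix.toLin' (Matrix.diagonal w) from
    LinearMap.ext fun v => funext fun a => by rw [Matrix.toLin'_apply, Matrix.mulVec_diagonal]; rfl,
    LinearMap.det_toLin', Matrix.det_diagonal]

theorem diagEnd_pres (w : Fin n → F) (hw : ∀ a, w a ^ (q + 1) = 1) (u v : Fin n → F) :
    hermSesq hF n (diagEnd w u) (diagEnd w v) = hermSesq hF n u v := by
  simp only [hermSesq_apply, Cfsg.hermForm]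
  refine Finset.sum_congr rfl fun a _ => ?_
  show w a * v a * (w a * u a) ^ q = _
  have := hw a
  rw [pow_succ] at this
  rw [mul_pow]
  linear_combination (v a * u a ^ q) * this

/-- A generator of the norm one group. -/
theorem exists_norm_generator :
    ∃ g : F, g ^ (q + 1) = 1 ∧ (∀ k : ℕ, g ^ k = 1 ↔ q + 1 ∣ k) ∧ ∀ x : F, x ^ (q + 1) = 1 → ∃ k : ℕ, x = g ^ k := by
  classical
  have hq := two_le_of_card_sq hF
  obtain ⟨G, hG⟩ := IsCyclic.exists_monoid_generator (α := Fˣ)
  have hqq : q ^ 2 - 1 = (q - 1) * (q + 1) := by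
    rw [mul_comm]; simpa using Nat.sq_sub_sq q 1
  have hog : orderOf G = (q - 1) * (q + 1) := by
    rw [orderOf_eq_card_of_forall_mem_zpowers fun x => mem_powers_iff_mem_zpowers.1 (hG x), Nat.card_units,
      Nat.card_eq_fintype_card, hF, hqq]
  have hpow : ∀ k : ℕ, ((G ^ k : Fˣ) : F) = 1 ↔ (q - 1) * (q + 1) ∣ k := fun k => by
    rw [← hog, orderOf_dvd_iff_pow_eq_one, ← Units.val_eq_one]
  refine ⟨((G ^ (q - 1) : Fˣ) : F), ?_, fun k => ?_, fun x hx => ?_⟩
  · rw [← Units.val_pow_eq_pow_val, ← pow_mul, hpow]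
  · rw [← Units.val_pow_eq_pow_val, ← pow_mul, hpow]
    exact Nat.mul_dvd_mul_iff_left (by omega)
  · have hx0 : x ≠ 0 := fun h0 => by rw [h0, zero_pow (by omega)] at hx; exact zero_ne_one hx
    obtain ⟨a, ha⟩ := Submonoid.mem_powers_iff _ _ |>.1 (hG (Units.mk0 x hx0))
    have h1 : ((G ^ (a * (q + 1)) : Fˣ) : F) = 1 := by rw [pow_mul, Units.val_pow_eq_pow_val, ha]; simpa using hx
    obtain ⟨k, rfl⟩ := Nat.dvd_of_mul_dvd_mul_right (by omega) ((hpow _).1 h1)
    exact ⟨k, by rw [← Units.val_pow_eq_pow_val, ← pow_mul, ha]; rfl⟩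

/-- An element of order `r` in the norm one group. -/
theorem exists_root_norm (hr : r.Prime) (hrq : r ∣ q + 1) :
    ∃ ω : F, ω ^ (q + 1) = 1 ∧ ω ^ r = 1 ∧ ∀ k : ℕ, ω ^ k = 1 ↔ r ∣ k := by
  obtain ⟨g, hg1, hgk, -⟩ := exists_norm_generator hF
  obtain ⟨u, hu⟩ := hrq
  have hupos : 0 < u := Nat.pos_of_ne_zero fun h0 => by rw [h0, mul_zero] at hu; omega
  refine ⟨g ^ u, by rw [← pow_mul, mul_comm, pow_mul, hg1, one_pow], by rw [← pow_mul, mul_comm, ← hu, hg1],
    fun k => ?_⟩
  rw [← pow_mul, hgk, hu, mul_comm u k]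
  exact Nat.mul_dvd_mul_iff_right hupos

/-- Norm one elements that are not `r`-th powers and have trivial `k`-th power, `r` odd dividing `q + 1`. -/
theorem exists_norm_nonpower_iff (hr : r.Prime) (hr2 : r ≠ 2) (hrq : r ∣ q + 1) {k : ℕ} (hk : k ≠ 0) :
    (∃ z : F, z ^ (q + 1) = 1 ∧ z ^ k = 1 ∧ ∀ d : F, d ^ r ≠ z) ↔ padicValNat r (q + 1) ≤ padicValNat r k := by
  haveI : Fact r.Prime := ⟨hr⟩
  have hq := two_le_of_card_sq hF
  have hqq : Fintype.card F - 1 = (q + 1) * (q - 1) := by rw [hF]; simpa using Nat.sq_sub_sq q 1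
  have hnd : ¬ r ∣ q - 1 := fun h1 => by
    have h2 : r ∣ 2 := by
      have := Nat.dvd_sub hrq h1
      rwa [show q + 1 - (q - 1) = 2 by omega] at this
    exact hr2 ((Nat.prime_dvd_prime_iff_eq hr Nat.prime_two).1 h2)
  have hval : padicValNat r (Fintype.card F - 1) = padicValNat r (q + 1) := by
    rw [hqq, padicValNat.mul (by omega) (by omega), padicValNat.eq_zero_of_not_dvd hnd, add_zero]
  have hg0 : Nat.gcd k (q + 1) ≠ 0 := (Nat.gcd_pos_of_pos_right _ (by omega)).ne'
  have h1 := exists_nonpower_iff (F := F) hr (hqq ▸ hrq.mul_right _) hg0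
  rw [hval] at h1
  have h2 : padicValNat r (q + 1) ≤ padicValNat r (Nat.gcd k (q + 1)) ↔
      padicValNat r (q + 1) ≤ padicValNat r k := by
    rw [← padicValNat_dvd_iff_le hg0, ← padicValNat_dvd_iff_le hk, Nat.dvd_gcd_iff]
    exact ⟨fun h => h.1, fun h => ⟨h, pow_padicValNat_dvd⟩⟩
  rw [← h2, ← h1]
  constructor
  · rintro ⟨z, hz1, hzk, hzd⟩
    exact ⟨z, hzd, pow_gcd_eq_one.2 ⟨hzk, hz1⟩⟩
  · rintro ⟨z, hzd, hz⟩
    obtain ⟨a, ha⟩ := Nat.gcd_dvd_left k (q + 1)
    obtain ⟨b, hb⟩ := Nat.gcd_dvd_right k (q + 1)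
    exact ⟨z, by rw [hb, pow_mul, hz, one_pow], by rw [ha, pow_mul, hz, one_pow], hzd⟩

theorem neg_one_norm : (-1 : F) ^ (q + 1) = 1 := by
  rw [pow_succ, ← qPowHom_apply hF (-1 : F), map_neg, map_one, neg_mul_neg, one_mul]

/-- Norm one roots of `-1` of order `n`. -/
theorem exists_pow_eq_neg_one_iff (h2 : (2 : F) ≠ 0) (hn : n ≠ 0) :
    (∃ d : F, d ^ (q + 1) = 1 ∧ d ^ n = -1) ↔ padicValNat 2 n < padicValNat 2 (q + 1) := by
  haveI : Fact (Nat.Prime 2) := ⟨Nat.prime_two⟩
  have hne : (-1 : F) ≠ 1 := fun e => h2 (by linear_combination -e)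
  obtain ⟨w, hw⟩ : 2 ^ padicValNat 2 (q + 1) ∣ q + 1 := pow_padicValNat_dvd
  have hwodd : Odd w := Nat.not_even_iff_odd.1 fun ⟨t, ht⟩ =>
    pow_succ_padicValNat_not_dvd (p := 2) (show q + 1 ≠ 0 by omega) ⟨t, hw.trans (by rw [ht, pow_succ]; ring)⟩
  constructor
  · rintro ⟨d, hd1, hdn⟩
    by_contra hcon
    push Not at hcon
    obtain ⟨u, hu⟩ := (padicValNat_dvd_iff_le hn).2 hcon
    have h3 : (d ^ n) ^ w = 1 := by
      rw [← pow_mul, show n * w = (q + 1) * u by rw [hw, hu]; ring, pow_mul, hd1, one_pow]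
    rw [hdn, hwodd.neg_one_pow] at h3
    exact hne h3
  · intro hlt
    obtain ⟨g, hg1, hgk, -⟩ := exists_norm_generator hF
    obtain ⟨u, hu⟩ : 2 ^ padicValNat 2 n ∣ n := pow_padicValNat_dvd
    have huodd : Odd u := Nat.not_even_iff_odd.1 fun ⟨t, ht⟩ =>
      pow_succ_padicValNat_not_dvd (p := 2) hn ⟨t, hu.trans (by rw [ht, pow_succ]; ring)⟩
    obtain ⟨a, ha⟩ : ∃ a, padicValNat 2 (q + 1) = padicValNat 2 n + 1 + a :=
      ⟨padicValNat 2 (q + 1) - (padicValNat 2 n + 1), by omega⟩
    refine ⟨g ^ (2 ^ a * w), by rw [← pow_mul, mul_comm, pow_mul, hg1, one_pow], ?_⟩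
    have hhalf : g ^ (2 ^ (padicValNat 2 n + a) * w) = -1 := by
      have h3 : (g ^ (2 ^ (padicValNat 2 n + a) * w)) ^ 2 = 1 := by
        rw [← pow_mul, hgk, hw, ha]
        exact dvd_of_eq (by ring)
      refine (sq_eq_one_iff.1 h3).resolve_left fun h4 => ?_
      have h5 := Nat.le_of_dvd (Nat.mul_pos (pow_pos two_pos _) hwodd.pos) ((hgk _).1 h4)
      rw [hw, ha] at h5
      have h6 := Nat.le_of_mul_le_mul_right h5 hwodd.pos
      rw [Nat.pow_le_pow_iff_right (by norm_num : 1 < 2)] at h6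
      omega
    rw [← pow_mul, show 2 ^ a * w * n = 2 ^ (padicValNat 2 n + a) * w * u by
      conv_lhs => rw [hu]
      rw [pow_add]; ring, pow_mul, hhalf, huodd.neg_one_pow]

/-- Norm one non-squares `z` with `(-z) ^ (n / 2) = 1`. -/
theorem exists_nonsquare_iff (h2 : (2 : F) ≠ 0) {k : ℕ} (hk : k ≠ 0) :
    (∃ z : F, z ^ (q + 1) = 1 ∧ (∀ d : F, d ^ (q + 1) = 1 → d ^ 2 ≠ z) ∧ (-z) ^ k = 1) ↔
      ¬ (padicValNat 2 (2 * k) ≤ padicValNat 2 (q + 1) ∧ q % 4 = 3) := by
  haveI : Fact (Nat.Prime 2) := ⟨Nat.prime_two⟩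
  have hne : (-1 : F) ≠ 1 := fun e => h2 (by linear_combination -e)
  obtain ⟨g, hg1, hgk, hgen⟩ := exists_norm_generator hF
  have hqodd : q % 2 = 1 := by
    by_contra h
    have h5 := neg_one_norm hF
    rw [(show Odd (q + 1) by rw [Nat.odd_iff]; omega).neg_one_pow] at h5
    exact hne h5
  obtain ⟨half, hhalf⟩ : ∃ half, q + 1 = 2 * half := ⟨(q + 1) / 2, by omega⟩
  have hgh : g ^ half = -1 := by
    have h3 : (g ^ half) ^ 2 = 1 := by rw [← pow_mul, mul_comm, ← hhalf, hg1]
    refine (sq_eq_one_iff.1 h3).resolve_left fun h4 => ?_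
    have h5 := Nat.le_of_dvd (by omega) ((hgk _).1 h4)
    omega
  rw [padicValNat.mul two_ne_zero hk, padicValNat.self (by norm_num)]
  constructor
  · rintro ⟨z, hz1, hzd, hzk⟩ ⟨hle, h4⟩
    obtain ⟨j, rfl⟩ := hgen z hz1
    have hj : Odd j := Nat.not_even_iff_odd.1 fun ⟨t, ht⟩ => hzd (g ^ t)
      (by rw [← pow_mul, mul_comm, pow_mul, hg1, one_pow]) (by rw [← pow_mul, ht, mul_two])
    have hzh : (-(g ^ j)) ^ half = -1 := by
      rw [neg_pow, (show Even half by rw [Nat.even_iff]; omega).neg_one_pow, one_mul, ← pow_mul, mul_comm, pow_mul, hgh,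
        hj.neg_one_pow]
    obtain ⟨u, hu⟩ : 2 ^ padicValNat 2 k ∣ k := pow_padicValNat_dvd
    have huodd : Odd u := Nat.not_even_iff_odd.1 fun ⟨t, ht⟩ =>
      pow_succ_padicValNat_not_dvd (p := 2) hk ⟨t, hu.trans (by rw [ht, pow_succ]; ring)⟩
    have hdvd : 2 ^ padicValNat 2 k ∣ half := by
      have h6 : 2 ^ (padicValNat 2 k + 1) ∣ q + 1 := (padicValNat_dvd_iff_le (by omega)).2 (by omega)
      rw [hhalf, pow_succ'] at h6
      exact Nat.dvd_of_mul_dvd_mul_left two_pos h6
    obtain ⟨v, hv⟩ := hdvd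
    have h7 : ((-(g ^ j)) ^ half) ^ u = 1 := by
      rw [← pow_mul, show half * u = k * v by rw [hv]; conv_rhs => rw [hu]
                                              ring, pow_mul, hzk, one_pow]
    rw [hzh, huodd.neg_one_pow] at h7
    exact hne h7
  · intro hcon
    by_cases h4 : q % 4 = 3
    · obtain ⟨w, hw⟩ : 2 ^ padicValNat 2 (q + 1) ∣ q + 1 := pow_padicValNat_dvd
      have hwodd : Odd w := Nat.not_even_iff_odd.1 fun ⟨t, ht⟩ =>
        pow_succ_padicValNat_not_dvd (p := 2) (show q + 1 ≠ 0 by omega) ⟨t, hw.trans (by rw [ht, pow_succ]; ring)⟩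
      have hle : padicValNat 2 (q + 1) ≤ padicValNat 2 k := by
        by_contra hlt
        exact hcon ⟨by omega, h4⟩
      obtain ⟨u, hu⟩ := (padicValNat_dvd_iff_le hk).2 hle
      refine ⟨g ^ (w + half), by rw [← pow_mul, mul_comm, pow_mul, hg1, one_pow], fun d hd1 hd => ?_, ?_⟩
      · obtain ⟨t, rfl⟩ := hgen d hd1
        have h5 : g ^ (2 * t + half) = g ^ w := by
          rw [pow_add, show 2 * t = t * 2 from mul_comm _ _, pow_mul, hd, ← pow_add,
            show w + half + half = w + (q + 1) by omega, pow_add, hg1, mul_one]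
        have hfin : IsOfFinOrder g := isOfFinOrder_iff_pow_eq_one.2 ⟨q + 1, by omega, hg1⟩
        have hord : orderOf g = q + 1 :=
          Nat.dvd_antisymm (orderOf_dvd_of_pow_eq_one hg1) ((hgk _).1 (pow_orderOf_eq_one g))
        have h6 := hfin.pow_eq_pow_iff_modEq.1 h5
        rw [hord] at h6
        have h7 := h6.of_dvd (show 2 ∣ q + 1 by omega)
        rw [Nat.ModEq] at h7
        have := Nat.odd_iff.1 hwodd
        omega
      · rw [pow_add, hgh, mul_neg_one, neg_neg, ← pow_mul, hgk, hu]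
        exact ⟨u, by conv_rhs => rw [hw]
                     ring⟩
    · refine ⟨-1, neg_one_norm hF, fun d hd1 hd => ?_, by rw [neg_neg, one_pow]⟩
      rw [show q + 1 = 2 * half from hhalf, pow_mul, hd, (show Odd half by rw [Nat.odd_iff]; omega).neg_one_pow] at hd1
      exact hne hd1

end Cfsg.Agent.Lib.Elusive
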