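import Mathlib
import Cfsg.Agent.Lib.Elusive.FormBlocks
import Cfsg.Agent.Lib.Elusive.HermBasics
import Cfsg.Agent.Lib.Elusive.Scalar

/-! Isometries with a prime power equal to a scalar that is not a power: invariant subspaces. -/

set_option autoImplicit false
set_option linter.style.haveILetI false
set_option linter.unusedSectionVars false

namespace Cfsg.Agent.Lib.Elusive

open Module Cfsg.Agent.Lib.Forms Polynomial

variable {F : Type*} [Field F] [Fintype F] {σ : F →+* F} {V : Type*} [AddCommGroup V] [Module F V] [Finite V]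
  [FiniteDimensional F V]
  {B : V →ₛₗ[σ] V →ₗ[F] F} {f : Module.End F V} {r : ℕ}

/-- Non-degenerate invariant subspaces of every multiple dimension from a single step. -/
theorem exists_nd_multiple {ε : F} (h : IsGoodForm B ε) (hpres : ∀ u v, B (f u) (f v) = B u v)
    (hstep : ∀ T : Submodule F V, Inv f T → Nd B T → T ≠ ⊥ →
      ∃ U, U ≤ T ∧ Inv f U ∧ Nd B U ∧ finrank F ↥U = r) :
    ∀ (k : ℕ) (T : Submodule F V), Inv f T → Nd B T → k * r ≤ finrank F ↥T →
      ∃ U, U ≤ T ∧ Inv f U ∧ Nd B U ∧ finrank F ↥U = k * r := by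
  intro k
  induction k with
  | zero => exact fun T _ _ _ => ⟨⊥, bot_le, inv_bot f, nd_bot, by simp⟩
  | succ k ih =>
    intro T hTi hT hk
    rw [add_one_mul] at hk
    rcases Nat.eq_zero_or_pos r with hr | hr
    · exact ⟨⊥, bot_le, inv_bot f, nd_bot, by simp [hr]⟩
    obtain ⟨U, hUT, hU, hUn, hUd⟩ := hstep T hTi hT (fun e => by rw [e, finrank_bot] at hk; omega)
    obtain ⟨hS, -, -, hdim⟩ := split_nd h hUn hT hUT
    obtain ⟨A, hAT, hA, hAn, hAd⟩ := ih _ (inv_inf hTi (perp_inv h hpres hU)) hS (by omega)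
    refine ⟨U ⊔ A, sup_le hUT (hAT.trans inf_le_left), inv_sup hU hA,
      nd_sup h hUn hAn (fun u hu w hw => (hAT hw).2 u hu), ?_⟩
    have h0 : U ⊓ A = ⊥ := le_bot_iff.1 ((inf_le_inf le_rfl (hAT.trans inf_le_right)).trans
      (isCompl_perp h hUn).inf_eq_bot.le)
    have h1 := Submodule.finrank_sup_add_finrank_inf_eq U A
    rw [h0, finrank_bot, add_zero, hUd, hAd] at h1
    rw [h1, add_one_mul]; omega

section NonSplit

variable (h : IsGoodForm B 1) (hσ : σ ≠ RingHom.id F) (hr : r.Prime) (hf : NonSplit r f)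
  (hpres : ∀ u v, B (f u) (f v) = B u v)
include h hσ hr hf hpres

/-- The step: a non-degenerate invariant subspace of dimension `r`. -/
theorem exists_nd_cyclic {T : Submodule F V} (hTi : Inv f T) (hT : Nd B T) (hne : T ≠ ⊥) :
    ∃ U, U ≤ T ∧ Inv f U ∧ Nd B U ∧ finrank F ↥U = r := by
  obtain ⟨c, hc, -⟩ := id hf
  obtain ⟨v, hv, hb⟩ := exists_anisotropic h hσ hT hne
  have hv0 : v ≠ 0 := fun e => hb (by simp [e])
  have hdeg : (X ^ r - C c : F[X]).natDegree = r := natDegree_X_pow_sub_C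
  obtain ⟨U, hU, hvU, hUd, hUmin⟩ := exists_cyclic (y := f) (monic_X_pow_sub_C c hr.ne_zero)
    (by rw [hdeg]; exact hr.pos) (u := v) (by
      rw [map_sub, map_pow, aeval_X, aeval_C, hc, Algebra.algebraMap_eq_smul_one, sub_self, LinearMap.zero_apply])
  rw [hdeg] at hUd
  have hmul : ∀ W : Submodule F V, Inv f W → finrank F ↥W ≤ r → W = ⊥ ∨ finrank F ↥W = r := fun W hW hle => by
    obtain ⟨e, he⟩ := hf.dvd_finrank hr hW
    rcases Nat.lt_or_ge e 1 with h0 | h1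
    · exact Or.inl (Submodule.finrank_eq_zero.1 (by rw [he, Nat.lt_one_iff.1 h0, mul_zero]))
    · have := Nat.mul_le_mul_left r h1
      right; omega
  have hUr : finrank F ↥U = r := (hmul U hU hUd).resolve_left fun e => hv0 ((Submodule.mem_bot F).1 (e ▸ hvU))
  refine ⟨U, hUmin T hTi hv, hU, fun u hu hz => ?_, hUr⟩
  by_contra hu0
  have hR := hmul (U ⊓ perp B U) (inv_inf hU (perp_inv h hpres hU))
    ((Submodule.finrank_mono inf_le_left).trans hUd)
  rcases hR with hR | hR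
  · refine hu0 ((Submodule.mem_bot F).1 (hR ▸ ⟨hu, fun x hx => h.eq_zero_symm (hz x hx)⟩))
  · have heq : U ⊓ perp B U = U := Submodule.eq_of_le_of_finrank_eq inf_le_left (hR.trans hUr.symm)
    exact hb ((heq.ge hvU).2 v hvU)

/-- Non-degenerate invariant subspaces of all dimensions divisible by `r`. -/
theorem exists_nd_nonSplit {k : ℕ} (hk : k * r ≤ finrank F V) :
    ∃ U : Submodule F V, Inv f U ∧ Nd B U ∧ finrank F ↥U = k * r := by
  obtain ⟨U, -, h1, h2, h3⟩ := exists_nd_multiple h hpres (fun T => exists_nd_cyclic h hσ hr hf hpres) k ⊤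
    (fun v _ => Submodule.mem_top) (nd_top h) (by rwa [finrank_top])
  exact ⟨U, h1, h2, h3⟩

variable {E : ℕ} (hadj : ∀ (g : F[X]) (u v : V), B (Polynomial.aeval f g u) v = B u ((Polynomial.aeval f g ^ E) v))
  (hpp : ∃ p e : ℕ, p.Prime ∧ CharP F p ∧ E = p ^ e) (hsq : E * E = Fintype.card F ^ r)
include hadj hpp hsq

/-- Two orthogonal non-degenerate irreducibles contain an isotropic one. -/
theorem exists_iso_cyclic {U₁ U₂ : Submodule F V} (h1 : Inv f U₁) (h1n : Nd B U₁) (h1d : finrank F ↥U₁ = r)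
    (h2 : Inv f U₂) (h2n : Nd B U₂) (h2d : finrank F ↥U₂ = r) (horth : ∀ a ∈ U₁, ∀ b ∈ U₂, B a b = 0) :
    ∃ U : Submodule F V, U ≤ U₁ ⊔ U₂ ∧ Inv f U ∧ Iso B U ∧ finrank F ↥U = r := by
  classical
  obtain ⟨c, hc, hcd⟩ := hf
  have hpos := hr.pos
  set y := f with hyf
  set m : F[X] := X ^ r - C c with hm
  haveI : Fact (Irreducible m) := ⟨X_pow_sub_C_irreducible_of_prime hr hcd⟩
  have hmm : m.Monic := monic_X_pow_sub_C c hr.ne_zero
  have hdeg : m.natDegree = r := natDegree_X_pow_sub_C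
  have hallk : ∀ v : V, Polynomial.aeval y m v = 0 := fun v => by
    rw [hm, map_sub, map_pow, aeval_X, aeval_C, hc, Algebra.algebraMap_eq_smul_one, sub_self, LinearMap.zero_apply]
  have hsame : ∀ v ∈ U₂, Polynomial.aeval y m v = 0 := fun v _ => hallk v
  have h1ne : U₁ ≠ ⊥ := fun e => by rw [e, finrank_bot] at h1d; omega
  have h2ne : U₂ ≠ ⊥ := fun e => by rw [e, finrank_bot] at h2d; omega
  have hdvd1 : ∀ (g : F[X]) {u : V}, u ∈ U₁ → u ≠ 0 → Polynomial.aeval y g u = 0 → m ∣ g := by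
    intro g u _ hu0 hg
    by_contra hnd
    obtain ⟨a, b, hab⟩ := (Fact.out : Irreducible m).coprime_iff_not_dvd.2 hnd
    have h5 := LinearMap.congr_fun (congrArg (Polynomial.aeval y) hab) u
    rw [map_one, Module.End.one_apply, map_add, LinearMap.add_apply, map_mul, map_mul, Module.End.mul_apply,
      Module.End.mul_apply, hallk, hg, map_zero, map_zero, add_zero] at h5
    exact hu0 h5.symm
  let pb := AdjoinRoot.powerBasis hmm.ne_zero
  have hKfr : finrank F (AdjoinRoot m) = r := by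
    rw [pb.finrank]; exact hdeg
  haveI : Module.Finite F (AdjoinRoot m) := Module.finite_of_finrank_pos (by rw [hKfr]; exact hpos)
  haveI : Finite (AdjoinRoot m) := Module.finite_of_finite F
  letI : Fintype (AdjoinRoot m) := Fintype.ofFinite _
  have hkill : ∀ v ∈ U₁, Polynomial.aeval y m v = 0 := fun v _ => hallk v
  let mulOn : ∀ (U : Submodule F V) (hU : Inv y U), (∀ v ∈ U, Polynomial.aeval y m v = 0) →
      (AdjoinRoot m →ₐ[F] Module.End F ↥U) := fun U hU hk =>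
    Ideal.Quotient.liftₐ _ (Polynomial.aeval (y.restrict hU : Module.End F ↥U)) (fun g hg => by
      obtain ⟨g', rfl⟩ := Ideal.mem_span_singleton.1 hg
      refine LinearMap.ext fun v => Subtype.ext ?_
      rw [aeval_restrict, mul_comm, map_mul, Module.End.mul_apply, hk v v.2, map_zero]; rfl)
  have hmul : ∀ (U : Submodule F V) hU hk (g : F[X]) (v : ↥U),
      ((mulOn U hU hk (AdjoinRoot.mk m g)) v : V) = Polynomial.aeval y g v := fun U hU hk g v =>
    aeval_restrict hU g v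
  let f₁ := mulOn U₁ h1 hkill
  let f₂ := mulOn U₂ h2 hsame
  have hadj₁ : ∀ a (u v : ↥U₁), B ((f₁ a) u : V) v = B (u : V) ((f₁ (a ^ E)) v) := by
    intro a u v
    obtain ⟨g, rfl⟩ := AdjoinRoot.mk_surjective a
    rw [← map_pow, hmul U₁ h1 hkill, hmul U₁ h1 hkill, map_pow, hadj]
  have hadj₂ : ∀ a (u v : ↥U₂), B ((f₂ a) u : V) v = B (u : V) ((f₂ (a ^ E)) v) := by
    intro a u v
    obtain ⟨g, rfl⟩ := AdjoinRoot.mk_surjective a
    rw [← map_pow, hmul U₂ h2 hsame, hmul U₂ h2 hsame, map_pow, hadj]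
  obtain ⟨u₀, hu₀, hu₀0⟩ := Submodule.exists_mem_ne_zero_of_ne_bot h1ne
  obtain ⟨u₂, hu₂, hu₂0⟩ := Submodule.exists_mem_ne_zero_of_ne_bot h2ne
  have hinj₁ : Function.Injective f₁.toRingHom := by
    haveI : Nontrivial ↥U₁ := Submodule.nontrivial_iff_ne_bot.2 h1ne
    exact f₁.toRingHom.injective
  let ev : AdjoinRoot m →ₗ[F] ↥U₁ := (LinearMap.applyₗ (⟨u₀, hu₀⟩ : ↥U₁)).comp f₁.toLinearMap
  have hev : ∀ a, ev a = f₁ a ⟨u₀, hu₀⟩ := fun a => rfl
  have hevinj : Function.Injective ev := by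
    rw [← LinearMap.ker_eq_bot, eq_bot_iff]
    intro a ha
    obtain ⟨g, rfl⟩ := AdjoinRoot.mk_surjective a
    rw [LinearMap.mem_ker, hev] at ha
    have h0 : Polynomial.aeval y g u₀ = 0 := (hmul U₁ h1 hkill g ⟨u₀, hu₀⟩).symm.trans (congrArg Subtype.val ha)
    have h3 := hdvd1 g hu₀ hu₀0 h0
    exact (Submodule.mem_bot F).2 (AdjoinRoot.mk_eq_zero.2 h3)
  have hevsurj : Function.Surjective ev :=
    (LinearMap.injective_iff_surjective_of_finrank_eq_finrank (by rw [hKfr, h1d])).1 hevinj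
  -- every functional on the field is given by a vector of `U₁`
  let Φ : AdjoinRoot m → (AdjoinRoot m →ₗ[F] F) := fun k =>
    (B ((ev k : ↥U₁) : V)).comp (U₁.subtype.comp ev)
  have hΦinj : Function.Injective Φ := by
    intro k k' hkk
    refine hevinj (Subtype.ext ?_)
    refine sub_eq_zero.1 (h1n _ (U₁.sub_mem (ev k).2 (ev k').2) fun v hv => ?_)
    obtain ⟨a, ha⟩ := hevsurj ⟨v, hv⟩
    have := LinearMap.congr_fun hkk a
    simp only [Φ, LinearMap.comp_apply, Submodule.subtype_apply, ha] at this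
    rw [map_sub, LinearMap.sub_apply, this, sub_self]
  haveI : Finite (AdjoinRoot m →ₗ[F] F) := Module.finite_of_finite F
  have hΦsurj : Function.Surjective Φ := (hΦinj.bijective_of_nat_card_le (by
    rw [Module.natCard_eq_pow_finrank (K := F) (V := AdjoinRoot m →ₗ[F] F),
      Module.natCard_eq_pow_finrank (K := F) (V := AdjoinRoot m), Module.finrank_linearMap,
      Module.finrank_self, mul_one])).2
  obtain ⟨k, hk⟩ := hΦsurj ((B u₂).comp (U₂.subtype.comp
    ((LinearMap.applyₗ (⟨u₂, hu₂⟩ : ↥U₂)).comp f₂.toLinearMap)))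
  have hk' : ∀ a, B ((ev k : ↥U₁) : V) ((ev a : ↥U₁) : V) = B u₂ ((f₂ a ⟨u₂, hu₂⟩ : ↥U₂) : V) :=
    fun a => LinearMap.congr_fun hk a
  have hE0 : 0 < E := by
    obtain ⟨p, e, hp, -, hpe⟩ := hpp
    rw [hpe]; exact pow_pos hp.pos e
  have hEE : ∀ a : AdjoinRoot m, (a ^ E) ^ E = a := fun a => by
    rw [← pow_mul, hsq, ← hKfr, ← Module.card_eq_pow_finrank, FiniteField.pow_card]
  -- `B (k u₀) (a u₀) = B u₀ (k ^ E * a • u₀)`
  have hmove : ∀ a b : AdjoinRoot m, B ((ev a : ↥U₁) : V) ((ev b : ↥U₁) : V) =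
      B u₀ ((ev (a ^ E * b) : ↥U₁) : V) := fun a b => by
    rw [hev, hev, hev, hadj₁, ← Module.End.mul_apply, ← map_mul]
  have hkfix : k ^ E = k := by
    refine hevinj (Subtype.ext ?_)
    refine sub_eq_zero.1 (h1n _ (U₁.sub_mem (ev _).2 (ev _).2) fun v hv => ?_)
    obtain ⟨c, hc⟩ := hevsurj ⟨v, hv⟩
    obtain ⟨a, rfl⟩ : ∃ a, a ^ E = c := ⟨c ^ E, hEE c⟩
    have e2 : B u₂ ((f₂ (a ^ E) ⟨u₂, hu₂⟩ : ↥U₂) : V) = (1 : F) * σ (B u₂ ((f₂ a ⟨u₂, hu₂⟩ : ↥U₂) : V)) := by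
      rw [← hadj₂ a ⟨u₂, hu₂⟩ ⟨u₂, hu₂⟩, h.herm u₂]
    rw [← hk', ← hk', hmove, hmove] at e2
    have e3 : (1 : F) * σ (B u₀ ((ev (k ^ E * a) : ↥U₁) : V)) = B ((ev (k ^ E * a) : ↥U₁) : V) u₀ :=
      (h.herm u₀ _).symm
    rw [e3, hev (k ^ E * a), hadj₁ (k ^ E * a) ⟨u₀, hu₀⟩ ⟨u₀, hu₀⟩, ← hev, mul_pow, hEE] at e2
    -- `e2 : B u₀ ((k ^ E * c) u₀) = B u₀ ((k * c) u₀)`
    show B (((ev (k ^ E) : ↥U₁) : V) - ((ev k : ↥U₁) : V)) v = 0
    rw [show v = ((ev (a ^ E) : ↥U₁) : V) from (congrArg Subtype.val hc).symm, map_sub, LinearMap.sub_apply,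
      hmove, hmove, hEE, ← e2, sub_self]
  have hk0 : k ≠ 0 := by
    rintro rfl
    refine hu₂0 (h2n u₂ hu₂ fun v hv => ?_)
    by_contra hne
    have hgen : ∃ a, ((f₂ a ⟨u₂, hu₂⟩ : ↥U₂) : V) = v := by
      let ev₂ : AdjoinRoot m →ₗ[F] ↥U₂ := (LinearMap.applyₗ (⟨u₂, hu₂⟩ : ↥U₂)).comp f₂.toLinearMap
      have hinj2 : Function.Injective ev₂ := by
        haveI : Nontrivial ↥U₂ := Submodule.nontrivial_iff_ne_bot.2 h2ne
        rw [← LinearMap.ker_eq_bot, eq_bot_iff]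
        intro a ha
        by_contra ha0
        have h4 : f₂ a⁻¹ (f₂ a ⟨u₂, hu₂⟩) = ⟨u₂, hu₂⟩ := by
          rw [← Module.End.mul_apply, ← map_mul, inv_mul_cancel₀ (fun h0 => ha0 ((Submodule.mem_bot F).2 h0)),
            map_one, Module.End.one_apply]
        rw [show f₂ a ⟨u₂, hu₂⟩ = 0 from LinearMap.mem_ker.1 ha, map_zero] at h4
        exact hu₂0 (congrArg Subtype.val h4).symm
      obtain ⟨a, ha⟩ := (LinearMap.injective_iff_surjective_of_finrank_eq_finrank (by rw [hKfr, h2d])).1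
        hinj2 ⟨v, hv⟩
      exact ⟨a, congrArg Subtype.val ha⟩
    obtain ⟨a, ha⟩ := hgen
    apply hne
    rw [← ha, ← hk', map_zero ev, ZeroMemClass.coe_zero, map_zero, LinearMap.zero_apply]
  -- a norm equation
  obtain ⟨b, hb⟩ : ∃ b : AdjoinRoot m, k * b ^ (E + 1) = -1 := by
    have hc : (-k⁻¹) ^ E = -k⁻¹ := by
      obtain ⟨p, e, hp, hcp, hpe⟩ := hpp
      haveI := Fact.mk hp
      haveI : CharP (AdjoinRoot m) p := charP_of_injective_algebraMap (algebraMap F (AdjoinRoot m)).injective p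
      have hneg : (-1 : AdjoinRoot m) ^ E = -1 := by
        rw [hpe, ← iterateFrobenius_def (R := AdjoinRoot m) p e, map_neg, map_one]
      rw [← neg_one_mul k⁻¹, mul_pow, hneg, _root_.inv_pow, hkfix]
    have hc0 : -k⁻¹ ≠ 0 := neg_ne_zero.2 (inv_ne_zero hk0)
    have hcE : (-k⁻¹) ^ (E - 1) = 1 := by
      refine mul_right_cancel₀ hc0 ?_
      rw [← pow_succ, Nat.sub_add_cancel hE0, hc, one_mul]
    obtain ⟨g, hg⟩ := IsCyclic.exists_monoid_generator (α := (AdjoinRoot m)ˣ)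
    have hog : orderOf g = (E - 1) * (E + 1) := by
      rw [orderOf_eq_card_of_forall_mem_zpowers fun x => mem_powers_iff_mem_zpowers.1 (hg x), Nat.card_units,
        Module.natCard_eq_pow_finrank (K := F) (V := AdjoinRoot m), hKfr, Nat.card_eq_fintype_card, ← hsq,
        Nat.sub_mul]
      obtain ⟨m', rfl⟩ : ∃ m', E = m' + 1 := ⟨E - 1, by omega⟩
      ring_nf
      omega
    obtain ⟨a, ha⟩ := Submonoid.mem_powers_iff _ _ |>.1 (hg (Units.mk0 _ hc0))
    have hdvd : (E - 1) * (E + 1) ∣ (E - 1) * a := by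
      rw [← hog]
      refine orderOf_dvd_of_pow_eq_one (Units.ext ?_)
      rw [mul_comm, pow_mul, ha, Units.val_pow_eq_pow_val, Units.val_mk0, hcE, Units.val_one]
    have hE1 : 0 < E - 1 := by
      by_contra h0
      have hE1 : E = 1 := by omega
      have := hsq
      rw [hE1] at this
      have h5 := Nat.one_lt_pow hr.ne_zero (Fintype.one_lt_card (α := F))
      omega
    obtain ⟨a', rfl⟩ := Nat.dvd_of_mul_dvd_mul_left hE1 hdvd
    refine ⟨((g ^ a' : (AdjoinRoot m)ˣ) : AdjoinRoot m), ?_⟩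
    have h6 := congrArg Units.val ha
    rw [Units.val_pow_eq_pow_val, Units.val_mk0] at h6
    rw [Units.val_pow_eq_pow_val, ← pow_mul, mul_comm a', h6, mul_neg, mul_inv_cancel₀ hk0]
  -- the isotropic vector
  set w : ↥U₂ := f₂ b ⟨u₂, hu₂⟩
  set v : V := u₀ + (w : V) with hv
  have hsum : ∀ g' : F[X], B v (Polynomial.aeval y g' v) = 0 := by
    intro g'
    have e1 : Polynomial.aeval y g' u₀ = ((ev (AdjoinRoot.mk m g') : ↥U₁) : V) := (hmul U₁ h1 hkill g' ⟨u₀, hu₀⟩).symm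
    have e2 : Polynomial.aeval y g' (w : V) = ((f₂ (AdjoinRoot.mk m g') w : ↥U₂) : V) := (hmul U₂ h2 hsame g' _).symm
    rw [hv, map_add (Polynomial.aeval y g'), e1, e2]
    simp only [map_add, LinearMap.add_apply]
    rw [horth u₀ hu₀ _ (Subtype.prop _), h.eq_zero_symm (horth _ (Subtype.prop _) _ w.2), add_zero, zero_add]
    have e3 : B (w : V) ((f₂ (AdjoinRoot.mk m g') w : ↥U₂) : V) =
        B u₂ ((f₂ (b ^ E * (AdjoinRoot.mk m g' * b)) ⟨u₂, hu₂⟩ : ↥U₂) : V) := by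
      rw [show w = f₂ b ⟨u₂, hu₂⟩ from rfl, hadj₂, ← Module.End.mul_apply, ← Module.End.mul_apply, ← map_mul,
        ← map_mul, mul_assoc]
    rw [e3, ← hk', hmove, hkfix, show k * (b ^ E * (AdjoinRoot.mk m g' * b)) =
      (k * b ^ (E + 1)) * AdjoinRoot.mk m g' by ring, hb, neg_one_mul, map_neg ev, Submodule.coe_neg, map_neg]
    exact add_neg_cancel _
  have hv0 : v ≠ 0 := by
    intro hv0
    refine hu₀0 (h1n u₀ hu₀ fun z hz => ?_)
    rw [show u₀ = -(w : V) from eq_neg_of_add_eq_zero_left hv0, map_neg, LinearMap.neg_apply,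
      h.eq_zero_symm (horth z hz _ w.2), neg_zero]
  obtain ⟨C', hC, hvC, hCd, hCmin⟩ := exists_cyclic (y := y) hmm (hdeg ▸ hpos) (u := v) (hallk v)
  refine ⟨C', hCmin _ (inv_sup h1 h2) (Submodule.add_mem_sup hu₀ w.2), hC, ?_, ?_⟩
  · let S : Submodule F V := LinearMap.range ((LinearMap.applyₗ v).comp (Polynomial.aeval y).toLinearMap)
    have hSinv : Inv y S := by
      rintro _ ⟨g', rfl⟩
      exact ⟨X * g', by simp⟩
    have hCS : C' ≤ S := hCmin S hSinv ⟨1, by simp⟩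
    intro a ha b hb
    obtain ⟨ga, rfl⟩ := hCS ha
    obtain ⟨gb, rfl⟩ := hCS hb
    show B (Polynomial.aeval y ga v) (Polynomial.aeval y gb v) = 0
    rw [hadj, ← map_pow, ← Module.End.mul_apply, ← map_mul]
    exact hsum _
  · rw [hdeg] at hCd
    obtain ⟨e, he⟩ := NonSplit.dvd_finrank hr (⟨c, hc, hcd⟩ : NonSplit r y) hC
    rcases Nat.eq_zero_or_pos e with rfl | he1
    · rw [mul_zero, Submodule.finrank_eq_zero] at he
      rw [he, Submodule.mem_bot] at hvC
      exact absurd hvC hv0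
    · have := Nat.le_mul_of_pos_right r he1
      omega

/-- Totally isotropic invariant subspaces of all dimensions divisible by `r`. -/
theorem exists_iso_nonSplit : ∀ (k : ℕ) (T : Submodule F V), Inv f T → Nd B T → 2 * (k * r) ≤ finrank F ↥T →
    ∃ U, U ≤ T ∧ Inv f U ∧ Iso B U ∧ finrank F ↥U = k * r := by
  intro k
  induction k with
  | zero => exact fun T _ _ _ => ⟨⊥, bot_le, inv_bot f, iso_bot, by simp⟩
  | succ k ih =>
    intro T hTi hT hk
    rw [add_one_mul] at hk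
    have hpos := hr.pos
    obtain ⟨U₁, h1T, h1, h1n, h1d⟩ := exists_nd_cyclic h hσ hr hf hpres hTi hT (fun e => by
      rw [e, finrank_bot] at hk; omega)
    obtain ⟨hS, -, -, hdim⟩ := split_nd h h1n hT h1T
    have hSi := inv_inf hTi (perp_inv h hpres h1)
    obtain ⟨U₂, h2T, h2, h2n, h2d⟩ := exists_nd_cyclic h hσ hr hf hpres hSi hS (fun e => by
      rw [e, finrank_bot] at hdim; omega)
    obtain ⟨hS', -, -, hdim'⟩ := split_nd h h2n hS h2T
    obtain ⟨A, hAT, hA, hAi, hAd⟩ := ih _ (inv_inf hSi (perp_inv h hpres h2)) hS' (by omega)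
    obtain ⟨C, hCU, hC, hCi, hCd⟩ := exists_iso_cyclic h hσ hr hf hpres hadj hpp hsq h1 h1n h1d h2 h2n h2d
      (fun a ha b hb => (h2T hb).2 a ha)
    have hperp : ∀ a ∈ U₁ ⊔ U₂, ∀ b ∈ A, B a b = 0 := by
      intro a ha b hb
      obtain ⟨a₁, ha₁, a₂, ha₂, rfl⟩ := Submodule.mem_sup.1 ha
      rw [map_add, LinearMap.add_apply, (hAT hb).1.2 a₁ ha₁, (hAT hb).2 a₂ ha₂, add_zero]
    refine ⟨C ⊔ A, sup_le (hCU.trans (sup_le h1T (h2T.trans inf_le_left)))
      (hAT.trans (inf_le_left.trans inf_le_left)), inv_sup hC hA,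
      iso_sup h hCi hAi (fun u hu w hw => hperp u (hCU hu) w hw), ?_⟩
    have hn12 : Nd B (U₁ ⊔ U₂) := nd_sup h h1n h2n (fun a ha b hb => (h2T hb).2 a ha)
    have h0 : C ⊓ A = ⊥ := by
      rw [eq_bot_iff]
      rintro u ⟨hu, hu'⟩
      exact (Submodule.mem_bot F).2 (hn12 u (hCU hu) fun w hw => h.eq_zero_symm (hperp w hw u hu'))
    have h3 := Submodule.finrank_sup_add_finrank_inf_eq C A
    rw [h0, finrank_bot, add_zero, hCd, hAd] at h3
    rw [h3, add_one_mul]; omega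

end NonSplit

end Cfsg.Agent.Lib.Elusive
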