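import Mathlib
import Cfsg.Agent.Lib.Elusive.FormBasics

/-! Orthogonal families of non-degenerate subspaces and regrouping them. -/

set_option autoImplicit false
set_option linter.style.haveILetI false

namespace Cfsg.Agent.Lib.Elusive

open Module Cfsg.Agent.Lib.Forms

variable {F : Type*} [Field F] {σ : F →+* F} {V : Type*} [AddCommGroup V] [Module F V]
  {B : V →ₛₗ[σ] V →ₗ[F] F} {ε : F} {ι : Type*}

/-- A pairwise orthogonal family of non-degenerate subspaces. -/
structure OrthFam (B : V →ₛₗ[σ] V →ₗ[F] F) (E : ι → Submodule F V) : Prop where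
  nd : ∀ i, Nd B (E i)
  orth : ∀ i j, i ≠ j → ∀ a ∈ E i, ∀ b ∈ E j, B a b = 0

theorem OrthFam.sup_orth {E : ι → Submodule F V} (hE : OrthFam B E) (h : IsGoodForm B ε) {s : Finset ι} {i : ι}
    (hi : i ∉ s) : ∀ a ∈ E i, ∀ b ∈ s.sup E, B a b = 0 := by
  intro a ha b hb
  have h1 : s.sup E ≤ LinearMap.ker (B a) := Finset.sup_le fun j hj v hv =>
    LinearMap.mem_ker.2 (hE.orth i j (fun e => hi (e ▸ hj)) a ha v hv)
  exact LinearMap.mem_ker.1 (h1 hb)

theorem OrthFam.sup_perp {E : ι → Submodule F V} (hE : OrthFam B E) (h : IsGoodForm B ε) {s t : Finset ι}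
    (hst : Disjoint s t) : ∀ a ∈ s.sup E, ∀ b ∈ t.sup E, B a b = 0 := by
  intro a ha b hb
  have h1 : s.sup E ≤ perp B (t.sup E) := Finset.sup_le fun i hi v hv w hw =>
    h.eq_zero_symm (hE.sup_orth h (Finset.disjoint_left.1 hst hi) v hv w hw)
  exact h.eq_zero_symm (h1 ha b hb)

variable [FiniteDimensional F V]

theorem OrthFam.sup_data {E : ι → Submodule F V} (hE : OrthFam B E) (h : IsGoodForm B ε) (s : Finset ι) :
    Nd B (s.sup E) ∧ finrank F ↥(s.sup E) = ∑ i ∈ s, finrank F ↥(E i) := by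
  classical
  induction s using Finset.induction with
  | empty => exact ⟨nd_bot, by simp⟩
  | insert i s hi ih =>
    rw [Finset.sup_insert, Finset.sum_insert hi]
    refine ⟨nd_sup h (hE.nd i) ih.1 (hE.sup_orth h hi), ?_⟩
    have h0 : E i ⊓ s.sup E = ⊥ := by
      rw [eq_bot_iff]
      rintro v ⟨h1, h2⟩
      exact (Submodule.mem_bot F).2 (hE.nd i v h1 fun w hw =>
        h.eq_zero_symm (hE.sup_orth h hi w hw v h2))
    have h1 := Submodule.finrank_sup_add_finrank_inf_eq (E i) (s.sup E)
    rwa [h0, finrank_bot, add_zero, ih.2] at h1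

theorem OrthFam.sup_univ_eq_top [Fintype ι] {E : ι → Submodule F V} (hE : OrthFam B E) (h : IsGoodForm B ε)
    (hd : ∑ i, finrank F ↥(E i) = finrank F V) : Finset.univ.sup E = ⊤ :=
  Submodule.eq_top_of_finrank_eq ((hE.sup_data h _).2.trans hd)

/-- Regrouping a family along a map. -/
theorem OrthFam.regroup [Fintype ι] {E : ι → Submodule F V} (hE : OrthFam B E) (h : IsGoodForm B ε)
    (hd : ∑ i, finrank F ↥(E i) = finrank F V) {κ : Type*} [DecidableEq κ] (g : ι → κ) :
    OrthFam B (fun b => (Finset.univ.filter fun i => g i = b).sup E) ∧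
      (∀ b, finrank F ↥((Finset.univ.filter fun i => g i = b).sup E) =
        ∑ i ∈ Finset.univ.filter (fun i => g i = b), finrank F ↥(E i)) ∧
      iSupIndep (fun b => (Finset.univ.filter fun i => g i = b).sup E) ∧
      (⨆ b, (Finset.univ.filter fun i => g i = b).sup E) = ⊤ := by
  classical
  set D := fun b => (Finset.univ.filter fun i => g i = b).sup E with hD
  have hfam : OrthFam B D := by
    refine ⟨fun b => (hE.sup_data h _).1, fun b b' hb => hE.sup_perp h ?_⟩
    rw [Finset.disjoint_filter]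
    exact fun i _ e e' => hb (e.symm.trans e')
  refine ⟨hfam, fun b => (hE.sup_data h _).2, fun b => ?_, ?_⟩
  · refine (isCompl_perp h (hfam.nd b)).disjoint.mono_right (iSup₂_le fun b' hb' => ?_)
    intro v hv a ha
    exact hfam.orth b b' (Ne.symm hb') a ha v hv
  · rw [eq_top_iff, ← hE.sup_univ_eq_top h hd]
    exact Finset.sup_le fun i _ => (Finset.le_sup (f := E) (by simp)).trans (le_iSup D (g i))

end Cfsg.Agent.Lib.Elusive
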