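import Mathlib
import Cfsg.Agent.Lib.Forms.Bridge

/-! An involution of the projective symplectic group fixes a pair of complementary Lagrangian subspaces. -/

set_option autoImplicit false

namespace Cfsg.Agent.Lib.Elusive

open Module

variable {F : Type*} [Field F] {V : Type*} [AddCommGroup V] [Module F V]
  {B : LinearMap.BilinForm F V} {x : Module.End F V} {z : F}

/-- The step: a hyperbolic pair adapted to `x` inside an invariant nondegenerate subspace. -/
theorem exists_adapted_pair (hA : B.IsAlt) (h2 : (2 : F) ≠ 0) (hpres : ∀ u v, B (x u) (x v) = B u v)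
    (hxx : ∀ v, x (x v) = z • v) (hz : z = 1 ∨ z = -1) {S : Submodule F V} (hS : ∀ v ∈ S, x v ∈ S)
    (hnd : ∀ u ∈ S, (∀ v ∈ S, B u v = 0) → u = 0) (hne : S ≠ ⊥) :
    ∃ v ∈ S, ∃ w ∈ S, B v w ≠ 0 ∧
      ((z = 1 ∧ (∃ a : F, x v = a • v) ∧ ∃ a : F, x w = a • w) ∨
       (z = -1 ∧ (∃ a : F, x v = a • w) ∧ ∃ a : F, x w = a • v)) := by
  rcases hz with rfl | rfl
  · obtain ⟨v₀, hv₀, hv₀0⟩ := Submodule.exists_mem_ne_zero_of_ne_bot hne
    obtain ⟨v, e, hvS, hv0, he2, hve⟩ : ∃ v, ∃ e : F, v ∈ S ∧ v ≠ 0 ∧ e * e = 1 ∧ x v = e • v := by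
      by_cases h : v₀ + x v₀ = 0
      · refine ⟨v₀ - x v₀, -1, S.sub_mem hv₀ (hS _ hv₀), fun h' => hv₀0 ?_, by ring, ?_⟩
        · have h3 : (2 : F) • v₀ = 0 := by
            rw [two_smul]
            linear_combination (norm := module) h + h'
          exact (smul_eq_zero.1 h3).resolve_left h2
        · rw [map_sub, hxx, one_smul, neg_one_smul, neg_sub]
      · exact ⟨v₀ + x v₀, 1, S.add_mem hv₀ (hS _ hv₀), h, one_mul 1, by
          rw [map_add, hxx, one_smul, one_smul, add_comm]⟩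
    obtain ⟨w₀, hw₀, hb⟩ : ∃ w₀ ∈ S, B v w₀ ≠ 0 := by
      by_contra hcon
      push Not at hcon
      exact hv0 (hnd v hvS hcon)
    refine ⟨v, hvS, w₀ + e • x w₀, S.add_mem hw₀ (S.smul_mem _ (hS _ hw₀)), ?_,
      Or.inl ⟨rfl, ⟨e, hve⟩, e, ?_⟩⟩
    · have h1 : B v (x w₀) = e * B v w₀ := by
        rw [← hpres, hxx, one_smul, hve, map_smul, LinearMap.smul_apply, smul_eq_mul]
      rw [map_add, map_smul, h1, smul_eq_mul, ← mul_assoc, he2, one_mul, ← two_mul]
      exact mul_ne_zero h2 hb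
    · rw [map_add, map_smul, hxx, one_smul, smul_add, smul_smul, he2, one_smul, add_comm]
  · obtain ⟨v, hv, hb⟩ : ∃ v ∈ S, B v (x v) ≠ 0 := by
      by_contra hcon
      push Not at hcon
      obtain ⟨u, hu, hu0⟩ := Submodule.exists_mem_ne_zero_of_ne_bot hne
      refine hu0 (hnd u hu fun v hv => ?_)
      have hxv : -(x v) ∈ S := S.neg_mem (hS _ hv)
      have h1 := hcon (u + -(x v)) (S.add_mem hu hxv)
      have h3 := hcon u hu
      have h4 := hcon (-(x v)) hxv
      have h5 : x (-(x v)) = v := by rw [map_neg, hxx, neg_one_smul, neg_neg]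
      rw [map_add, map_add, map_add, LinearMap.add_apply, LinearMap.add_apply, h3, h4, zero_add,
        add_zero, h5, map_neg, LinearMap.neg_apply] at h1
      have h6 : B (x v) (x u) = -(B u v) := by rw [hpres, ← LinearMap.IsAlt.neg hA]
      rw [h6, neg_neg, ← two_mul] at h1
      exact (mul_eq_zero.1 h1).resolve_left h2
    exact ⟨v, hv, x v, hS _ hv, hb, Or.inr ⟨rfl, ⟨1, (one_smul F _).symm⟩, -1, hxx v⟩⟩

variable [FiniteDimensional F V]

/-- A pair of totally isotropic subspaces filling an invariant nondegenerate subspace, adapted to `x`. -/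
theorem exists_isotropic_pair (hA : B.IsAlt) (h2 : (2 : F) ≠ 0) (hpres : ∀ u v, B (x u) (x v) = B u v)
    (hxx : ∀ v, x (x v) = z • v) (hz : z = 1 ∨ z = -1) :
    ∀ (k : ℕ) (S : Submodule F V), finrank F S = k → (∀ v ∈ S, x v ∈ S) →
      (∀ u ∈ S, (∀ v ∈ S, B u v = 0) → u = 0) →
      ∃ U W : Submodule F V, U ≤ S ∧ W ≤ S ∧ U ⊔ W = S ∧ U ⊓ W = ⊥ ∧
        (∀ u ∈ U, ∀ v ∈ U, B u v = 0) ∧ (∀ u ∈ W, ∀ v ∈ W, B u v = 0) ∧
        ((z = 1 → U.map x ≤ U ∧ W.map x ≤ W) ∧ (z = -1 → U.map x ≤ W ∧ W.map x ≤ U)) := by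
  intro k
  induction k using Nat.strong_induction_on with
  | h k ih =>
    intro S hk hS hnd
    by_cases hne : S = ⊥
    · subst hne
      exact ⟨⊥, ⊥, le_rfl, le_rfl, by simp, by simp, by simp, by simp, by simp, by simp⟩
    obtain ⟨v, hv, w, hw, hb, hpat⟩ := exists_adapted_pair hA h2 hpres hxx hz hS hnd hne
    have hrefl : ∀ a c, B a c = 0 → B c a = 0 := fun a c h => by rw [← LinearMap.IsAlt.neg hA, h, neg_zero]
    let S' : Submodule F V := S ⊓ LinearMap.ker (B v) ⊓ LinearMap.ker (B w)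
    have hS'mem : ∀ s, s ∈ S' ↔ (s ∈ S ∧ B v s = 0) ∧ B w s = 0 := fun s => Iff.rfl
    have hdec : ∀ s ∈ S, ∃ a c : F, s - a • v - c • w ∈ S' := by
      intro s hs
      refine ⟨B s w / B v w, B v s / B v w, ?_⟩
      rw [hS'mem]
      refine ⟨⟨S.sub_mem (S.sub_mem hs (S.smul_mem _ hv)) (S.smul_mem _ hw), ?_⟩, ?_⟩
      · rw [map_sub, map_sub, map_smul, map_smul, LinearMap.IsAlt.self_eq_zero hA, smul_zero, sub_zero,
          smul_eq_mul, div_mul_cancel₀ _ hb, sub_self]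
      · rw [map_sub, map_sub, map_smul, map_smul, LinearMap.IsAlt.self_eq_zero hA, smul_zero, sub_zero,
          ← LinearMap.IsAlt.neg hA v w, smul_eq_mul, mul_neg, sub_neg_eq_add, div_mul_cancel₀ _ hb,
          ← LinearMap.IsAlt.neg hA s w]
        exact neg_add_cancel _
    have hlt : finrank F S' < k := by
      rw [← hk]
      refine Submodule.finrank_lt_finrank_of_lt (lt_of_le_of_ne (inf_le_left.trans inf_le_left) fun he => ?_)
      have : w ∈ S' := he ▸ hw
      exact hb ((hS'mem w).1 this).1.2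
    have hinv : ∀ s ∈ S', x s ∈ S' := by
      intro s hs
      rw [hS'mem] at hs
      obtain ⟨⟨hsS, hsv⟩, hsw⟩ := hs
      have key : ∀ u, B u (x s) = z * B (x u) s := fun u => by
        rw [← hpres u (x s), hxx, map_smul, smul_eq_mul]
      rw [hS'mem]
      rcases hpat with ⟨-, ⟨a, ha⟩, ⟨c, hc⟩⟩ | ⟨-, ⟨a, ha⟩, ⟨c, hc⟩⟩
      all_goals
        refine ⟨⟨hS _ hsS, ?_⟩, ?_⟩
        · rw [key, ha, map_smul, LinearMap.smul_apply]
          simp [hsv, hsw]
        · rw [key, hc, map_smul, LinearMap.smul_apply]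
          simp [hsv, hsw]
    have hnd' : ∀ u ∈ S', (∀ t ∈ S', B u t = 0) → u = 0 := by
      intro u hu ht
      rw [hS'mem] at hu
      refine hnd u hu.1.1 fun s hs => ?_
      obtain ⟨a, c, hac⟩ := hdec s hs
      have h1 := ht _ hac
      rw [map_sub, map_sub, map_smul, map_smul, hrefl _ _ hu.1.2, hrefl _ _ hu.2, smul_zero, smul_zero,
        sub_zero, sub_zero] at h1
      exact h1
    obtain ⟨U, W, hU, hW, hsup, hinf, hUi, hWi, hm1, hm2⟩ := ih _ hlt S' rfl hinv hnd'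
    have hUv : ∀ u ∈ U, B v u = 0 ∧ B w u = 0 := fun u hu => ⟨((hS'mem u).1 (hU hu)).1.2, ((hS'mem u).1 (hU hu)).2⟩
    have hWv : ∀ u ∈ W, B v u = 0 ∧ B w u = 0 := fun u hu => ⟨((hS'mem u).1 (hW hu)).1.2, ((hS'mem u).1 (hW hu)).2⟩
    have hSS : S' ≤ S := inf_le_left.trans inf_le_left
    have hiso : ∀ (v : V) (U : Submodule F V), (∀ u ∈ U, B v u = 0) → (∀ u ∈ U, ∀ u' ∈ U, B u u' = 0) →
        ∀ u ∈ (F ∙ v) ⊔ U, ∀ u' ∈ (F ∙ v) ⊔ U, B u u' = 0 := by
      intro v U hvU hUU u hu u' hu'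
      obtain ⟨_, ha, b, hb', rfl⟩ := Submodule.mem_sup.1 hu
      obtain ⟨a, rfl⟩ := Submodule.mem_span_singleton.1 ha
      obtain ⟨_, ha', b', hb'', rfl⟩ := Submodule.mem_sup.1 hu'
      obtain ⟨a', rfl⟩ := Submodule.mem_span_singleton.1 ha'
      simp [LinearMap.IsAlt.self_eq_zero hA, hvU b' hb'', hrefl _ _ (hvU b hb'), hUU b hb' b' hb'']
    refine ⟨(F ∙ v) ⊔ U, (F ∙ w) ⊔ W, sup_le ((Submodule.span_singleton_le_iff_mem _ _).2 hv) (hU.trans hSS),
      sup_le ((Submodule.span_singleton_le_iff_mem _ _).2 hw) (hW.trans hSS), ?_, ?_,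
      hiso v U (fun u hu => (hUv u hu).1) hUi, hiso w W (fun u hu => (hWv u hu).2) hWi, ?_, ?_⟩
    · rw [sup_sup_sup_comm, hsup]
      refine le_antisymm (sup_le (sup_le ((Submodule.span_singleton_le_iff_mem _ _).2 hv)
        ((Submodule.span_singleton_le_iff_mem _ _).2 hw)) hSS) fun s hs => ?_
      obtain ⟨a, c, hac⟩ := hdec s hs
      have : s = (a • v + c • w) + (s - a • v - c • w) := by abel
      rw [this]
      exact Submodule.add_mem_sup (Submodule.add_mem_sup (Submodule.mem_span_singleton.2 ⟨a, rfl⟩)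
        (Submodule.mem_span_singleton.2 ⟨c, rfl⟩)) hac
    · rw [eq_bot_iff]
      rintro u ⟨h1, h1'⟩
      obtain ⟨_, ha, b, hb', rfl⟩ := Submodule.mem_sup.1 h1
      obtain ⟨a, rfl⟩ := Submodule.mem_span_singleton.1 ha
      obtain ⟨_, hc, d, hd, he⟩ := Submodule.mem_sup.1 h1'
      obtain ⟨c, rfl⟩ := Submodule.mem_span_singleton.1 hc
      have e1 := congrArg (B v) he
      simp [LinearMap.IsAlt.self_eq_zero hA, (hUv b hb').1, (hWv d hd).1, hb] at e1
      have e2 := congrArg (B w) he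
      simp [e1, LinearMap.IsAlt.self_eq_zero hA, (hUv b hb').2, (hWv d hd).2] at e2
      have hwv : B w v ≠ 0 := fun h => hb (hrefl _ _ h)
      have ha0 : a = 0 := (by
        rcases e2 with h | h
        · exact h
        · exact absurd h hwv)
      rw [e1, zero_smul, zero_add, ha0, zero_smul, zero_add] at he
      have : b ∈ U ⊓ W := ⟨hb', he ▸ hd⟩
      rw [hinf, Submodule.mem_bot] at this
      simp [ha0, this]
    · intro h1
      rcases hpat with ⟨-, ⟨a, ha⟩, ⟨c, hc⟩⟩ | ⟨hz', -⟩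
      · rw [Submodule.map_sup, Submodule.map_sup, Submodule.map_span, Submodule.map_span,
          Set.image_singleton, Set.image_singleton, ha, hc]
        exact ⟨sup_le_sup (Submodule.span_singleton_smul_le F a v) (hm1 h1).1,
          sup_le_sup (Submodule.span_singleton_smul_le F c w) (hm1 h1).2⟩
      · exact absurd (h1.symm.trans hz') (fun h => h2 (by linear_combination h))
    · intro h1
      rcases hpat with ⟨hz', -⟩ | ⟨-, ⟨a, ha⟩, ⟨c, hc⟩⟩
      · exact absurd (hz'.symm.trans h1) (fun h => h2 (by linear_combination h))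
      · rw [Submodule.map_sup, Submodule.map_sup, Submodule.map_span, Submodule.map_span,
          Set.image_singleton, Set.image_singleton, ha, hc]
        exact ⟨sup_le_sup (Submodule.span_singleton_smul_le F a w) (hm2 h1).1,
          sup_le_sup (Submodule.span_singleton_smul_le F c v) (hm2 h1).2⟩

/-- Involutions fix a pair of complementary Lagrangians. -/
theorem exists_fixed_lagrangian_pair (hA : B.IsAlt) (hB : ∀ u, (∀ v, B u v = 0) → u = 0) (h2 : (2 : F) ≠ 0)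
    (hpres : ∀ u v, B (x u) (x v) = B u v) (hxx : ∀ v, x (x v) = z • v) (hz : z = 1 ∨ z = -1) :
    ∃ U W : Submodule F V, IsCompl U W ∧ (∀ u ∈ U, ∀ v ∈ U, B u v = 0) ∧ (∀ u ∈ W, ∀ v ∈ W, B u v = 0) ∧
      ((U.map x = U ∧ W.map x = W) ∨ (U.map x = W ∧ W.map x = U)) := by
  obtain ⟨U, W, -, -, hsup, hinf, hUi, hWi, hm1, hm2⟩ := exists_isotropic_pair hA h2 hpres hxx hz _ ⊤ rfl
    (fun v _ => Submodule.mem_top) (fun u _ h => hB u fun v => h v Submodule.mem_top)
  have hz0 : z ≠ 0 := by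
    rcases hz with rfl | rfl
    · exact one_ne_zero
    · exact neg_ne_zero.2 one_ne_zero
  have hge : ∀ (A C : Submodule F V), A.map x ≤ C → C.map x ≤ A → A.map x = C := by
    intro A C h1 h2'
    refine le_antisymm h1 fun c hc => ⟨z⁻¹ • x c, A.smul_mem _ (h2' ⟨c, hc, rfl⟩), ?_⟩
    rw [map_smul, hxx, smul_smul, inv_mul_cancel₀ hz0, one_smul]
  refine ⟨U, W, ⟨disjoint_iff.2 hinf, codisjoint_iff.2 hsup⟩, hUi, hWi, ?_⟩
  rcases hz with h | h
  · obtain ⟨h3, h4⟩ := hm1 h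
    exact Or.inl ⟨hge U U h3 h3, hge W W h4 h4⟩
  · obtain ⟨h3, h4⟩ := hm2 h
    exact Or.inr ⟨hge U W h3 h4, hge W U h4 h3⟩

end Cfsg.Agent.Lib.Elusive
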