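import Mathlib
import Cfsg.Agent.Lib.Elusive.OrthSum
import Cfsg.Agent.Lib.Elusive.SympInvolution

/-! A projective symplectic involution splits the space into invariant planes and swapped pairs of planes. -/

set_option autoImplicit false
set_option linter.style.haveILetI false

namespace Cfsg.Agent.Lib.Elusive

open Module Cfsg.Agent.Lib.Forms

variable {F : Type*} [Field F] {V : Type*} [AddCommGroup V] [Module F V]
  {B : LinearMap.BilinForm F V} {x : Module.End F V} {z : F}

/-- Invariant planes and swapped pairs of planes filling `S`. -/
def PlaneDecomp (B : LinearMap.BilinForm F V) (x : Module.End F V) (S : Submodule F V) : Prop :=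
  ∃ (k l : ℕ) (E : (Fin k × Fin 2) ⊕ Fin l → Submodule F V),
    OrthFam (σ := RingHom.id F) B E ∧ (∀ i, finrank F ↥(E i) = 2) ∧ (∀ i, E i ≤ S) ∧
    (∀ i s, (E (.inl (i, s))).map x ≤ E (.inl (i, s + 1))) ∧ (∀ i, (E (.inr i)).map x ≤ E (.inr i)) ∧
    finrank F ↥S = 2 * (2 * k + l)

variable [FiniteDimensional F V] (hA : B.IsAlt) (h : IsGoodForm (σ := RingHom.id F) B (-1))
include hA h

omit [FiniteDimensional F V] h in
theorem nd_span_pair {v w : V} (hb : B v w ≠ 0) :
    Nd (σ := RingHom.id F) B (Submodule.span F {v, w}) := by
  intro u hu hz
  obtain ⟨a, c, rfl⟩ := Submodule.mem_span_pair.1 hu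
  have h1 := hz v (Submodule.subset_span (by simp))
  have h2 := hz w (Submodule.subset_span (by simp))
  simp only [map_add, map_smul, LinearMap.add_apply, LinearMap.smul_apply, smul_eq_mul, hA.self_eq_zero,
    mul_zero, zero_add, add_zero] at h1 h2
  rw [← LinearMap.IsAlt.neg hA] at h1
  rw [(mul_eq_zero.1 h1).resolve_right (neg_ne_zero.2 hb), (mul_eq_zero.1 h2).resolve_right hb,
    zero_smul, zero_smul, add_zero]

omit [FiniteDimensional F V] h in
theorem finrank_span_pair {v w : V} (hb : B v w ≠ 0) : finrank F ↥(Submodule.span F ({v, w} : Set V)) = 2 := by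
  have hli : LinearIndependent F ![v, w] := by
    rw [LinearIndependent.pair_iff]
    intro a c hac
    have h1 := congrArg (B v) hac
    have h2 := congrArg (fun u => B u w) hac
    simp only [map_add, map_smul, map_zero, LinearMap.add_apply, LinearMap.smul_apply, LinearMap.zero_apply,
      smul_eq_mul, hA.self_eq_zero, mul_zero, zero_add, add_zero] at h1 h2
    exact ⟨(mul_eq_zero.1 h2).resolve_right hb, (mul_eq_zero.1 h1).resolve_right hb⟩
  have h1 := finrank_span_eq_card hli
  rw [Matrix.range_cons_cons_empty, Fintype.card_fin] at h1
  exact h1

/-- A projective symplectic involution has a decomposition into planes. -/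
theorem exists_planeDecomp (hpres : ∀ u v, B (x u) (x v) = B u v) (hxx : ∀ v, x (x v) = z • v)
    (hz : z = 1 ∨ z = -1) :
    ∀ (S : Submodule F V), (∀ v ∈ S, x v ∈ S) → Nd (σ := RingHom.id F) B S → PlaneDecomp B x S := by
  classical
  intro S
  induction hk : finrank F ↥S using Nat.strong_induction_on generalizing S with
  | h n ih =>
    intro hS hnd
    subst hk
    by_cases hne : S = ⊥
    · subst hne
      refine ⟨0, 0, Sum.elim (fun p => p.1.elim0) (fun i => i.elim0),
        ⟨?_, ?_⟩, ?_, ?_, fun i => i.elim0, fun i => i.elim0, by simp⟩
      all_goals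
        intro i
        rcases i with ⟨i, -⟩ | i <;> exact i.elim0
    -- a plane or a swapped pair of planes
    have hone : (∃ v ∈ S, ∃ w ∈ S, B v w ≠ 0 ∧ x v ∈ Submodule.span F ({v, w} : Set V) ∧
        x w ∈ Submodule.span F ({v, w} : Set V)) ∨
      (∃ v ∈ S, ∃ w ∈ S, z = 1 ∧ B v w ≠ 0 ∧ B v (x v) = 0 ∧ B v (x w) = 0 ∧ B w (x v) = 0 ∧ B w (x w) = 0) := by
      by_cases h2 : (2 : F) ≠ 0
      · obtain ⟨v, hv, w, hw, hb, hpat⟩ := exists_adapted_pair hA h2 hpres hxx hz hS hnd hne
        refine Or.inl ⟨v, hv, w, hw, hb, ?_⟩
        rcases hpat with ⟨-, ⟨a, ha⟩, ⟨c, hc⟩⟩ | ⟨-, ⟨a, ha⟩, ⟨c, hc⟩⟩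
        all_goals
          rw [ha, hc]
          exact ⟨Submodule.smul_mem _ _ (Submodule.subset_span (by simp)),
            Submodule.smul_mem _ _ (Submodule.subset_span (by simp))⟩
      · push Not at h2
        have hz1 : z = 1 := by
          rcases hz with e | e
          · exact e
          · rw [e]; linear_combination -h2
        by_cases hva : ∃ v ∈ S, B v (x v) ≠ 0
        · obtain ⟨v, hv, hb⟩ := hva
          refine Or.inl ⟨v, hv, x v, hS v hv, hb, Submodule.subset_span (by simp), ?_⟩
          rw [hxx, hz1, one_smul]
          exact Submodule.subset_span (by simp)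
        · push Not at hva
          by_cases hid : ∀ v ∈ S, x v = v
          · obtain ⟨v, hv, hv0⟩ := Submodule.exists_mem_ne_zero_of_ne_bot hne
            obtain ⟨w, hw, hb⟩ := (nd_iff S).1 hnd v hv hv0
            exact Or.inl ⟨v, hv, w, hw, hb, by rw [hid v hv]; exact Submodule.subset_span (by simp),
              by rw [hid w hw]; exact Submodule.subset_span (by simp)⟩
          · push Not at hid
            obtain ⟨v, hv, hxv⟩ := hid
            have hnot : v ∉ Submodule.span F ({x v} : Set V) := by
              intro hmem
              obtain ⟨c, hc⟩ := Submodule.mem_span_singleton.1 hmem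
              have h1 := congrArg x hc
              rw [map_smul, hxx, hz1, one_smul] at h1
              have h0 : v ≠ 0 := fun e => hxv (by rw [e, map_zero])
              have h3 : (c * c - 1) • v = 0 := by
                rw [sub_smul, mul_smul, one_smul, h1, hc, sub_self]
              have h4 : c = 1 := by
                have h5 := (smul_eq_zero.1 h3).resolve_right h0
                have h6 : (c - 1) * (c - 1) = 0 := by linear_combination h5 + (1 - c) * h2
                exact sub_eq_zero.1 (mul_self_eq_zero.1 h6)
              exact hxv (by rw [← h1, h4, one_smul])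
            obtain ⟨a, ha, -, hav⟩ := h.exists_sep hnot
            obtain ⟨w, hw, w', hw', rfl⟩ := Submodule.mem_sup.1
              ((isCompl_perp h hnd).sup_eq_top.ge (Submodule.mem_top : a ∈ ⊤))
            have hwv : B w v = 1 := by
              rwa [map_add, LinearMap.add_apply, h.eq_zero_symm (hw' v hv), add_zero] at hav
            have hwxv : B w (x v) = 0 := by
              have := ha (x v) (Submodule.mem_span_singleton_self _)
              rwa [map_add, LinearMap.add_apply, h.eq_zero_symm (hw' _ (hS v hv)), add_zero] at this
            refine Or.inr ⟨v, hv, w, hw, hz1, fun e => ?_, hva v hv, ?_, hwxv, hva w hw⟩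
            · exact one_ne_zero (hwv.symm.trans (h.eq_zero_symm e))
            · rw [← hpres, hxx, hz1, one_smul]
              exact h.eq_zero_symm hwxv
    rcases hone with ⟨v, hv, w, hw, hb, hxv, hxw⟩ | ⟨v, hv, w, hw, hz1, hb, e1, e2, e3, e4⟩
    · set P := Submodule.span F ({v, w} : Set V) with hP
      have hPS : P ≤ S := Submodule.span_le.2 (Set.insert_subset hv (Set.singleton_subset_iff.2 hw))
      have hPn : Nd (σ := RingHom.id F) B P := nd_span_pair hA hb
      have hPd : finrank F ↥P = 2 := finrank_span_pair hA hb
      have hPi : Inv x P := by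
        intro u hu
        obtain ⟨a, c, rfl⟩ := Submodule.mem_span_pair.1 hu
        rw [map_add, map_smul, map_smul]
        exact P.add_mem (P.smul_mem a hxv) (P.smul_mem c hxw)
      obtain ⟨hT, -, -, hdim⟩ := split_nd h hPn hnd hPS
      have hTi : ∀ u ∈ S ⊓ perp (σ := RingHom.id F) B P, x u ∈ S ⊓ perp (σ := RingHom.id F) B P :=
        inv_inf hS (perp_inv h hpres hPi)
      obtain ⟨k, l, E, hE, hEd, hES, hEl, hEr, hEk⟩ := ih _ (by omega) _ rfl hTi hT
      let E' : (Fin k × Fin 2) ⊕ Fin (l + 1) → Submodule F V :=
        Sum.elim (fun p => E (.inl p)) (Fin.cons P (fun i => E (.inr i)) : Fin (l + 1) → Submodule F V)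
      have hPE : ∀ i, ∀ a ∈ P, ∀ b ∈ E i, B a b = 0 := fun i a ha b hb => (hES i hb).2 a ha
      refine ⟨k, l + 1, E', ⟨?_, ?_⟩, ?_, ?_, fun i s => hEl i s, ?_, by omega⟩
      · rintro (p | i)
        · exact hE.nd _
        · induction i using Fin.cases with
          | zero => simpa [E'] using hPn
          | succ i => simpa [E'] using hE.nd _
      · rintro (p | i) (p' | i') hne' a ha b hb
        · exact hE.orth (.inl p) (.inl p') (fun e => hne' (by rw [Sum.inl.inj e])) a ha b hb
        · induction i' using Fin.cases with
          | zero => exact h.eq_zero_symm (hPE _ b (by simpa [E'] using hb) a ha)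
          | succ i' => exact hE.orth (.inl p) (.inr i') Sum.inl_ne_inr a ha b (by simpa [E'] using hb)
        · induction i using Fin.cases with
          | zero => exact hPE _ a (by simpa [E'] using ha) b hb
          | succ i => exact hE.orth (.inr i) (.inl p') Sum.inr_ne_inl a (by simpa [E'] using ha) b hb
        · induction i using Fin.cases with
          | zero =>
            induction i' using Fin.cases with
            | zero => exact absurd rfl hne'
            | succ i' => exact hPE (.inr i') a (by simpa [E'] using ha) b (by simpa [E'] using hb)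
          | succ i =>
            induction i' using Fin.cases with
            | zero => exact h.eq_zero_symm (hPE (.inr i) b (by simpa [E'] using hb) a (by simpa [E'] using ha))
            | succ i' =>
              exact hE.orth (.inr i) (.inr i') (fun e => hne' (by rw [Sum.inr.inj e])) a
                (by simpa [E'] using ha) b (by simpa [E'] using hb)
      · rintro (p | i)
        · exact hEd _
        · induction i using Fin.cases with
          | zero => exact hPd
          | succ i => exact hEd (.inr i)
      · rintro (p | i)
        · exact (hES _).trans inf_le_left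
        · induction i using Fin.cases with
          | zero => simpa [E'] using hPS
          | succ i => simpa [E'] using (hES (.inr i)).trans inf_le_left
      · intro i
        induction i using Fin.cases with
        | zero => simpa [E'] using (inv_iff_map_le _ _).1 hPi
        | succ i => simpa [E'] using hEr i
    · set P := Submodule.span F ({v, w} : Set V) with hP
      set P' := Submodule.span F ({x v, x w} : Set V) with hP'
      have hb' : B (x v) (x w) ≠ 0 := by rwa [hpres]
      have hPn : Nd (σ := RingHom.id F) B P := nd_span_pair hA hb
      have hP'n : Nd (σ := RingHom.id F) B P' := nd_span_pair hA hb'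
      have hPP : ∀ a ∈ P, ∀ b ∈ P', B a b = 0 := by
        intro a ha b hb
        obtain ⟨a₁, a₂, rfl⟩ := Submodule.mem_span_pair.1 ha
        obtain ⟨b₁, b₂, rfl⟩ := Submodule.mem_span_pair.1 hb
        simp [e1, e2, e3, e4]
      have hsq : ∀ u, x (x u) = u := fun u => by rw [hxx, hz1, one_smul]
      have hm1 : P.map x ≤ P' := by
        rw [Submodule.map_span, Set.image_pair]
      have hm2 : P'.map x ≤ P := by
        rw [Submodule.map_span, Set.image_pair, hsq, hsq]
      have hQS : P ⊔ P' ≤ S := sup_le
        (Submodule.span_le.2 (Set.insert_subset hv (Set.singleton_subset_iff.2 hw)))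
        (Submodule.span_le.2 (Set.insert_subset (hS v hv) (Set.singleton_subset_iff.2 (hS w hw))))
      have hQn : Nd (σ := RingHom.id F) B (P ⊔ P') := nd_sup h hPn hP'n hPP
      have hQi : Inv x (P ⊔ P') := (inv_iff_map_le _ _).2 (by
        rw [Submodule.map_sup]; exact sup_le (hm1.trans le_sup_right) (hm2.trans le_sup_left))
      have hQd : finrank F ↥(P ⊔ P') = 4 := by
        have h0 : P ⊓ P' = ⊥ := by
          rw [eq_bot_iff]
          rintro u ⟨hu, hu'⟩
          exact (Submodule.mem_bot F).2 (hPn u hu fun t ht => h.eq_zero_symm (hPP t ht u hu'))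
        have h1 := Submodule.finrank_sup_add_finrank_inf_eq P P'
        rw [h0, finrank_bot, add_zero, finrank_span_pair hA hb, finrank_span_pair hA hb'] at h1
        exact h1
      obtain ⟨hT, -, -, hdim⟩ := split_nd h hQn hnd hQS
      have hTi : ∀ u ∈ S ⊓ perp (σ := RingHom.id F) B (P ⊔ P'), x u ∈ S ⊓ perp (σ := RingHom.id F) B (P ⊔ P') :=
        inv_inf hS (perp_inv h hpres hQi)
      obtain ⟨k, l, E, hE, hEd, hES, hEl, hEr, hEk⟩ := ih _ (by omega) _ rfl hTi hT
      let c : Fin 2 → Submodule F V := ![P, P']
      let E' : (Fin (k + 1) × Fin 2) ⊕ Fin l → Submodule F V :=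
        Sum.elim (fun p => (Fin.cons (c p.2) (fun i => E (.inl (i, p.2))) : Fin (k + 1) → Submodule F V) p.1) (fun i => E (.inr i))
      have hcQ : ∀ s, c s ≤ P ⊔ P' := fun s => by
        fin_cases s
        · exact le_sup_left
        · exact le_sup_right
      have hQE : ∀ i, ∀ a ∈ P ⊔ P', ∀ b ∈ E i, B a b = 0 := fun i a ha b hb => (hES i hb).2 a ha
      refine ⟨k + 1, l, E', ⟨?_, ?_⟩, ?_, ?_, ?_, fun i => hEr i, by omega⟩
      · rintro (⟨i, s⟩ | i)
        · induction i using Fin.cases with
          | zero =>
            fin_cases s
            · simpa [E', c] using hPn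
            · simpa [E', c] using hP'n
          | succ i => simpa [E'] using hE.nd _
        · exact hE.nd _
      · rintro (⟨i, s⟩ | i) (⟨i', s'⟩ | i') hne' a ha b hb
        · induction i using Fin.cases with
          | zero =>
            induction i' using Fin.cases with
            | zero =>
              fin_cases s <;> fin_cases s'
              · exact absurd rfl hne'
              · exact hPP a (by simpa [E', c] using ha) b (by simpa [E', c] using hb)
              · exact h.eq_zero_symm (hPP b (by simpa [E', c] using hb) a (by simpa [E', c] using ha))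
              · exact absurd rfl hne'
            | succ i' =>
              exact hQE (.inl (i', s')) a (hcQ s (by simpa [E'] using ha)) b (by simpa [E'] using hb)
          | succ i =>
            induction i' using Fin.cases with
            | zero =>
              exact h.eq_zero_symm (hQE (.inl (i, s)) b (hcQ s' (by simpa [E'] using hb)) a (by simpa [E'] using ha))
            | succ i' =>
              refine hE.orth (.inl (i, s)) (.inl (i', s')) (fun e => hne' ?_) a (by simpa [E'] using ha) b
                (by simpa [E'] using hb)
              obtain ⟨rfl, rfl⟩ := Prod.mk.inj (Sum.inl.inj e)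
              rfl
        · induction i using Fin.cases with
          | zero => exact hQE (.inr i') a (hcQ s (by simpa [E'] using ha)) b hb
          | succ i => exact hE.orth (.inl (i, s)) (.inr i') Sum.inl_ne_inr a (by simpa [E'] using ha) b hb
        · induction i' using Fin.cases with
          | zero => exact h.eq_zero_symm (hQE (.inr i) b (hcQ s' (by simpa [E'] using hb)) a ha)
          | succ i' => exact hE.orth (.inr i) (.inl (i', s')) Sum.inr_ne_inl a ha b (by simpa [E'] using hb)
        · exact hE.orth (.inr i) (.inr i') (fun e => hne' (by rw [Sum.inr.inj e])) a ha b hb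
      · rintro (⟨i, s⟩ | i)
        · induction i using Fin.cases with
          | zero =>
            fin_cases s
            · exact finrank_span_pair hA hb
            · exact finrank_span_pair hA hb'
          | succ i => exact hEd (.inl (i, s))
        · exact hEd _
      · rintro (⟨i, s⟩ | i)
        · induction i using Fin.cases with
          | zero => simpa [E'] using (hcQ s).trans hQS
          | succ i => simpa [E'] using (hES (.inl (i, s))).trans inf_le_left
        · exact (hES _).trans inf_le_left
      · intro i s
        induction i using Fin.cases with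
        | zero =>
          fin_cases s
          · simpa [E', c] using hm1
          · simpa [E', c] using hm2
        | succ i => simpa [E'] using hEl i s

end Cfsg.Agent.Lib.Elusive
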