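import Mathlib
import Cfsg.Agent.Lib.Classical.Symplectic
import Cfsg.Agent.Lib.Forms.Bridge
import Cfsg.Agent.Lib.Forms.Symplectic
import Cfsg.Agent.Lib.Elusive.Count
import Cfsg.Agent.Lib.Elusive.BlockIsometry
import Cfsg.Agent.Lib.Elusive.SympPlanes

/-! The symplectic group: elements of odd prime order as linear maps, blocks, and subspaces inside fixed spaces. -/

set_option autoImplicit false
set_option linter.style.haveILetI false
set_option linter.unusedSectionVars false

namespace Cfsg.Agent.Lib.Elusive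

open Module Cfsg.Agent.Lib.Forms

variable {F : Type*} [Field F] [Fintype F] {r d : ℕ}

local notation "sB" => (sympBilin d F : (Fin d ⊕ Fin d → F) →ₗ[F] (Fin d ⊕ Fin d → F) →ₗ[F] F)

theorem sB_good : IsGoodForm (σ := RingHom.id F) sB (-1) := sympBilin_goodForm

theorem finrank_std : finrank F (Fin d ⊕ Fin d → F) = 2 * d := by
  rw [Module.finrank_fintype_fun_eq_card, Fintype.card_sum, Fintype.card_fin, two_mul]

/-- Symplectic elements of odd prime order modulo scalars are isometries of order `r`. -/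
theorem forall_symp_iff (hr : r.Prime) (hr2 : r ≠ 2) (hd : 1 ≤ d) (P : Module.End F (Fin d ⊕ Fin d → F) → Prop)
    (hneg : ∀ f, P f → P (-f)) :
    (∀ x : ↥(Matrix.symplecticGroup (Fin d) F),
      (∃ z : F, ((x ^ r : ↥(Matrix.symplecticGroup (Fin d) F)) : Matrix (Fin d ⊕ Fin d) (Fin d ⊕ Fin d) F) =
        z • (1 : Matrix (Fin d ⊕ Fin d) (Fin d ⊕ Fin d) F)) →
      (∀ z : F, (x : Matrix (Fin d ⊕ Fin d) (Fin d ⊕ Fin d) F) ≠
        z • (1 : Matrix (Fin d ⊕ Fin d) (Fin d ⊕ Fin d) F)) →
      P (Matrix.toLin' (x : Matrix (Fin d ⊕ Fin d) (Fin d ⊕ Fin d) F))) ↔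
    ∀ y : Module.End F (Fin d ⊕ Fin d → F), y ^ r = 1 → y ≠ 1 →
      (∀ u v, sympBilin d F (y u) (y v) = sympBilin d F u v) → P y := by
  classical
  let v₀ : Fin d ⊕ Fin d → F := Pi.single (.inl ⟨0, hd⟩) 1
  let w₀ : Fin d ⊕ Fin d → F := Pi.single (.inr ⟨0, hd⟩) 1
  have hb₀ : sympBilin d F v₀ w₀ ≠ 0 := by simp [sympForm_apply, v₀, w₀, Pi.single_apply]
  have hscal : ∀ (f : Module.End F (Fin d ⊕ Fin d → F)) (c : F), f = c • 1 →
      (∀ u v, sympBilin d F (f u) (f v) = sympBilin d F u v) → c = 1 ∨ c = -1 := by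
    intro f c hf hp
    have h1 := hp v₀ w₀
    rw [hf] at h1
    simp only [LinearMap.smul_apply, Module.End.one_apply, map_smul, smul_eq_mul, ← mul_assoc] at h1
    exact mul_self_eq_one_iff.1 ((mul_eq_right₀ hb₀).1 h1)
  have hm1 : ((-1 : F) • (1 : Module.End F (Fin d ⊕ Fin d → F))) = -1 := LinearMap.ext fun v => by simp
  have hnegpow : ∀ g : Module.End F (Fin d ⊕ Fin d → F), (-g) ^ r = -(g ^ r) := fun g =>
    (hr.odd_of_ne_two hr2).neg_pow g
  constructor
  · intro hall y hy hne hpres
    let e : (Fin d ⊕ Fin d → F) ≃ₗ[F] (Fin d ⊕ Fin d → F) :=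
      LinearEquiv.ofInjectiveEndo y (sB_good.injective_of_preserves hpres)
    have he : ∀ u v, Cfsg.sympForm d F (e u) (e v) = Cfsg.sympForm d F u v := fun u v => by
      rw [← sympBilin_apply, ← sympBilin_apply]; exact hpres u v
    have hlin : Matrix.toLin' ((spMk e he : ↥(Matrix.symplecticGroup (Fin d) F)) :
        Matrix (Fin d ⊕ Fin d) (Fin d ⊕ Fin d) F) = y :=
      LinearMap.ext fun v => by rw [Matrix.toLin'_apply, spMk_mulVec]; rfl
    have := hall (spMk e he) ⟨1, ?_⟩ ?_
    · rwa [hlin] at this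
    · apply Matrix.toLin'.injective
      rw [SubmonoidClass.coe_pow, Matrix.toLin'_pow, hlin, hy, one_smul, Matrix.toLin'_one]
      rfl
    · intro z hz
      have hyz : y = z • 1 := by rw [← hlin, hz, map_smul, Matrix.toLin'_one]; rfl
      rcases hscal y z hyz hpres with rfl | rfl
      · exact hne (by rw [hyz, one_smul])
      · rw [hyz, hm1, hnegpow, one_pow] at hy
        exact hne (by rw [hyz, hm1, hy])
  · rintro hall x ⟨z, hz⟩ hns
    set f : Module.End F (Fin d ⊕ Fin d → F) :=
      Matrix.toLin' (x : Matrix (Fin d ⊕ Fin d) (Fin d ⊕ Fin d) F) with hf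
    have hfp : ∀ u v, sympBilin d F (f u) (f v) = sympBilin d F u v := fun u v => by
      simp only [sympBilin_apply, hf, Matrix.toLin'_apply]
      exact mem_symplecticGroup_iff_preserves.1 x.2 u v
    have hfr : f ^ r = z • 1 := by
      rw [SubmonoidClass.coe_pow] at hz
      rw [hf, ← Matrix.toLin'_pow, hz, map_smul, Matrix.toLin'_one]; rfl
    have hfrp : ∀ (k : ℕ) u v, sympBilin d F ((f ^ k) u) ((f ^ k) v) = sympBilin d F u v := fun k => by
      induction k with
      | zero => intro u v; rfl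
      | succ k ih => intro u v; rw [pow_succ', Module.End.mul_apply, Module.End.mul_apply, hfp, ih]
    rcases hscal _ z hfr (hfrp r) with rfl | rfl
    · refine hall f (by rw [hfr, one_smul]) (fun h1 => hns 1 ?_) hfp
      apply Matrix.toLin'.injective
      rw [← hf, h1, one_smul, Matrix.toLin'_one]; rfl
    · have := hall (-f) (by rw [hnegpow, hfr, hm1, neg_neg])
        (fun h1 => hns (-1) (by
          apply Matrix.toLin'.injective
          rw [← hf, map_smul, Matrix.toLin'_one, ← neg_neg f, h1]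
          exact hm1.symm))
        (fun u v => by simp only [LinearMap.neg_apply, map_neg, neg_neg, hfp u v])
      simpa using hneg _ this

/-- `N` coordinate blocks in the standard symplectic space. -/
theorem exists_blockEmb_symp {N h : ℕ} (hNh : N * h ≤ d) :
    Nonempty (BlockEmb (σ := RingHom.id F) sB (sympBilin h F : (Fin h ⊕ Fin h → F) →ₗ[F] _) N) := by
  classical
  have hlt : ∀ (n : Fin N) (l : Fin h), (n : ℕ) * h + l < d := fun n l => by
    have h1 := Nat.mul_le_mul_right h (show (n : ℕ) + 1 ≤ N from n.2)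
    rw [Nat.succ_mul] at h1
    have := l.2
    omega
  let φ : Fin N → Fin h → Fin d := fun n l => ⟨(n : ℕ) * h + l, hlt n l⟩
  let f : Fin N → Fin h ⊕ Fin h → Fin d ⊕ Fin d := fun n => Sum.map (φ n) (φ n)
  have hφ : ∀ n m l l', φ n l = φ m l' → n = m ∧ l = l' := by
    intro n m l l' e
    have e' : (n : ℕ) * h + l = (m : ℕ) * h + l' := congrArg Fin.val e
    have := l.2
    have := l'.2
    rcases lt_trichotomy (n : ℕ) m with hh | hh | hh
    · have h1 := Nat.mul_le_mul_right h (show (n : ℕ) + 1 ≤ m from hh)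
      rw [Nat.succ_mul] at h1
      omega
    · exact ⟨Fin.ext hh, Fin.ext (by rw [hh] at e'; omega)⟩
    · have h1 := Nat.mul_le_mul_right h (show (m : ℕ) + 1 ≤ n from hh)
      rw [Nat.succ_mul] at h1
      omega
  have hf : ∀ n m a b, f n a = f m b → n = m ∧ a = b := by
    intro n m a b e
    rcases a with a | a <;> rcases b with b | b <;>
      simp only [f, Sum.map_inl, Sum.map_inr, Sum.inl.injEq, Sum.inr.injEq, reduceCtorEq] at e
    · obtain ⟨rfl, rfl⟩ := hφ _ _ _ _ e; exact ⟨rfl, rfl⟩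
    · obtain ⟨rfl, rfl⟩ := hφ _ _ _ _ e; exact ⟨rfl, rfl⟩
  have hfi : ∀ n, Function.Injective (f n) := fun n a b e => (hf n n a b e).2
  refine ⟨⟨fun n => Function.ExtendByZero.linearMap F (f n), fun n => LinearMap.funLeft F F (f n), ?_, ?_⟩⟩
  · intro n m u
    funext a
    show Function.extend (f m) u 0 (f n a) = _
    split_ifs with e
    · subst e; exact (hfi n).extend_apply u 0 a
    · rw [Function.extend_apply' _ _ _ fun ⟨b, hb⟩ => e (hf m n b a hb).1.symm]; rfl
  · intro n u v
    have hl : ∀ l, Function.extend (f n) u 0 (Sum.inl (φ n l)) = u (Sum.inl l) := fun l =>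
      (hfi n).extend_apply u 0 (Sum.inl l)
    have hr' : ∀ l, Function.extend (f n) u 0 (Sum.inr (φ n l)) = u (Sum.inr l) := fun l =>
      (hfi n).extend_apply u 0 (Sum.inr l)
    simp only [sympBilin_apply, sympForm_apply]
    show ∑ i, (Function.extend (f n) u 0 (.inr i) * v (.inl i) - Function.extend (f n) u 0 (.inl i) * v (.inr i)) = _
    symm
    refine Finset.sum_of_injOn (φ n) (fun l _ l' _ e => (hφ _ _ _ _ e).2) (fun l _ => Finset.mem_coe.2 (Finset.mem_univ _))
      (fun i _ hi => ?_) (fun l _ => ?_)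
    · have hno : ∀ s : Fin h ⊕ Fin h, f n s ≠ .inr i ∧ f n s ≠ .inl i := by
        intro s
        rcases s with l | l <;> simp only [f, Sum.map_inl, Sum.map_inr, ne_eq, Sum.inl.injEq, Sum.inr.injEq,
            reduceCtorEq, not_false_eq_true, true_and, and_true] <;>
          exact fun e => hi ⟨l, Finset.mem_coe.2 (Finset.mem_univ _), e⟩
      rw [Function.extend_apply' _ _ _ fun ⟨s, hs⟩ => (hno s).1 hs,
        Function.extend_apply' _ _ _ fun ⟨s, hs⟩ => (hno s).2 hs]
      simp
    · rw [hl, hr']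
      rfl

/-- A block of order `r` exists. -/
theorem exists_symp_block {h : ℕ} (hr : r.Prime)
    (hi : orderOf ((Fintype.card F : ℕ) : ZMod r) ∣ 2 * h) (hh : 1 ≤ h) :
    ∃ y : Module.End F (Fin h ⊕ Fin h → F), y ^ r = 1 ∧ y ≠ 1 ∧
      ∀ u v, sympBilin h F (y u) (y v) = sympBilin h F u v := by
  haveI : Fact r.Prime := ⟨hr⟩
  have hdvd : r ∣ Nat.card ↥(Matrix.symplecticGroup (Fin h) F) := by
    rw [Cfsg.Agent.Lib.Classical.natCard_symplecticGroup, Nat.card_eq_fintype_card]
    refine Dvd.dvd.mul_left (Dvd.dvd.trans ?_ (Finset.dvd_prod_of_mem _ (Finset.mem_range.2 (show h - 1 < h by omega)))) _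
    rw [show 2 * (h - 1 + 1) = 2 * h by omega, dvd_pow_sub_one_iff Fintype.card_pos]
    exact hi
  haveI : Finite ↥(Matrix.symplecticGroup (Fin h) F) := Nat.finite_of_card_ne_zero (by
    rw [Cfsg.Agent.Lib.Classical.natCard_symplecticGroup]
    exact Nat.mul_ne_zero (pow_ne_zero _ Nat.card_pos.ne') (Finset.prod_ne_zero_iff.2 fun k _ =>
      Nat.sub_ne_zero_of_lt (Nat.one_lt_pow (by omega) Finite.one_lt_card)))
  obtain ⟨g, hg⟩ := exists_prime_orderOf_dvd_card' r hdvd
  refine ⟨Matrix.toLin' (g : Matrix (Fin h ⊕ Fin h) (Fin h ⊕ Fin h) F), ?_, fun h1 => ?_, fun u v => ?_⟩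
  · rw [← Matrix.toLin'_pow, ← SubmonoidClass.coe_pow, ← hg, pow_orderOf_eq_one, OneMemClass.coe_one,
      Matrix.toLin'_one]
    rfl
  · have : g = 1 := Subtype.ext (Matrix.toLin'.injective (by rw [h1, OneMemClass.coe_one, Matrix.toLin'_one]; rfl))
    rw [this, orderOf_one] at hg
    exact hr.ne_one hg.symm
  · simp only [sympBilin_apply, Matrix.toLin'_apply]
    exact mem_symplecticGroup_iff_preserves.1 g.2 u v

section Subspaces

variable {V : Type*} [AddCommGroup V] [Module F V] [FiniteDimensional F V] {B : LinearMap.BilinForm F V}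
  (hA : B.IsAlt) (h : IsGoodForm (σ := RingHom.id F) B (-1))
include hA h

/-- A symplectic frame of a non-degenerate subspace. -/
theorem exists_planes {T : Submodule F V} (hT : Nd (σ := RingHom.id F) B T) :
    ∃ (h : ℕ) (E : Fin h → Submodule F V), OrthFam (σ := RingHom.id F) B E ∧ (∀ j, E j ≤ T) ∧
      (∀ j, ∃ v ∈ E j, ∃ w ∈ E j, B v w = 1) ∧ (∀ j, finrank F ↥(E j) = 2) ∧ finrank F ↥T = 2 * h := by
  classical
  obtain ⟨k, l, E, hE, hEd, hET, -, -, hd⟩ := exists_planeDecomp hA h (x := 1) (fun u v => rfl)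
    (fun v => (one_smul F v).symm) (Or.inl rfl) T (fun v hv => hv) hT
  let e : Fin (2 * k + l) ≃ (Fin k × Fin 2) ⊕ Fin l := Fintype.equivOfCardEq (by
    simp only [Fintype.card_sum, Fintype.card_prod, Fintype.card_fin]; ring)
  refine ⟨2 * k + l, fun j => E (e j), ⟨fun j => hE.nd _, fun j j' hj => hE.orth _ _ (e.injective.ne hj)⟩,
    fun j => hET _, fun j => ?_, fun j => hEd _, hd⟩
  obtain ⟨v, hv, hv0⟩ := Submodule.exists_mem_ne_zero_of_ne_bot (p := E (e j)) (fun hb => by
    have := hEd (e j)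
    rw [hb, finrank_bot] at this
    omega)
  obtain ⟨w, hw, hb⟩ := (nd_iff _).1 (hE.nd (e j)) v hv hv0
  exact ⟨v, hv, (B v w)⁻¹ • w, Submodule.smul_mem _ _ hw, by rw [map_smul, smul_eq_mul, inv_mul_cancel₀ hb]⟩

theorem exists_nd_sub {T : Submodule F V} (hT : Nd (σ := RingHom.id F) B T) {a : ℕ} (ha : Even a)
    (hle : a ≤ finrank F ↥T) : ∃ A, A ≤ T ∧ Nd (σ := RingHom.id F) B A ∧ finrank F ↥A = a := by
  classical
  obtain ⟨n, E, hE, hET, -, hEd, hd⟩ := exists_planes hA h hT
  obtain ⟨b, rfl⟩ := ha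
  let s : Finset (Fin n) := Finset.univ.map (Fin.castLEEmb (show b ≤ n by omega))
  refine ⟨s.sup E, Finset.sup_le fun j _ => hET j, (hE.sup_data h s).1, ?_⟩
  rw [(hE.sup_data h s).2, Finset.sum_congr rfl fun j _ => hEd j, Finset.sum_const, Finset.card_map,
    Finset.card_univ, Fintype.card_fin, smul_eq_mul, mul_two]

theorem exists_iso_sub {T : Submodule F V} (hT : Nd (σ := RingHom.id F) B T) {a : ℕ}
    (hle : 2 * a ≤ finrank F ↥T) : ∃ A, A ≤ T ∧ Iso (σ := RingHom.id F) B A ∧ finrank F ↥A = a := by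
  classical
  obtain ⟨n, E, hE, hET, hvw, -, hd⟩ := exists_planes hA h hT
  choose v hv w hw hb using hvw
  let f : Fin a → V := fun j => v (Fin.castLE (by omega) j)
  have hf : LinearIndependent F f := by
    rw [Fintype.linearIndependent_iff]
    intro g hg j
    have := congrArg (fun u => B u (w (Fin.castLE (by omega) j))) hg
    simp only [map_sum, map_smul, LinearMap.sum_apply, LinearMap.smul_apply, map_zero, LinearMap.zero_apply,
      smul_eq_mul, f] at this
    rw [Finset.sum_eq_single j (fun j' _ hj' => by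
      rw [hE.orth _ _ ((Fin.castLE_injective _).ne hj') _ (hv _) _ (hw _), mul_zero])
      (fun hh => absurd (Finset.mem_univ j) hh), hb, mul_one] at this
    exact this
  refine ⟨Submodule.span F (Set.range f), Submodule.span_le.2 ?_, ?_, (finrank_span_eq_card hf).trans (by simp)⟩
  · rintro _ ⟨j, rfl⟩; exact hET _ (hv _)
  · intro x hx y hy
    have h1 : ∀ i, B (f i) y = 0 := fun i => by
      induction hy using Submodule.span_induction with
      | mem y hy =>
        obtain ⟨j, rfl⟩ := hy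
        by_cases hij : i = j
        · rw [hij]; exact hA.self_eq_zero _
        · exact hE.orth _ _ ((Fin.castLE_injective _).ne hij) _ (hv _) _ (hv _)
      | zero => rw [map_zero]
      | add a b _ _ ha hb => rw [map_add, ha, hb, add_zero]
      | smul c a _ ha => rw [map_smul, ha, smul_zero]
    induction hx using Submodule.span_induction with
    | mem x hx => obtain ⟨i, rfl⟩ := hx; exact h1 i
    | zero => rw [map_zero, LinearMap.zero_apply]
    | add a b _ _ ha hb => rw [map_add, LinearMap.add_apply, ha, hb, add_zero]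
    | smul c a _ ha => rw [map_smulₛₗ, LinearMap.smul_apply, ha, smul_zero]

end Subspaces

end Cfsg.Agent.Lib.Elusive
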