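import Mathlib
import Cfsg.Agent.S0775
import Cfsg.Agent.Lib.Elusive.SympCases

/-! Transitivity of the symplectic group and the numbers of totally isotropic subspaces. -/

set_option autoImplicit false
set_option linter.style.haveILetI false
set_option linter.unusedSectionVars false

namespace Cfsg.Agent.Lib.Elusive

open Module Cfsg.Agent.Lib.Forms

variable {F : Type*} [Field F] {σ : F →+* F} {V : Type*} [AddCommGroup V] [Module F V]
  {B : V →ₛₗ[σ] V →ₗ[F] F} {ε : F}

/-- A linear equivalence carrying a spanning family of `W` onto one of `W'`. -/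
theorem map_eq_of_frames {ι : Type*} {f f' : ι → V} (e : V ≃ₗ[F] V) (hef : ∀ i, e (f i) = f' i)
    {W W' : Submodule F V} (hW : Submodule.span F (Set.range f) = W)
    (hW' : Submodule.span F (Set.range f') = W') : W.map (e : V →ₗ[F] V) = W' := by
  rw [← hW, ← hW', Submodule.map_span, ← Set.range_comp]
  exact congrArg _ (congrArg Set.range (funext hef))

/-- Frames of a subspace. -/
theorem exists_frame (W : Submodule F V) [FiniteDimensional F V] {m : ℕ} (hW : finrank F ↥W = m) :
    ∃ f : Fin m → V, LinearIndependent F f ∧ (∀ i, f i ∈ W) ∧ Submodule.span F (Set.range f) = W := by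
  let b := Module.finBasisOfFinrankEq F W hW
  refine ⟨fun i => b i, b.linearIndependent.map' W.subtype W.ker_subtype, fun i => (b i).2, ?_⟩
  rw [show (fun i => ((b i : W) : V)) = W.subtype ∘ b from rfl, Set.range_comp, ← Submodule.map_span, b.span_eq,
    Submodule.map_subtype_top]

variable [Fintype F]

/-- The number of totally isotropic subspaces is prime to the characteristic. -/
theorem not_dvd_natCard_iso_char {p : ℕ} [Fact p.Prime] [CharP F p] (d m : ℕ) (hmd : m ≤ d) :
    ¬ p ∣ Nat.card {W : Submodule F (Fin d ⊕ Fin d → F) //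
      finrank F ↥W = m ∧ ∀ u ∈ W, ∀ v ∈ W, Cfsg.sympForm d F u v = 0} := by
  classical
  set X := {W : Submodule F (Fin d ⊕ Fin d → F) //
      finrank F ↥W = m ∧ ∀ u ∈ W, ∀ v ∈ W, Cfsg.sympForm d F u v = 0}
  set G := ↥(Matrix.symplecticGroup (Fin d) F)
  haveI : Finite (Submodule F (Fin d ⊕ Fin d → F)) :=
    Finite.of_injective (fun W => (W : Set (Fin d ⊕ Fin d → F))) SetLike.coe_injective
  haveI : Finite G := Finite.of_injective (fun g => (g.1 : Matrix (Fin d ⊕ Fin d) (Fin d ⊕ Fin d) F)) Subtype.val_injective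
  let L : G → Module.End F (Fin d ⊕ Fin d → F) := fun g => Matrix.toLin' g.1
  have hpres : ∀ (g : G) u v, Cfsg.sympForm d F (L g u) (L g v) = Cfsg.sympForm d F u v := fun g u v => by
    simp only [L, Matrix.toLin'_apply]
    exact mem_symplecticGroup_iff_preserves.1 g.2 u v
  have hinj : ∀ g : G, Function.Injective (L g) := fun g =>
    (sympBilin_goodForm (m := d) (F := F)).injective_of_preserves fun u v => by
      simp only [sympBilin_apply]; exact hpres g u v
  letI : MulAction G X :=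
    { smul := fun g W => ⟨W.1.map (L g),
        (Submodule.equivMapOfInjective (L g) (hinj g) W.1).finrank_eq.symm.trans W.2.1, by
        rintro _ ⟨u, hu, rfl⟩ _ ⟨v, hv, rfl⟩
        rw [hpres]; exact W.2.2 u hu v hv⟩
      one_smul := fun W => Subtype.ext (by
        show W.1.map (Matrix.toLin' (1 : Matrix (Fin d ⊕ Fin d) (Fin d ⊕ Fin d) F)) = W.1
        rw [Matrix.toLin'_one]; exact Submodule.map_id _)
      mul_smul := fun g g' W => Subtype.ext (by
        show W.1.map (Matrix.toLin' (g.1 * g'.1)) = (W.1.map (L g')).map (L g)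
        rw [Matrix.toLin'_mul]; exact Submodule.map_comp _ _ _) }
  by_cases hX : Nonempty X
  swap
  · intro _
    obtain ⟨A, -, hAi, hAd⟩ := exists_iso_sub (sympBilin_isAlt (m := d) (F := F)) sympBilin_goodForm
      (nd_top sympBilin_goodForm) (a := m) (by rw [finrank_top, finrank_std]; omega)
    exact hX ⟨⟨A, hAd, fun u hu v hv => by simpa using hAi u hu v hv⟩⟩
  obtain ⟨W₀⟩ := hX
  haveI : MulAction.IsPretransitive G X := ⟨fun W W' => by
    obtain ⟨f, hf, hfm, hfs⟩ := exists_frame W.1 W.2.1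
    obtain ⟨f', hf', hfm', hfs'⟩ := exists_frame W'.1 W'.2.1
    obtain ⟨e, he, hef⟩ := (sympBilin_goodForm (m := d) (F := F)).witt_family f f' hf hf' fun i j => by
      simp only [sympBilin_apply, W.2.2 _ (hfm i) _ (hfm j), W'.2.2 _ (hfm' i) _ (hfm' j)]
    refine ⟨spMk e (fun u v => by simpa using he u v), Subtype.ext ?_⟩
    show W.1.map (L _) = W'.1
    rw [show L (spMk e (fun u v => by simpa using he u v)) = (e : _ →ₗ[F] _) from
      LinearMap.ext fun v => by simp only [L, Matrix.toLin'_apply, spMk_mulVec]; rfl]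
    exact map_eq_of_frames e hef hfs hfs'⟩
  have hstab : (MulAction.stabilizer G W₀ : Subgroup G) =
      Cfsg.stabilizing (Cfsg.spToMat d F) (W₀.1 : Set (Fin d ⊕ Fin d → F)) := by
    ext g
    rw [mem_stabilizing_submodule_iff, MulAction.mem_stabilizer_iff, Subtype.ext_iff]
    constructor
    · intro h1 v hv
      rw [← h1]
      exact ⟨v, hv, Matrix.toLin'_apply _ _⟩
    · intro h1
      refine Submodule.eq_of_le_of_finrank_eq ?_ (Submodule.equivMapOfInjective (L g) (hinj g) W₀.1).finrank_eq.symm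
      rintro _ ⟨v, hv, rfl⟩
      show L g v ∈ W₀.1
      simp only [L, Matrix.toLin'_apply]
      exact h1 v hv
  have hG := Subgroup.card_mul_index (MulAction.stabilizer G W₀)
  rw [MulAction.index_stabilizer_of_transitive, hstab, Cfsg.Agent.S0775.result rfl d m hmd W₀.1 W₀.2.1 W₀.2.2,
    Cfsg.Agent.Lib.Classical.natCard_symplecticGroup, Nat.card_eq_fintype_card (α := F)] at hG
  set q := Fintype.card F
  have hq : 1 < q := Fintype.one_lt_card
  intro hdvd
  have hprime : p.Prime := Fact.out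
  obtain ⟨k, -, hk⟩ := FiniteField.card F p
  have hpq : p ∣ q := by show p ∣ Fintype.card F; rw [hk]; exact dvd_pow_self p k.ne_zero
  obtain ⟨a, ha⟩ : ∃ a, ∏ i : Fin m, (q ^ m - q ^ (i : ℕ)) = q ^ (m * (m - 1) / 2) * a := by
    refine ⟨∏ i ∈ Finset.range m, (q ^ (m - i) - 1), ?_⟩
    rw [Fin.prod_univ_eq_prod_range (fun i => q ^ m - q ^ i), ← Finset.sum_range_id, ← Finset.prod_pow_eq_pow_sum,
      ← Finset.prod_mul_distrib]
    refine Finset.prod_congr rfl fun i hi => ?_
    rw [Nat.mul_sub, mul_one, ← pow_add]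
    congr 2
    have := Finset.mem_range.1 hi
    omega
  have hexp : m * (m + 1) / 2 + 2 * m * (d - m) + (d - m) ^ 2 + m * (m - 1) / 2 = d ^ 2 := by
    obtain ⟨l, rfl⟩ : ∃ l, d = m + l := ⟨d - m, by omega⟩
    rw [Nat.add_sub_cancel_left]
    have h1 : m * (m + 1) / 2 + m * (m - 1) / 2 = m * m := by
      rcases m with _ | m
      · simp
      · obtain ⟨a, ha⟩ := Nat.even_mul_succ_self (m + 1)
        obtain ⟨b, hb⟩ := Nat.even_mul_succ_self m
        rw [ha, Nat.add_sub_cancel, mul_comm (m + 1) m, hb]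
        have : (m + 1) * (m + 1 + 1) + m * (m + 1) = 2 * ((m + 1) * (m + 1)) := by ring
        omega
    have h2 : (m + l) ^ 2 = m * m + 2 * m * l + l ^ 2 := by ring
    omega
  rw [ha, ← hexp] at hG
  set P1 := ∏ i ∈ Finset.range (d - m), (q ^ (2 * (i + 1)) - 1)
  set P2 := ∏ i ∈ Finset.range d, (q ^ (2 * (i + 1)) - 1) with hP2
  have hG2 : q ^ (m * (m + 1) / 2 + 2 * m * (d - m) + (d - m) ^ 2 + m * (m - 1) / 2) * (P1 * a * Nat.card X) =
      q ^ (m * (m + 1) / 2 + 2 * m * (d - m) + (d - m) ^ 2 + m * (m - 1) / 2) * P2 := by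
    rw [← hG, pow_add, pow_add _ (m * (m + 1) / 2 + 2 * m * (d - m))]; ring
  have hX : p ∣ P2 := (Nat.eq_of_mul_eq_mul_left (pow_pos (by omega) _) hG2) ▸ dvd_mul_of_dvd_right hdvd _
  rw [hP2] at hX
  obtain ⟨i, -, hi⟩ := (hprime.prime.dvd_finsetProd_iff _).1 hX
  have h1 : 1 ≤ q ^ (2 * (i + 1)) := Nat.one_le_pow _ _ (by omega)
  have h2 : p ∣ q ^ (2 * (i + 1)) := hpq.trans (dvd_pow_self q (by omega))
  have := Nat.dvd_sub h2 hi
  rw [show q ^ (2 * (i + 1)) - (q ^ (2 * (i + 1)) - 1) = 1 by omega] at this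
  exact hprime.ne_one (Nat.eq_one_of_dvd_one this)

end Cfsg.Agent.Lib.Elusive
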