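import Mathlib
import Cfsg.Agent.Lib.Elusive.HermWitness
import Cfsg.Agent.Lib.Elusive.ScalarBlocks
import Cfsg.Agent.Lib.Elusive.SympCounts
import Cfsg.Agent.S0782

/-! Totally isotropic subspaces of the unitary space: counts and diagonal witnesses. -/

set_option autoImplicit false
set_option linter.style.haveILetI false
set_option linter.unusedSectionVars false

namespace Cfsg.Agent.Lib.Elusive

open Module Cfsg.Agent.Lib.Forms

variable {F : Type*} [Field F] [Fintype F] {q n r : ℕ} (hF : Fintype.card F = q ^ 2)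
include hF

/-- The number of totally isotropic subspaces is prime to the characteristic. -/
theorem not_dvd_natCard_herm_iso_char {p : ℕ} [Fact p.Prime] [CharP F p] {m : ℕ} (hmn : 2 * m ≤ n) :
    ¬ p ∣ Nat.card {W : Submodule F (Fin n → F) //
      finrank F ↥W = m ∧ ∀ u ∈ W, ∀ v ∈ W, Cfsg.hermForm n F q u v = 0} := by
  classical
  set X := {W : Submodule F (Fin n → F) //
      finrank F ↥W = m ∧ ∀ u ∈ W, ∀ v ∈ W, Cfsg.hermForm n F q u v = 0}
  set G := ↥(Cfsg.GU n F q)
  haveI : Finite (Submodule F (Fin n → F)) :=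
    Finite.of_injective (fun W => (W : Set (Fin n → F))) SetLike.coe_injective
  haveI : Finite G := Finite.of_injective (fun g => (g.1 : Matrix (Fin n) (Fin n) F))
    fun a b hab => Subtype.ext (Units.ext hab)
  let L : G → Module.End F (Fin n → F) := fun g => Matrix.toLin' (g.1 : Matrix (Fin n) (Fin n) F)
  have hpres : ∀ (g : G) u v, Cfsg.hermForm n F q (L g u) (L g v) = Cfsg.hermForm n F q u v := fun g u v => by
    simp only [L, Matrix.toLin'_apply]
    exact g.2 u v
  have hinj : ∀ g : G, Function.Injective (L g) := fun g =>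
    (hermSesq_goodForm (n := n) hF).injective_of_preserves ((herm_pres_iff hF _).1 (hpres g))
  letI : MulAction G X :=
    { smul := fun g W => ⟨W.1.map (L g),
        (Submodule.equivMapOfInjective (L g) (hinj g) W.1).finrank_eq.symm.trans W.2.1, by
        rintro _ ⟨u, hu, rfl⟩ _ ⟨v, hv, rfl⟩
        rw [hpres]; exact W.2.2 u hu v hv⟩
      one_smul := fun W => Subtype.ext (by
        show W.1.map (Matrix.toLin' (1 : Matrix (Fin n) (Fin n) F)) = W.1
        rw [Matrix.toLin'_one]; exact Submodule.map_id _)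
      mul_smul := fun g g' W => Subtype.ext (by
        show W.1.map (Matrix.toLin' ((g.1 : Matrix (Fin n) (Fin n) F) * (g'.1 : Matrix (Fin n) (Fin n) F))) =
          (W.1.map (L g')).map (L g)
        rw [Matrix.toLin'_mul]; exact Submodule.map_comp _ _ _) }
  have h := hermSesq_goodForm (n := n) hF
  obtain ⟨A, -, hAi, hAd⟩ := exists_herm_iso_sub h (qPowHom_ne_id hF) (nd_top h) (a := m)
    (by rw [finrank_top, Module.finrank_fin_fun]; omega)
  let W₀ : X := ⟨A, hAd, fun u hu v hv => hAi v hv u hu⟩
  haveI : MulAction.IsPretransitive G X := ⟨fun W W' => by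
    obtain ⟨f, hf, hfm, hfs⟩ := exists_frame W.1 W.2.1
    obtain ⟨f', hf', hfm', hfs'⟩ := exists_frame W'.1 W'.2.1
    obtain ⟨e, he, hef⟩ := h.witt_family f f' hf hf' fun i j => by
      simp only [hermSesq_apply, W.2.2 _ (hfm j) _ (hfm i), W'.2.2 _ (hfm' j) _ (hfm' i)]
    let g : G := ⟨(glEquiv (Fin n) F).symm e, mem_preserving_iff.2 fun u v => by
      show Cfsg.hermForm n F q (((glEquiv (Fin n) F).symm e : Matrix (Fin n) (Fin n) F).mulVec u)
        (((glEquiv (Fin n) F).symm e : Matrix (Fin n) (Fin n) F).mulVec v) = _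
      rw [glEquiv_symm_mulVec, glEquiv_symm_mulVec]
      exact (herm_pres_iff hF (e : (Fin n → F) →ₗ[F] (Fin n → F))).2 he u v⟩
    refine ⟨g, Subtype.ext ?_⟩
    show W.1.map (L g) = W'.1
    rw [show L g = (e : _ →ₗ[F] _) from
      LinearMap.ext fun v => by simp only [L, Matrix.toLin'_apply]; exact glEquiv_symm_mulVec e v]
    exact map_eq_of_frames e hef hfs hfs'⟩
  have hstab : (MulAction.stabilizer G W₀ : Subgroup G) =
      (Cfsg.stabilizing (Cfsg.glToMat (Fin n) F) (W₀.1 : Set (Fin n → F))).subgroupOf (Cfsg.GU n F q) := by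
    ext g
    rw [Subgroup.mem_subgroupOf, mem_stabilizing_submodule_iff, MulAction.mem_stabilizer_iff, Subtype.ext_iff]
    constructor
    · intro h1 v hv
      rw [← h1]
      exact ⟨v, hv, Matrix.toLin'_apply _ _⟩
    · intro h1
      refine Submodule.eq_of_le_of_finrank_eq ?_ (Submodule.equivMapOfInjective (L g) (hinj g) W₀.1).finrank_eq.symm
      rintro _ ⟨v, hv, rfl⟩
      show L g v ∈ W₀.1
      simp only [L, Matrix.toLin'_apply]
      exact h1 v hv
  have hG := Subgroup.card_mul_index (MulAction.stabilizer G W₀)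
  rw [MulAction.index_stabilizer_of_transitive, hstab, Cfsg.Agent.S0782.gu_stab_card hF n m hmn W₀.1 W₀.2.1 W₀.2.2,
    Cfsg.Agent.Lib.Classical.natCard_GU hF] at hG
  have hq := two_le_of_card_sq hF
  intro hdvd
  have hprime : p.Prime := Fact.out
  obtain ⟨e₀, he₀, hqe⟩ := exists_prime_pow_q (p := p) hF
  have hpq : p ∣ q := by rw [hqe]; exact dvd_pow_self p (by omega)
  obtain ⟨a, ha⟩ : ∃ a, ∏ i : Fin m, ((q ^ 2) ^ m - (q ^ 2) ^ (i : ℕ)) = q ^ (m * (m - 1)) * a := by
    refine ⟨∏ i ∈ Finset.range m, ((q ^ 2) ^ (m - i) - 1), ?_⟩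
    rw [Fin.prod_univ_eq_prod_range (fun i => (q ^ 2) ^ m - (q ^ 2) ^ i), ← Finset.sum_range_id_mul_two,
      mul_comm (∑ i ∈ Finset.range m, i) 2, pow_mul, ← Finset.prod_pow_eq_pow_sum, ← Finset.prod_mul_distrib]
    refine Finset.prod_congr rfl fun i hi => ?_
    rw [Nat.mul_sub, mul_one, ← pow_add]
    congr 2
    have := Finset.mem_range.1 hi
    omega
  have hexp : n * (n - 1) / 2
      = m * (2 * n - 3 * m) + m * (m - 1) + (n - 2 * m) * (n - 2 * m - 1) / 2 := by
    obtain ⟨l, rfl⟩ : ∃ l, n = 2 * m + l := ⟨n - 2 * m, by omega⟩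
    rw [Nat.add_sub_cancel_left, show 2 * (2 * m + l) - 3 * m = m + 2 * l by omega]
    obtain ⟨c, hc⟩ := Nat.even_mul_pred_self l
    have key : (2 * m + l) * (2 * m + l - 1) = 2 * (m * (m + 2 * l)) + l * (l - 1) + 2 * (m * (m - 1)) := by
      rcases m with _ | m
      · simp
      · rcases l with _ | l
        · simp only [Nat.add_sub_cancel, add_zero, mul_zero, Nat.zero_sub]
          rw [show 2 * (m + 1) - 1 = 2 * m + 1 by omega]; ring
        · simp only [Nat.add_sub_cancel]
          rw [show 2 * (m + 1) + (l + 1) - 1 = 2 * m + l + 2 by omega]; ring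
    rw [key, hc]
    omega
  rw [ha, hexp, pow_add, pow_add] at hG
  set P1 := ∏ i ∈ Finset.range (n - 2 * m), (if Even i then q ^ (i + 1) + 1 else q ^ (i + 1) - 1)
  set P2 := ∏ i ∈ Finset.range n, (if Even i then q ^ (i + 1) + 1 else q ^ (i + 1) - 1) with hP2
  have hG2 : q ^ (m * (2 * n - 3 * m)) * q ^ (m * (m - 1)) * q ^ ((n - 2 * m) * (n - 2 * m - 1) / 2) *
      (P1 * a * Nat.card X) =
      q ^ (m * (2 * n - 3 * m)) * q ^ (m * (m - 1)) * q ^ ((n - 2 * m) * (n - 2 * m - 1) / 2) * P2 := by
    rw [← hG]; ring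
  have hpos : 0 < q ^ (m * (2 * n - 3 * m)) * q ^ (m * (m - 1)) * q ^ ((n - 2 * m) * (n - 2 * m - 1) / 2) :=
    Nat.mul_pos (Nat.mul_pos (pow_pos (by omega) _) (pow_pos (by omega) _)) (pow_pos (by omega) _)
  have hX : p ∣ P2 := (Nat.eq_of_mul_eq_mul_left hpos hG2) ▸ dvd_mul_of_dvd_right hdvd _
  rw [hP2] at hX
  obtain ⟨i, -, hi⟩ := (hprime.prime.dvd_finsetProd_iff _).1 hX
  have h1 : 1 ≤ q ^ (i + 1) := Nat.one_le_pow _ _ (by omega)
  have h2 : p ∣ q ^ (i + 1) := hpq.trans (dvd_pow_self q (by omega))
  split_ifs at hi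
  · have := Nat.dvd_sub hi h2
    rw [Nat.add_sub_cancel_left] at this
    exact hprime.ne_one (Nat.eq_one_of_dvd_one this)
  · have := Nat.dvd_sub h2 hi
    rw [show q ^ (i + 1) - (q ^ (i + 1) - 1) = 1 by omega] at this
    exact hprime.ne_one (Nat.eq_one_of_dvd_one this)

/-- A diagonal element of odd prime order with few fixed totally isotropic subspaces. -/
theorem exists_diag_witness (hr : r.Prime) (hr2 : r ≠ 2) (hrq : r ∣ q + 1) (hn : 2 ≤ n) {m : ℕ} (hm : 1 ≤ m)
    (hlt : n < r - 1 + 2 * m) :
    ∃ f : Module.End F (Fin n → F), LinearMap.det f = 1 ∧ f ^ r = 1 ∧ (∀ c : F, f ≠ c • 1) ∧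
      (∀ u v, hermSesq hF n (f u) (f v) = hermSesq hF n u v) ∧
      ∀ W : Submodule F (Fin n → F), Inv f W → Iso (hermSesq hF n) W → finrank F ↥W < m := by
  classical
  haveI : Fact r.Prime := ⟨hr⟩
  obtain ⟨ω, hω1, hωr, hωk⟩ := exists_root_norm hF hr hrq
  have hodd : Odd r := hr.odd_of_ne_two hr2
  have h2r : (2 : ZMod r) ≠ 0 := fun h0 => by
    have h1 : r ∣ 2 := (ZMod.natCast_eq_zero_iff 2 r).1 (by exact_mod_cast h0)
    exact hr2 ((Nat.prime_dvd_prime_iff_eq hr Nat.prime_two).1 h1)
  -- the exponents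
  obtain ⟨e, hsum, hne, hcnt⟩ : ∃ e : Fin n → ZMod r, ∑ a, e a = 0 ∧ (∃ a a', e a ≠ e a') ∧
      ∑ x : ZMod r, (Finset.univ.filter fun a => e a = x).card / 2 < m := by
    have hcast : ∀ a b : ℕ, a < r → b < r → (a : ZMod r) = (b : ZMod r) → a = b := fun a b ha hb hab => by
      rwa [ZMod.natCast_eq_natCast_iff', Nat.mod_eq_of_lt ha, Nat.mod_eq_of_lt hb] at hab
    by_cases hnr : n < r
    · refine ⟨fun a => ((2 * (a : ℕ) + 1 : ℕ) : ZMod r) - (n : ZMod r), ?_, ⟨⟨0, by omega⟩, ⟨1, by omega⟩, ?_⟩, ?_⟩
      · rw [Finset.sum_sub_distrib, ← Nat.cast_sum, Finset.sum_const, Finset.card_univ, Fintype.card_fin,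
          Fin.sum_univ_eq_sum_range (fun a => 2 * a + 1), Finset.sum_add_distrib, ← Finset.mul_sum, mul_comm 2,
          Finset.sum_range_id_mul_two, Finset.sum_const, Finset.card_range, smul_eq_mul, mul_one,
          show n * (n - 1) + n = n * n by
            rcases n with _ | n
            · rfl
            · rw [Nat.add_sub_cancel]; ring,
          nsmul_eq_mul, Nat.cast_mul, sub_self]
      · intro h0
        rw [sub_left_inj] at h0
        simp only [mul_zero, zero_add, mul_one, Nat.cast_one, Nat.cast_ofNat, Nat.reduceAdd] at h0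
        exact h2r (by linear_combination -h0)
      · refine lt_of_eq_of_lt (Finset.sum_eq_zero fun x _ => ?_) hm
        have : (Finset.univ.filter fun a : Fin n => ((2 * (a : ℕ) + 1 : ℕ) : ZMod r) - (n : ZMod r) = x).card ≤ 1 := by
          refine Finset.card_le_one.2 fun a ha b hb => Fin.ext (hcast _ _ (by omega) (by omega) ?_)
          simp only [Finset.mem_filter, Finset.mem_univ, true_and] at ha hb
          have h1 := ha.trans hb.symm
          push_cast at h1
          have h3 : (2 : ZMod r) * (((a : ℕ) : ZMod r) - ((b : ℕ) : ZMod r)) = 0 := by linear_combination h1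
          exact sub_eq_zero.1 ((mul_eq_zero.1 h3).resolve_left h2r)
        beta_reduce
        omega
    · push Not at hnr
      let e : Fin n → ZMod r := fun a => if (a : ℕ) < r then ((a : ℕ) : ZMod r) else 0
      refine ⟨e, ?_, ⟨⟨0, by omega⟩, ⟨1, by omega⟩, ?_⟩, ?_⟩
      · rw [Fin.sum_univ_eq_sum_range (fun a => if a < r then (a : ZMod r) else 0), ← Finset.sum_filter,
          show (Finset.range n).filter (· < r) = Finset.range r by
            ext a; simp only [Finset.mem_filter, Finset.mem_range]; omega, ← Nat.cast_sum]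
        have h1 : ((∑ a ∈ Finset.range r, a : ℕ) : ZMod r) * 2 = 0 := by
          have := congrArg (fun x : ℕ => (x : ZMod r)) (Finset.sum_range_id_mul_two r)
          simpa using this
        exact (mul_eq_zero.1 h1).resolve_right h2r
      · have := hr.two_le
        simp only [e]
        rw [if_pos (by omega), if_pos (by omega)]
        intro h0
        exact zero_ne_one (hcast 0 1 (by omega) (by omega) h0)
      · rw [← Finset.sum_erase_add _ _ (Finset.mem_univ (0 : ZMod r)), Finset.sum_eq_zero fun x hx => ?_, zero_add]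
        · have hle : (Finset.univ.filter fun a => e a = 0).card ≤ n - r + 1 := by
            have hsub : (Finset.univ.filter fun a => e a = 0) ⊆
                Finset.univ.filter fun a : Fin n => (a : ℕ) = 0 ∨ r ≤ (a : ℕ) := fun a ha => by
              simp only [Finset.mem_filter, Finset.mem_univ, true_and, e] at ha ⊢
              by_cases h : (a : ℕ) < r
              · rw [if_pos h] at ha
                exact Or.inl (hcast _ 0 h hr.pos (by rw [ha, Nat.cast_zero]))
              · exact Or.inr (by omega)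
            refine (Finset.card_le_card hsub).trans ?_
            rw [← Finset.card_map Fin.valEmbedding]
            refine (Finset.card_le_card (t := insert 0 (Finset.Ico r n)) fun a ha => ?_).trans
              ((Finset.card_insert_le _ _).trans (by rw [Nat.card_Ico]))
            simp only [Finset.mem_map, Finset.mem_filter, Finset.mem_univ, true_and, Fin.valEmbedding_apply] at ha
            obtain ⟨b, hb, rfl⟩ := ha
            simp only [Finset.mem_insert, Finset.mem_Ico]
            have := b.2
            omega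
          have := hr.two_le
          omega
        · have hx0 := Finset.ne_of_mem_erase hx
          have : (Finset.univ.filter fun a => e a = x).card ≤ 1 := by
            refine Finset.card_le_one.2 fun a ha b hb => ?_
            simp only [Finset.mem_filter, Finset.mem_univ, true_and, e] at ha hb
            have hlta : (a : ℕ) < r := by
              by_contra h; rw [if_neg h] at ha; exact hx0 ha.symm
            have hltb : (b : ℕ) < r := by
              by_contra h; rw [if_neg h] at hb; exact hx0 hb.symm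
            rw [if_pos hlta] at ha
            rw [if_pos hltb] at hb
            exact Fin.ext (hcast _ _ hlta hltb (ha.trans hb.symm))
          omega
  -- powers of `ω`
  have hval : ∀ x y : ZMod r, ω ^ x.val * ω ^ y.val = ω ^ (x + y).val := fun x y => by
    rw [← pow_add, ZMod.val_add, ← pow_eq_pow_mod _ hωr]
  have hinj : ∀ x : ZMod r, ω ^ x.val = 1 → x = 0 := fun x hx => by
    rw [hωk] at hx
    rw [← ZMod.natCast_zmod_val x, (ZMod.natCast_eq_zero_iff _ _).2 hx]
  let w : Fin n → F := fun a => ω ^ (e a).val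
  have hrF : (r : F) ≠ 0 := fun h0 => by
    obtain ⟨p, hp⟩ := CharP.exists F
    haveI : Fact p.Prime := ⟨CharP.char_is_prime F p⟩
    obtain ⟨e₀, he₀, hqe⟩ := exists_prime_pow_q (p := p) hF
    have h1 : p = r := (Nat.prime_dvd_prime_iff_eq Fact.out hr).1 ((CharP.cast_eq_zero_iff F p r).1 h0)
    have h2 : r ∣ q := by rw [hqe, h1]; exact dvd_pow_self r (by omega)
    have := Nat.dvd_sub hrq h2
    rw [Nat.add_sub_cancel_left] at this
    exact hr.ne_one (Nat.dvd_one.1 this)
  refine ⟨diagEnd w, ?_, ?_, fun c hc => ?_, diagEnd_pres hF w fun a => ?_, fun W hW hiso => ?_⟩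
  · rw [det_diagEnd, Finset.prod_pow_eq_pow_sum, hωk, ← ZMod.natCast_eq_zero_iff, Nat.cast_sum]
    simp only [ZMod.natCast_zmod_val]
    exact hsum
  · rw [diagEnd_pow]
    refine LinearMap.ext fun v => funext fun a => ?_
    show (ω ^ (e a).val) ^ r * v a = v a
    rw [← pow_mul, mul_comm (e a).val, pow_mul, hωr, one_pow, one_mul]
  · obtain ⟨a, a', haa⟩ := hne
    have hwc : ∀ b, w b = c := fun b => by
      have h1 := congrFun (LinearMap.congr_fun hc (Pi.single b 1)) b
      simpa [diagEnd] using h1
    apply haa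
    rw [← sub_eq_zero]
    refine hinj _ ?_
    have h1 := hval (e a - e a') (e a')
    rw [sub_add_cancel, show ω ^ (e a').val = c from hwc a', show ω ^ (e a).val = c from hwc a] at h1
    refine mul_right_cancel₀ ?_ (h1.trans (one_mul c).symm)
    rw [← hwc a]
    exact pow_ne_zero _ fun h0 => by rw [h0, zero_pow hr.ne_zero] at hωr; exact zero_ne_one hωr
  · show (ω ^ (e a).val) ^ (q + 1) = 1
    rw [← pow_mul, mul_comm, pow_mul, hω1, one_pow]
  · -- eigen components of `W`
    let Ex : ZMod r → Submodule F (Fin n → F) := fun x =>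
      { carrier := {v | ∀ a, e a ≠ x → v a = 0}
        add_mem' := fun hu hv a ha => by rw [Pi.add_apply, hu a ha, hv a ha, add_zero]
        zero_mem' := fun a _ => rfl
        smul_mem' := fun c v hv a ha => by rw [Pi.smul_apply, hv a ha, smul_zero] }
    let Px : ZMod r → ((Fin n → F) →ₗ[F] (Fin n → F)) := fun x => diagEnd fun a => if e a = x then 1 else 0
    have hPW : ∀ x, ∀ v ∈ W, Px x v ∈ W := by
      intro x v hv
      have h1 : Px x v = (r : F)⁻¹ • ∑ k ∈ Finset.range r, (ω ^ (-x).val) ^ k • (diagEnd w ^ k) v := by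
        funext a
        simp only [Pi.smul_apply, Finset.sum_apply, smul_eq_mul, diagEnd_pow]
        show (if e a = x then (1 : F) else 0) * v a = _
        have h2 : ∀ k : ℕ, (ω ^ (-x).val) ^ k * ((w a) ^ k * v a) = (ω ^ (e a - x).val) ^ k * v a := fun k => by
          rw [← mul_assoc, ← mul_pow, show w a = ω ^ (e a).val from rfl, hval, neg_add_eq_sub]
        rw [Finset.sum_congr rfl fun k _ => (show (ω ^ (-x).val) ^ k * ((diagEnd fun a => w a ^ k) v a) = (ω ^ (e a - x).val) ^ k * v a from h2 k), ← Finset.sum_mul,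
          ← mul_assoc]
        congr 1
        split_ifs with hx
        · rw [hx, sub_self, ZMod.val_zero, pow_zero]
          simp [hrF]
        · have hne1 : ω ^ (e a - x).val ≠ 1 := fun h0 => hx (sub_eq_zero.1 (hinj _ h0))
          rw [geom_sum_eq hne1, ← pow_mul, mul_comm (e a - x).val, pow_mul, hωr, one_pow, sub_self, zero_div,
            mul_zero]
      rw [h1]
      exact W.smul_mem _ (W.sum_mem fun k _ => W.smul_mem _ (inv_pow hW k v hv))
    have hPE : ∀ x v, Px x v ∈ Ex x := fun x v a ha => by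
      show (if e a = x then (1 : F) else 0) * v a = 0
      rw [if_neg ha, zero_mul]
    let Φ : ↥W →ₗ[F] (∀ x : ZMod r, ↥(W ⊓ Ex x)) :=
      LinearMap.pi fun x => ((Px x).comp W.subtype).codRestrict _ fun v => ⟨hPW x v v.2, hPE x v⟩
    have hΦ : Function.Injective Φ := fun u v huv => Subtype.ext (funext fun a => by
      have h1 := congrFun (congrArg Subtype.val (congrFun huv (e a))) a
      change (if e a = e a then (1 : F) else 0) * u.1 a = (if e a = e a then (1 : F) else 0) * v.1 a at h1
      rwa [if_pos rfl, one_mul, one_mul] at h1)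
    refine lt_of_le_of_lt ((LinearMap.finrank_le_finrank_of_injective hΦ).trans ?_) hcnt
    rw [Module.finrank_pi_fintype]
    refine Finset.sum_le_sum fun x _ => ?_
    have hnd : Nd (hermSesq hF n) (Ex x) := fun u hu hz => funext fun a => by
      by_cases ha : e a = x
      · have h1 := hz (Pi.single a 1) (fun b hb => Pi.single_eq_of_ne (fun h => hb (by rw [h]; exact ha)) _)
        simp [Cfsg.hermForm, Pi.single_apply] at h1
        exact h1.1
      · exact hu a ha
    have h1 := iso_finrank_le (hermSesq_goodForm hF) hnd (inf_le_right : W ⊓ Ex x ≤ _) (hiso.mono inf_le_left)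
    have h2 : finrank F ↥(Ex x) ≤ (Finset.univ.filter fun a => e a = x).card := by
      let Ψ : ↥(Ex x) →ₗ[F] ({a // e a = x} → F) := LinearMap.pi fun a => (LinearMap.proj a.1).comp (Ex x).subtype
      have hΨ : Function.Injective Ψ := fun u v huv => Subtype.ext (funext fun a => by
        by_cases ha : e a = x
        · exact congrFun huv ⟨a, ha⟩
        · rw [u.2 a ha, v.2 a ha])
      refine (LinearMap.finrank_le_finrank_of_injective hΨ).trans ?_
      rw [Module.finrank_fintype_fun_eq_card, Fintype.card_subtype]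
    omega

end Cfsg.Agent.Lib.Elusive
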