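import Mathlib
import Cfsg.Agent.Lib.Elusive.Scalar

/-! Elements of prime order on subspaces, complementary pairs and flags. -/

set_option autoImplicit false

namespace Cfsg.Agent.Lib.Elusive

open Module

variable {F : Type*} [Field F] [Fintype F] {V : Type*} [AddCommGroup V] [Module F V] [FiniteDimensional F V]
  {r : ℕ}

theorem split_choice {m c R n0 i : ℕ} (hi : 0 < i) (hc : c % i = n0) (hn0 : n0 < i) (hmn : m ≤ c + R * i)
    (hl : m % i ≤ n0) :
    ∃ l e, l ≤ c ∧ e ≤ R ∧ l + e * i = m := by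
  have h1 : n0 ≤ c := hc ▸ Nat.mod_le c i
  rcases le_or_gt (m / i) R with h | h
  · exact ⟨m % i, m / i, hl.trans h1, h, by rw [mul_comm]; exact Nat.mod_add_div m i⟩
  · have h2 : R * i ≤ m := le_trans (Nat.mul_le_mul_right i h.le) (Nat.div_mul_le_self m i)
    exact ⟨m - R * i, R, by omega, le_rfl, by omega⟩

theorem split_choice₂ {m c R n0 i : ℕ} (hc : c % i = n0) (hmn : 2 * m < c + R * i) (hl : 2 * (m % i) ≤ n0) :
    ∃ l e l' e', l + l' ≤ c ∧ e + e' ≤ R ∧ l + e * i = m ∧ l' + e' * i = m := by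
  have h1 : n0 ≤ c := hc ▸ Nat.mod_le c i
  have hdm := Nat.mod_add_div m i
  rw [mul_comm] at hdm
  rcases le_or_gt (2 * (m / i)) R with h | h
  · exact ⟨m % i, m / i, m % i, m / i, by omega, by omega, hdm, hdm⟩
  · have a1 : R / 2 * i ≤ m := le_trans (Nat.mul_le_mul_right i (by omega : R / 2 ≤ m / i)) (Nat.div_mul_le_self m i)
    have a2 : (R - R / 2) * i ≤ m :=
      le_trans (Nat.mul_le_mul_right i (by omega : R - R / 2 ≤ m / i)) (Nat.div_mul_le_self m i)
    have a3 : R / 2 * i + (R - R / 2) * i = R * i := by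
      rw [← add_mul]; congr 1; omega
    exact ⟨m - R / 2 * i, R / 2, m - (R - R / 2) * i, R - R / 2, by omega, by omega, by omega, by omega⟩

variable [Finite V]

theorem fix1_data {y : Module.End F V} (hr : r.Prime) (hrF : (r : F) ≠ 0) (hy : y ^ r = 1) :
    ∃ R, finrank F ↥(LinearMap.ker (avg y r)) = R * orderOf (Fintype.card F : ZMod r) ∧
      finrank F ↥(fix1 y) + R * orderOf (Fintype.card F : ZMod r) = finrank F V ∧
      finrank F ↥(fix1 y) % orderOf (Fintype.card F : ZMod r) = finrank F V % orderOf (Fintype.card F : ZMod r) := by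
  obtain ⟨R, hR⟩ := dvd_finrank_of_le_ker hr hrF hy inv_ker_avg le_rfl
  rw [mul_comm] at hR
  have h := finrank_fix1_add hy hrF
  rw [hR] at h
  exact ⟨R, hR, h, by rw [← h, Nat.add_mul_mod_self_right]⟩

/-- Existence of nested invariant subspaces when `y ^ r = 1` and `ord_r q = 1`. -/
theorem exists_inv_one (hr : r.Prime) (hrF : (r : F) ≠ 0) (hi : orderOf (Fintype.card F : ZMod r) = 1)
    {y : Module.End F V} (hy : y ^ r = 1) {m m' : ℕ} (hm : m ≤ m') (hm' : m' ≤ finrank F V) :
    ∃ U W : Submodule F V, Inv y U ∧ Inv y W ∧ U ≤ W ∧ finrank F ↥U = m ∧ finrank F ↥W = m' := by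
  obtain ⟨R, h1, h2, -⟩ := fix1_data hr hrF hy
  rw [hi] at h1 h2
  set c := finrank F ↥(fix1 y)
  obtain ⟨U, W, h, h', h'', hU, hW⟩ := exists_inv_nested hr hrF hy (l := min m c) (l' := min m' c)
    (e := m - min m c) (e' := m' - min m' c) (by omega) (by omega) (by omega) (by rw [hi, h1]; omega)
  exact ⟨U, W, h, h', h'', by rw [hU, hi]; omega, by rw [hW, hi]; omega⟩

theorem nested_iff_arith (hr : r.Prime) (hrF : (r : F) ≠ 0) {y : Module.End F V} (hy : y ^ r = 1)
    {m m' : ℕ} (h : ∃ U W : Submodule F V, Inv y U ∧ Inv y W ∧ U ≤ W ∧ finrank F ↥U = m ∧ finrank F ↥W = m') :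
    ∃ l l' e e', l ≤ l' ∧ l' ≤ finrank F ↥(fix1 y) ∧ l + e * orderOf (Fintype.card F : ZMod r) = m ∧
      l' + e' * orderOf (Fintype.card F : ZMod r) = m' := by
  obtain ⟨U, W, hU, hW, hle, rfl, rfl⟩ := h
  obtain ⟨e, -, he⟩ := exists_decomp_finrank hr hrF hy hU
  obtain ⟨e', -, he'⟩ := exists_decomp_finrank hr hrF hy hW
  exact ⟨_, _, e, e', Submodule.finrank_mono (inf_le_inf_right _ hle),
    Submodule.finrank_mono inf_le_right, he, he'⟩

/-- Subspaces: the case `ord_r q ≥ 2`. -/
theorem forall_exists_inv_iff (hr : r.Prime) (hrF : (r : F) ≠ 0) (hi2 : 2 ≤ orderOf (Fintype.card F : ZMod r))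
    {m : ℕ} (hmn : 2 * m ≤ finrank F V) (hd : r ∣ numSub F V m) :
    (∀ y : Module.End F V, y ^ r = 1 → y ≠ 1 → ∃ W : Submodule F V, finrank F ↥W = m ∧ Inv y W) ↔
      (orderOf (Fintype.card F : ZMod r) ≤ m ∧
        m % orderOf (Fintype.card F : ZMod r) ≤ finrank F V % orderOf (Fintype.card F : ZMod r)) := by
  have hlt : m < (orderOf (Fintype.card F : ZMod r)) → finrank F V % (orderOf (Fintype.card F : ZMod r)) < m := fun h => mod_lt_of_dvd_numSub F V hr (by omega) h hd
  have hin : (orderOf (Fintype.card F : ZMod r)) ≤ finrank F V := by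
    by_contra h
    have := hlt (by omega)
    rw [Nat.mod_eq_of_lt (by omega)] at this
    omega
  constructor
  · intro h
    obtain ⟨y, hy, hy1, hc⟩ := exists_min_fixed hr hrF hi2 hin
    obtain ⟨W, hWd, hW⟩ := h y hy hy1
    obtain ⟨l, l', e, e', hll, hl', he, -⟩ := nested_iff_arith hr hrF hy ⟨W, W, hW, hW, le_rfl, hWd, hWd⟩
    rw [hc] at hl'
    have hlm : m % (orderOf (Fintype.card F : ZMod r)) = l := by
      rw [← he, Nat.add_mul_mod_self_right, Nat.mod_eq_of_lt]
      have := Nat.mod_lt (finrank F V) (show (orderOf (Fintype.card F : ZMod r)) > 0 by omega)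
      omega
    refine ⟨?_, by omega⟩
    by_contra hlt'
    have := hlt (by omega)
    rw [Nat.mod_eq_of_lt (by omega)] at hlm
    omega
  · rintro ⟨-, hle⟩ y hy -
    obtain ⟨R, hR, hsum, hmod⟩ := fix1_data hr hrF hy
    obtain ⟨l, e, hl, he, hle'⟩ := split_choice (m := m) (c := finrank F ↥(fix1 y)) (R := R)
      (by omega : 0 < (orderOf (Fintype.card F : ZMod r))) hmod (Nat.mod_lt _ (by omega)) (by rw [hsum]; omega) hle
    obtain ⟨U, W, hU, -, -, hUd, -⟩ := exists_inv_nested hr hrF hy (l := l) (l' := l) (e := e) (e' := e)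
      le_rfl le_rfl hl (by rw [hR]; exact Nat.mul_le_mul_right (orderOf (Fintype.card F : ZMod r)) he)
    exact ⟨U, by rw [hUd]; exact hle', hU⟩

/-- Flags: the case `ord_r q ≥ 2`. -/
theorem forall_exists_flag_iff (hr : r.Prime) (hrF : (r : F) ≠ 0) (hi2 : 2 ≤ orderOf (Fintype.card F : ZMod r))
    {m : ℕ} (hmn : 2 * m < finrank F V) (hd : r ∣ numFlag F V m (finrank F V - m)) :
    (∀ y : Module.End F V, y ^ r = 1 → y ≠ 1 → ∃ U W : Submodule F V, Inv y U ∧ Inv y W ∧ U ≤ W ∧
        finrank F ↥U = m ∧ finrank F ↥W = finrank F V - m) ↔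
      (orderOf (Fintype.card F : ZMod r) ≤ m ∧
        2 * (m % orderOf (Fintype.card F : ZMod r)) ≤ finrank F V % orderOf (Fintype.card F : ZMod r)) := by
  have hlt : m < (orderOf (Fintype.card F : ZMod r)) → finrank F V % (orderOf (Fintype.card F : ZMod r)) < m ∨ (finrank F V - m) % (orderOf (Fintype.card F : ZMod r)) < m := by
    intro h
    obtain ⟨W, hW, he⟩ := exists_numFlag_eq F V m (finrank F V - m) (by omega)
    rw [he, hr.dvd_mul, ← numSub_symm F V (by omega : m ≤ finrank F V)] at hd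
    rcases hd with h1 | h1
    · exact Or.inl (mod_lt_of_dvd_numSub F V hr (by omega) h h1)
    · have := mod_lt_of_dvd_numSub F ↥W hr (by omega) h h1
      rw [hW] at this
      exact Or.inr this
  have hkey : m < (orderOf (Fintype.card F : ZMod r)) → finrank F V % (orderOf (Fintype.card F : ZMod r)) < 2 * m := by
    intro h
    rcases hlt h with h' | h'
    · omega
    · have e1 := Nat.add_mod (finrank F V - m) m (orderOf (Fintype.card F : ZMod r))
      rw [Nat.sub_add_cancel (by omega), Nat.mod_eq_of_lt h] at e1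
      rw [e1]
      exact lt_of_le_of_lt (Nat.mod_le _ _) (by omega)
  have hin : (orderOf (Fintype.card F : ZMod r)) ≤ finrank F V := by
    by_contra h
    have := hkey (by omega)
    rw [Nat.mod_eq_of_lt (by omega)] at this
    omega
  constructor
  · intro h
    obtain ⟨y, hy, hy1, hc⟩ := exists_min_fixed hr hrF hi2 hin
    obtain ⟨l, l', e, e', hll, hl', he, he'⟩ := nested_iff_arith hr hrF hy (h y hy hy1)
    rw [hc] at hl'
    have hb := Nat.mod_lt (finrank F V) (show (orderOf (Fintype.card F : ZMod r)) > 0 by omega)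
    have hlm : m % (orderOf (Fintype.card F : ZMod r)) = l := by rw [← he, Nat.add_mul_mod_self_right, Nat.mod_eq_of_lt (by omega)]
    have hsum : finrank F V % (orderOf (Fintype.card F : ZMod r)) = (l + l') % (orderOf (Fintype.card F : ZMod r)) := by
      rw [show finrank F V = (l + l') + (e + e') * (orderOf (Fintype.card F : ZMod r)) by rw [add_mul]; omega, Nat.add_mul_mod_self_right]
    have h2 : 2 * l ≤ finrank F V % (orderOf (Fintype.card F : ZMod r)) := by
      rcases lt_or_ge (l + l') (orderOf (Fintype.card F : ZMod r)) with h3 | h3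
      · rw [Nat.mod_eq_of_lt h3] at hsum; omega
      · rw [Nat.mod_eq_sub_mod h3, Nat.mod_eq_of_lt (show l + l' - (orderOf (Fintype.card F : ZMod r)) < (orderOf (Fintype.card F : ZMod r)) by omega)] at hsum; omega
    refine ⟨?_, by omega⟩
    by_contra hlt'
    have := hkey (by omega)
    rw [Nat.mod_eq_of_lt (by omega)] at hlm
    omega
  · rintro ⟨-, hle⟩ y hy -
    obtain ⟨R, hR, hsum, hmod⟩ := fix1_data hr hrF hy
    obtain ⟨l, e, l', e', h1, h2, h3, h4⟩ := split_choice₂ (m := m) (c := finrank F ↥(fix1 y)) (R := R)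
      hmod (by rw [hsum]; omega) hle
    obtain ⟨U, W, hU, hW, hUW, hUd, hWd⟩ := exists_inv_nested hr hrF hy (l := l)
      (l' := finrank F ↥(fix1 y) - l') (e := e) (e' := R - e') (by omega) (by omega) (by omega)
      (by rw [hR]; exact Nat.mul_le_mul_right (orderOf (Fintype.card F : ZMod r)) (Nat.sub_le _ _))
    refine ⟨U, W, hU, hW, hUW, by rw [hUd]; exact h3, ?_⟩
    have : (R - e') * (orderOf (Fintype.card F : ZMod r)) + e' * (orderOf (Fintype.card F : ZMod r)) = R * (orderOf (Fintype.card F : ZMod r)) := by rw [← add_mul, Nat.sub_add_cancel (by omega)]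
    rw [hWd]; omega

end Cfsg.Agent.Lib.Elusive
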