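import Mathlib
import Cfsg.Prelude.Def_GeometricClasses
import Cfsg.Agent.Lib.Elusive.Scalar
import Cfsg.Agent.Lib.Elusive.LinearActions

/-! Semisimple elements of prime order permuting a decomposition into subspaces of equal dimension. -/

set_option autoImplicit false
set_option linter.style.haveILetI false

namespace Cfsg.Agent.Lib.Elusive

open Module

variable {F : Type*} [Field F] {V : Type*} [AddCommGroup V] [Module F V]

/-- `f` permutes some spanning family of `a`-dimensional subspaces indexed by `Fin t`, with `a * t = dim V`. -/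
def Permutes (f : Module.End F V) (a t : ℕ) : Prop :=
  ∃ D : Fin t → Submodule F V, (∀ j, finrank F ↥(D j) = a) ∧ iSup D = ⊤ ∧
    ∃ σ : Equiv.Perm (Fin t), ∀ j, (D j).map f = D (σ j)

theorem permutes_zero (f : Module.End F V) [FiniteDimensional F V] (a : ℕ) (h : finrank F V = 0) :
    Permutes f a 0 := by
  haveI : Subsingleton V := Module.finrank_zero_iff.1 h
  exact ⟨Fin.elim0, fun j => j.elim0, Subsingleton.elim _ _, 1, fun j => j.elim0⟩

theorem permutes_smul_iff {d : F} (hd : d ≠ 0) (f : Module.End F V) (a t : ℕ) :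
    Permutes (d • f) a t ↔ Permutes f a t :=
  exists_congr fun D => and_congr_right fun _ => and_congr_right fun _ => exists_congr fun σ =>
    forall_congr' fun j => by rw [Submodule.map_smul f _ d hd]

theorem permutes_glue {f : Module.End F V} {U W : Submodule F V} (hc : IsCompl U W) (hU : Inv f U) (hW : Inv f W)
    {a t₁ t₂ : ℕ} (h₁ : Permutes (f.restrict hU : Module.End F ↥U) a t₁)
    (h₂ : Permutes (f.restrict hW : Module.End F ↥W) a t₂) : Permutes f a (t₁ + t₂) := by
  obtain ⟨D₁, hd₁, hs₁, σ₁, hσ₁⟩ := h₁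
  obtain ⟨D₂, hd₂, hs₂, σ₂, hσ₂⟩ := h₂
  refine ⟨Fin.append (fun j => (D₁ j).map U.subtype) (fun j => (D₂ j).map W.subtype), fun j => ?_, ?_,
    finSumFinEquiv.permCongr (σ₁.sumCongr σ₂), fun j => ?_⟩
  · refine Fin.addCases (fun j => ?_) (fun j => ?_) j
    · rw [Fin.append_left, Submodule.finrank_map_subtype_eq, hd₁]
    · rw [Fin.append_right, Submodule.finrank_map_subtype_eq, hd₂]
  · rw [eq_top_iff, ← hc.sup_eq_top]
    refine sup_le ?_ ?_
    · conv_lhs => rw [← Submodule.map_subtype_top U, ← hs₁, Submodule.map_iSup]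
      exact iSup_le fun j => le_iSup_of_le (Fin.castAdd t₂ j) (by rw [Fin.append_left])
    · conv_lhs => rw [← Submodule.map_subtype_top W, ← hs₂, Submodule.map_iSup]
      exact iSup_le fun j => le_iSup_of_le (Fin.natAdd t₁ j) (by rw [Fin.append_right])
  · refine Fin.addCases (fun j => ?_) (fun j => ?_) j
    · simp only [Equiv.permCongr_apply, finSumFinEquiv_symm_apply_castAdd, Equiv.sumCongr_apply, Sum.map_inl,
        finSumFinEquiv_apply_left, Fin.append_left, ← hσ₁, ← Submodule.map_comp]
      rfl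
    · simp only [Equiv.permCongr_apply, finSumFinEquiv_symm_apply_natAdd, Equiv.sumCongr_apply, Sum.map_inr,
        finSumFinEquiv_apply_right, Fin.append_right, ← hσ₂, ← Submodule.map_comp]
      rfl

theorem permutes_one [FiniteDimensional F V] {f : Module.End F V} (hf : Function.Injective f) :
    Permutes f (finrank F V) 1 :=
  ⟨fun _ => ⊤, fun _ => finrank_top F V, iSup_const, 1, fun _ => by
    rw [Submodule.map_top, LinearMap.range_eq_top]; exact LinearMap.injective_iff_surjective.1 hf⟩

theorem finrank_finset_sup_le [FiniteDimensional F V] {κ : Type*} (s : Finset κ) (A : κ → Submodule F V) :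
    finrank F ↥(s.sup A) ≤ ∑ j ∈ s, finrank F ↥(A j) := by
  classical
  induction s using Finset.induction with
  | empty => simp
  | insert j s hj ih =>
    rw [Finset.sup_insert, Finset.sum_insert hj]
    exact (Submodule.finrank_add_le_finrank_add_finrank _ _).trans (Nat.add_le_add_left ih _)

theorem sum_finrank_le_of_indep [FiniteDimensional F V] {κ : Type*} [Fintype κ] {A : κ → Submodule F V}
    (h : iSupIndep A) {W : Submodule F V} (hA : ∀ j, A j ≤ W) : ∑ j, finrank F ↥(A j) ≤ finrank F ↥W := by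
  classical
  suffices hs : ∀ s : Finset κ, ∑ j ∈ s, finrank F ↥(A j) = finrank F ↥(s.sup A) by
    rw [hs]
    exact Submodule.finrank_mono (Finset.sup_le fun j _ => hA j)
  intro s
  induction s using Finset.induction with
  | empty => rw [Finset.sum_empty, Finset.sup_empty, finrank_bot]
  | insert j s hj ih =>
    rw [Finset.sup_insert, Finset.sum_insert hj, ih]
    have h2 := Submodule.finrank_sup_add_finrank_inf_eq (A j) (s.sup A)
    have h3 : A j ⊓ s.sup A = ⊥ := by
      rw [← disjoint_iff, Finset.sup_eq_iSup]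
      exact h.disjoint_biSup (by simpa using hj)
    rw [h3, finrank_bot, add_zero] at h2
    exact h2.symm

theorem indep_of_iSup_eq_top [FiniteDimensional F V] {t a : ℕ} {D : Fin t → Submodule F V}
    (hd : ∀ j, finrank F ↥(D j) = a) (hs : iSup D = ⊤) (hn : finrank F V = a * t) : iSupIndep D := by
  classical
  intro j
  rw [disjoint_iff]
  have h1 : (⨆ (i) (_ : i ≠ j), D i) = (Finset.univ.erase j).sup D := by
    rw [Finset.sup_eq_iSup]
    exact iSup_congr fun i => iSup_congr_Prop (by simp) fun _ => rfl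
  have h2 := finrank_finset_sup_le (Finset.univ.erase j) D
  simp only [hd, Finset.sum_const, Finset.card_erase_of_mem (Finset.mem_univ j), Finset.card_univ,
    Fintype.card_fin, smul_eq_mul] at h2
  have htop : D j ⊔ (⨆ (i) (_ : i ≠ j), D i) = ⊤ := by
    rw [eq_top_iff, ← hs]
    refine iSup_le fun i => ?_
    by_cases hi : i = j
    · exact hi ▸ le_sup_left
    · exact le_sup_of_le_right (le_iSup₂ (f := fun i (_ : i ≠ j) => D i) i hi)
  have h3 := Submodule.finrank_sup_add_finrank_inf_eq (D j) (⨆ (i) (_ : i ≠ j), D i)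
  rw [htop, finrank_top, hd, h1] at h3
  rw [h1, ← Submodule.finrank_eq_zero]
  have : (t - 1) * a + a = a * t := by
    have := j.2
    rw [← Nat.succ_mul, mul_comm a t]; congr 1; omega
  omega

/-- Translation to the predicate of the statements. -/
theorem exists_isMDecomposition_iff {n a t : ℕ} (ha : 1 ≤ a) (ht : 2 ≤ t) (hat : n = a * t)
    (f : Module.End F (Fin n → F)) :
    (∃ D : Fin t → Submodule F (Fin n → F), Cfsg.Geo.IsMDecomposition a D ∧
      ∃ σ : Equiv.Perm (Fin t), ∀ j, (D j).map f = D (σ j)) ↔ Permutes f a t :=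
  exists_congr fun D => ⟨fun ⟨h, hσ⟩ => ⟨h.finrank_eq, h.iSup_eq_top, hσ⟩,
    fun ⟨h1, h2, hσ⟩ => ⟨⟨ht, ha, h1, indep_of_iSup_eq_top h1 h2 (by rw [Module.finrank_fin_fun, hat]), h2⟩, hσ⟩⟩

theorem restrict_pow_apply {f : Module.End F V} {W : Submodule F V} (hW : Inv f W) (k : ℕ) (w : ↥W) :
    (((f.restrict hW : Module.End F ↥W) ^ k) w : V) = (f ^ k) (w : V) := by
  induction k generalizing w with
  | zero => rfl
  | succ k ih => rw [pow_succ, pow_succ, Module.End.mul_apply, Module.End.mul_apply, ih]; rfl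

theorem restrict_pow_eq {f : Module.End F V} {W : Submodule F V} (hW : Inv f W) {r : ℕ} {c : F}
    (hc : f ^ r = c • 1) : (f.restrict hW : Module.End F ↥W) ^ r = c • 1 :=
  LinearMap.ext fun w => Subtype.ext (by rw [restrict_pow_apply, hc]; rfl)

theorem restrict_pow_one {f : Module.End F V} {W : Submodule F V} (hW : Inv f W) {r : ℕ}
    (hc : f ^ r = 1) : (f.restrict hW : Module.End F ↥W) ^ r = 1 :=
  LinearMap.ext fun w => Subtype.ext (by rw [restrict_pow_apply, hc]; rfl)

theorem finrank_fix1_restrict {y : Module.End F V} {W : Submodule F V} (hW : Inv y W) :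
    finrank F ↥(fix1 (y.restrict hW : Module.End F ↥W)) = finrank F ↥(W ⊓ fix1 y) := by
  rw [← Submodule.finrank_map_subtype_eq W]
  suffices h : (fix1 (y.restrict hW : Module.End F ↥W)).map W.subtype = W ⊓ fix1 y by rw [h]
  ext v
  constructor
  · rintro ⟨w, hw, rfl⟩
    exact ⟨w.2, mem_fix1.2 (congrArg Subtype.val (mem_fix1.1 hw))⟩
  · rintro ⟨hv, hf⟩
    exact ⟨⟨v, hv⟩, mem_fix1.2 (Subtype.ext (mem_fix1.1 hf)), rfl⟩

section Moved

variable [FiniteDimensional F V] {r : ℕ} {y : Module.End F V} {a t : ℕ} {D : Fin t → Submodule F V}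
  {σ : Equiv.Perm (Fin t)}

theorem map_pow_eq (hσ : ∀ j, (D j).map y = D (σ j)) (k : ℕ) (i : Fin t) :
    (D i).map (y ^ k) = D ((σ ^ k) i) := by
  induction k generalizing i with
  | zero => simp [Module.End.one_eq_id]
  | succ k ih =>
    rw [pow_succ', pow_succ', Module.End.mul_eq_comp, Submodule.map_comp, ih, hσ, Equiv.Perm.mul_apply]

theorem perm_pow_eq (ha : 0 < a) (hd : ∀ j, finrank F ↥(D j) = a) (hind : iSupIndep D)
    (hy : y ^ r = 1) (hσ : ∀ j, (D j).map y = D (σ j)) (j : Fin t) : (σ ^ r) j = j := by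
  refine hind.injective (fun i h => ?_) ?_
  · have := hd i
    rw [h, finrank_bot] at this
    omega
  · rw [← map_pow_eq hσ, hy, Module.End.one_eq_id, Submodule.map_id]

theorem moved_pow_ne (hr : r.Prime) {j : Fin t} (hjr : (σ ^ r) j = j) (hj : σ j ≠ j) {k : ℕ} (hk0 : k ≠ 0)
    (hkr : k < r) : (σ ^ k) j ≠ j := by
  intro hkj
  have h1 : Function.IsPeriodicPt σ k j := by
    show σ^[k] j = j
    rw [← Equiv.Perm.coe_pow]; exact hkj
  have h2 : Function.IsPeriodicPt σ r j := by
    show σ^[r] j = j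
    rw [← Equiv.Perm.coe_pow]; exact hjr
  have h3 := h1.gcd h2
  have hc : Nat.gcd k r = 1 := Nat.Coprime.symm ((Nat.Prime.coprime_iff_not_dvd hr).2 fun hd' => by
    have := Nat.le_of_dvd (Nat.pos_of_ne_zero hk0) hd'
    omega)
  rw [hc] at h3
  exact hj h3

/-- A moved summand needs `a` fixed dimensions and `a (r - 1)` others. -/
theorem moved_bound (hr : r.Prime) (hrF : (r : F) ≠ 0) (ha : 0 < a) (hd : ∀ j, finrank F ↥(D j) = a)
    (hind : iSupIndep D) (hy : y ^ r = 1) (hσ : ∀ j, (D j).map y = D (σ j)) {j : Fin t} (hj : σ j ≠ j) :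
    a ≤ finrank F ↥(fix1 y) ∧ a * (r - 1) ≤ finrank F ↥(LinearMap.ker (avg y r)) := by
  classical
  have hne := fun k (hk0 : k ≠ 0) (hkr : k < r) => moved_pow_ne hr (perm_pow_eq ha hd hind hy hσ j) hj hk0 hkr
  have hmem : ∀ k, ∀ v ∈ D j, (y ^ k) v ∈ D ((σ ^ k) j) := fun k v hv => by
    rw [← map_pow_eq hσ]; exact Submodule.mem_map_of_mem hv
  constructor
  · let A := ((avg y r).comp (D j).subtype).codRestrict (fix1 y) (fun v => avg_mem_fix1 hy _)
    rw [← hd j]
    refine LinearMap.finrank_le_finrank_of_injective (f := A) ?_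
    rw [← LinearMap.ker_eq_bot, eq_bot_iff]
    intro v hv
    have h0 : ∑ k ∈ Finset.range r, (y ^ k) (v : V) = 0 := by
      have h1 := congrArg Subtype.val (LinearMap.mem_ker.1 hv)
      change avg y r (v : V) = 0 at h1
      rw [avg_apply, smul_eq_zero] at h1
      exact h1.resolve_left (inv_ne_zero hrF)
    rw [← Finset.add_sum_erase _ _ (Finset.mem_range.2 hr.pos), pow_zero, Module.End.one_apply] at h0
    have h2 : (v : V) ∈ ⨆ i ≠ j, D i := by
      rw [eq_neg_of_add_eq_zero_left h0]
      refine neg_mem (Submodule.sum_mem _ fun k hk => ?_)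
      obtain ⟨hk0, hkr⟩ := Finset.mem_erase.1 hk
      exact Submodule.mem_iSup_of_mem _ (Submodule.mem_iSup_of_mem (hne k hk0 (Finset.mem_range.1 hkr))
        (hmem k v v.2))
    exact (Submodule.mem_bot F).2 (Subtype.ext (Submodule.disjoint_def.1 (hind j) _ v.2 h2))
  · let L : (Fin (r - 1) → ↥(D j)) →ₗ[F] V :=
      LinearMap.lsum F (fun _ : Fin (r - 1) => ↥(D j)) F
        (fun k => ((y ^ ((k : ℕ) + 1)) - 1).comp (D j).subtype)
    have hL : ∀ w, L w = ∑ k : Fin (r - 1), ((y ^ ((k : ℕ) + 1)) (w k : V) - (w k : V)) := fun w => by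
      simp [L, LinearMap.lsum_apply]
    have hker : ∀ w, L w ∈ LinearMap.ker (avg y r) := by
      intro w
      rw [hL]
      refine Submodule.sum_mem _ fun k _ => ?_
      rw [LinearMap.mem_ker, map_sub, ← Module.End.mul_apply, ← (commute_avg.pow_left _).eq,
        Module.End.mul_apply, sub_eq_zero]
      have hfix := avg_mem_fix1 (r := r) hy (w k : V)
      generalize avg y r (w k : V) = u at hfix
      induction ((k : ℕ) + 1) with
      | zero => rfl
      | succ i ih => rw [pow_succ, Module.End.mul_apply, mem_fix1.1 hfix, ih]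
    rw [← hd j, mul_comm]
    refine le_trans (le_of_eq ?_) (LinearMap.finrank_le_finrank_of_injective
      (f := L.codRestrict _ hker) ?_)
    · rw [Module.finrank_pi_fintype, Finset.sum_const, Finset.card_univ, Fintype.card_fin, smul_eq_mul]
    · rw [← LinearMap.ker_eq_bot, LinearMap.ker_codRestrict, eq_bot_iff]
      intro w hw
      rw [LinearMap.mem_ker, hL, Finset.sum_sub_distrib, sub_eq_zero] at hw
      refine (Submodule.mem_bot F).2 (funext fun k => Subtype.ext ?_)
      rw [← Finset.add_sum_erase _ _ (Finset.mem_univ k), ← eq_sub_iff_add_eq] at hw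
      set i₀ := (σ ^ ((k : ℕ) + 1)) j with hi₀
      have hj' : j ≠ i₀ := fun h => hne _ (by omega) (by have := k.2; omega) h.symm
      have h2 : (y ^ ((k : ℕ) + 1)) (w k : V) ∈ ⨆ i ≠ i₀, D i := by
        rw [hw]
        refine sub_mem (Submodule.mem_iSup_of_mem j (Submodule.mem_iSup_of_mem hj'
          (Submodule.sum_mem _ fun l _ => (w l).2))) (Submodule.sum_mem _ fun l hl => ?_)
        refine Submodule.mem_iSup_of_mem _ (Submodule.mem_iSup_of_mem (fun heq => ?_) (hmem _ _ (w l).2))
        have hlk := (Finset.mem_erase.1 hl).1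
        have hinj : ∀ u v : ℕ, u < v → v < r → (σ ^ u) j ≠ (σ ^ v) j := by
          intro u v huv hvr he
          rw [show v = u + (v - u) by omega, pow_add, Equiv.Perm.mul_apply] at he
          exact hne (v - u) (by omega) (by omega) ((σ ^ u).injective he).symm
        have := l.2
        have := k.2
        rcases Nat.lt_trichotomy (l : ℕ) (k : ℕ) with h | h | h
        · exact hinj _ _ (by omega) (by omega) heq
        · exact hlk (Fin.ext h)
        · exact hinj _ _ (by omega) (by omega) heq.symm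
      have h0 := Submodule.disjoint_def.1 (hind i₀) _ (hmem _ _ (w k).2) h2
      have hy' : (y ^ (r - ((k : ℕ) + 1))) ((y ^ ((k : ℕ) + 1)) (w k : V)) = (w k : V) := by
        rw [← Module.End.mul_apply, ← pow_add, Nat.sub_add_cancel (by have := k.2; omega), hy,
          Module.End.one_apply]
      rw [h0, map_zero] at hy'
      exact hy'.symm

/-- Lines: at least `n / r` fixed dimensions. -/
theorem lines_bound (hr : r.Prime) (hrF : (r : F) ≠ 0) (hd : ∀ j, finrank F ↥(D j) = 1)
    (hind : iSupIndep D) (hsup : iSup D = ⊤) (hy : y ^ r = 1) (hσ : ∀ j, (D j).map y = D (σ j))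
    (hfixed : ∀ j, σ j = j → D j ≤ fix1 y) : t ≤ r * finrank F ↥(fix1 y) := by
  classical
  have hnz : ∀ j, ∃ v, v ∈ D j ∧ v ≠ 0 := fun j =>
    Submodule.exists_mem_ne_zero_of_ne_bot fun h => by have := hd j; rw [h, finrank_bot] at this; omega
  choose v hv hv0 using hnz
  have hli : LinearIndependent F v := hind.linearIndependent _ hv hv0
  have hspan : ⊤ ≤ Submodule.span F (Set.range v) := by
    rw [← hsup]
    refine iSup_le fun j => ?_
    rw [← Submodule.eq_of_le_of_finrank_eq ((Submodule.span_singleton_le_iff_mem _ _).2 (hv j))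
      ((finrank_span_singleton (hv0 j)).trans (hd j).symm)]
    exact Submodule.span_mono (Set.singleton_subset_iff.2 ⟨j, rfl⟩)
  let B := Basis.mk hli hspan
  have hcoord : ∀ i j w, w ∈ D i → i ≠ j → B.repr w j = 0 := by
    intro i j w hw hij
    rw [← Submodule.eq_of_le_of_finrank_eq ((Submodule.span_singleton_le_iff_mem _ _).2 (hv i))
      ((finrank_span_singleton (hv0 i)).trans (hd i).symm), Submodule.mem_span_singleton] at hw
    obtain ⟨μ, rfl⟩ := hw
    rw [map_smul, show v i = B i from (Basis.mk_apply hli hspan i).symm, Basis.repr_self, Finsupp.smul_apply,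
      Finsupp.single_apply, if_neg hij, smul_zero]
  have hσr : ∀ j, (σ ^ r) j = j := perm_pow_eq one_pos hd hind hy hσ
  let O := Quotient (Equiv.Perm.SameCycle.setoid σ)
  haveI : Fintype O := Fintype.ofFinite O
  let rep : O → Fin t := Quotient.out
  have hpow : ∀ (o : O) (k : ℕ), Quotient.mk (Equiv.Perm.SameCycle.setoid σ) ((σ ^ k) (rep o)) = o := by
    intro o k
    conv_rhs => rw [← Quotient.out_eq o]
    exact Quotient.sound (Equiv.Perm.SameCycle.symm ⟨k, by rw [zpow_natCast]⟩)
  let w : O → ↥(fix1 y) := fun o => ⟨avg y r (v (rep o)), avg_mem_fix1 hy _⟩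
  have hw : LinearIndependent F w := by
    rw [Fintype.linearIndependent_iff]
    intro g hg o'
    have h0 := congrArg (fun u : ↥(fix1 y) => B.repr (u : V) (rep o')) hg
    simp only [Submodule.coe_sum, map_sum, Finsupp.finsetSum_apply, Submodule.coe_smul, map_smul,
      Finsupp.smul_apply, ZeroMemClass.coe_zero, map_zero, Finsupp.zero_apply] at h0
    have hoff : ∀ o, o ≠ o' → B.repr (avg y r (v (rep o))) (rep o') = 0 := by
      intro o ho
      rw [avg_apply, map_smul, map_sum, Finsupp.smul_apply, Finsupp.finsetSum_apply,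
        Finset.sum_eq_zero fun k _ => ?_, smul_zero]
      refine hcoord _ _ _ ((map_pow_eq hσ k (rep o)).le ⟨_, hv _, rfl⟩) fun he => ho ?_
      rw [← hpow o k, he]
      exact Quotient.out_eq o'
    have hon : B.repr (avg y r (v (rep o'))) (rep o') ≠ 0 := by
      have hB : B.repr (v (rep o')) (rep o') = 1 := by
        rw [show v (rep o') = B (rep o') from (Basis.mk_apply hli hspan _).symm, Basis.repr_self,
          Finsupp.single_eq_same]
      by_cases hfx : σ (rep o') = rep o'
      · rw [avg_of_fixed hrF (mem_fix1.1 (hfixed _ hfx (hv _))), hB]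
        exact one_ne_zero
      · rw [avg_apply, map_smul, map_sum, Finsupp.smul_apply, Finsupp.finsetSum_apply,
          Finset.sum_eq_single 0 (fun k hk hk0 => hcoord _ _ _ ((map_pow_eq hσ k _).le ⟨_, hv _, rfl⟩)
            (moved_pow_ne hr (hσr _) hfx hk0 (Finset.mem_range.1 hk)))
            (fun h => absurd (Finset.mem_range.2 hr.pos) h), pow_zero, Module.End.one_apply, hB, smul_eq_mul,
          mul_one]
        exact inv_ne_zero hrF
    rw [Finset.sum_eq_single o' (fun o _ ho => by simp [w, hoff o ho]) (fun h => absurd (Finset.mem_univ _) h),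
      smul_eq_mul, mul_eq_zero] at h0
    exact h0.resolve_right hon
  have hcard : t ≤ r * Fintype.card O := by
    have hs : Function.Surjective (fun p : Fin r × O => (σ ^ (p.1 : ℕ)) (rep p.2)) := by
      intro j
      obtain ⟨k, hk⟩ : ∃ k : ℕ, (σ ^ k) (rep (Quotient.mk (Equiv.Perm.SameCycle.setoid σ) j)) = j := by
        obtain ⟨k, hk⟩ := (Quotient.mk_out (s := Equiv.Perm.SameCycle.setoid σ) j :
          Equiv.Perm.SameCycle σ (rep _) j).exists_nat_pow_eq
        exact ⟨k, hk⟩
      refine ⟨(⟨k % r, Nat.mod_lt _ hr.pos⟩, Quotient.mk (Equiv.Perm.SameCycle.setoid σ) j), ?_⟩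
      show (σ ^ (k % r)) _ = j
      conv_rhs => rw [← hk]
      set i := rep (Quotient.mk (Equiv.Perm.SameCycle.setoid σ) j)
      have hmr : ∀ m, ((σ ^ r) ^ m) i = i := fun m => by
        induction m with
        | zero => rfl
        | succ m ih => rw [pow_succ, Equiv.Perm.mul_apply, hσr, ih]
      conv_rhs => rw [← Nat.mod_add_div k r, pow_add, Equiv.Perm.mul_apply, pow_mul, hmr]
    have := Fintype.card_le_of_surjective _ hs
    simpa using this
  exact hcard.trans (Nat.mul_le_mul_left r hw.fintype_card_le_finrank)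

end Moved

/-- Invariant complements for an endomorphism with a power equal to a nonzero scalar. -/
theorem exists_inv_compl_scalar [FiniteDimensional F V] {r : ℕ} (hrF : (r : F) ≠ 0) {f : Module.End F V}
    {c : F} (hc0 : c ≠ 0) (hf : f ^ r = c • 1) {U : Submodule F V} (hU : Inv f U) :
    ∃ W, Inv f W ∧ IsCompl U W := by
  have hsep : (Polynomial.X ^ r - Polynomial.C c).Separable := Polynomial.separable_X_pow_sub_C c hrF hc0
  have hss : f.IsSemisimple := Module.End.isSemisimple_of_squarefree_aeval_eq_zero hsep.squarefree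
    (by simp [hf, Algebra.algebraMap_eq_smul_one])
  obtain ⟨W, hW, hc'⟩ := (Module.End.isSemisimple_iff.1 hss) U hU
  exact ⟨W, hW, hc'⟩

section Finite

variable [Fintype F]

/-- Cyclic bases over the extension field. -/
theorem exists_cyclic_vectors {r : ℕ} (hr : r.Prime) (hrF : (r : F) ≠ 0) :
    ∀ (a : ℕ) (V : Type _) [AddCommGroup V] [Module F V] [FiniteDimensional F V] (f : Module.End F V),
      NonSplit r f → finrank F V = r * a →
      ∃ v : Fin a → V, Submodule.span F (Set.range fun p : Fin r × Fin a => (f ^ (p.1 : ℕ)) (v p.2)) = ⊤ := by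
  intro a
  induction a with
  | zero =>
    intro V _ _ _ f _ hn
    haveI : Subsingleton V := Module.finrank_zero_iff.1 (by rw [hn, mul_zero])
    exact ⟨Fin.elim0, Subsingleton.elim _ _⟩
  | succ a ih =>
    intro V _ _ _ f hf hn
    obtain ⟨c, hc, hd⟩ := hf
    have hc0 : c ≠ 0 := fun h => hd 0 (by rw [h, zero_pow hr.ne_zero])
    obtain ⟨U, -, -, hU, -, -, -, -, hUd, -⟩ :=
      (NonSplit.structure' (f := f) hr ⟨c, hc, hd⟩).2.2 1 1 le_rfl (by rw [hn]; exact Nat.mul_le_mul_left r (by omega))
    rw [mul_one] at hUd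
    obtain ⟨v₀, hv₀, hv00⟩ := Submodule.exists_mem_ne_zero_of_ne_bot (show U ≠ ⊥ from fun h => by
      rw [h, finrank_bot] at hUd; exact hr.ne_zero hUd.symm)
    let C := Submodule.span F (Set.range fun k : Fin r => (f ^ (k : ℕ)) v₀)
    have hC : Inv f C := by
      intro u hu
      induction hu using Submodule.span_induction with
      | mem u h =>
        obtain ⟨k, rfl⟩ := h
        show f ((f ^ (k : ℕ)) v₀) ∈ C
        rw [← Module.End.mul_apply, ← pow_succ']
        by_cases hk : (k : ℕ) + 1 < r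
        · exact Submodule.subset_span ⟨⟨_, hk⟩, rfl⟩
        · rw [show (k : ℕ) + 1 = r by have := k.2; omega, hc, LinearMap.smul_apply, Module.End.one_apply]
          exact C.smul_mem _ (Submodule.subset_span ⟨⟨0, hr.pos⟩, rfl⟩)
      | zero => rw [map_zero]; exact C.zero_mem
      | add u w _ _ h1 h2 => rw [map_add]; exact C.add_mem h1 h2
      | smul b u _ h1 => rw [map_smul]; exact C.smul_mem b h1
    have hCU : C = U := by
      refine Submodule.eq_of_le_of_finrank_le (Submodule.span_le.2 ?_) ?_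
      · rintro _ ⟨k, rfl⟩
        exact inv_pow hU _ _ hv₀
      · rw [hUd]
        refine Nat.le_of_dvd (Nat.pos_of_ne_zero fun h => hv00 ?_) (NonSplit.dvd_finrank (f := f) hr ⟨c, hc, hd⟩ hC)
        rw [Submodule.finrank_eq_zero] at h
        exact (Submodule.mem_bot F).1 (h ▸ Submodule.subset_span ⟨⟨0, hr.pos⟩, rfl⟩)
    obtain ⟨W, hW, hcompl⟩ := exists_inv_compl_scalar hrF hc0 hc hU
    have hWd := Submodule.finrank_add_eq_of_isCompl hcompl
    obtain ⟨v, hv⟩ := ih ↥W (f.restrict hW) ⟨c, restrict_pow_eq hW hc, hd⟩ (by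
      rw [hUd, hn, Nat.mul_succ] at hWd; omega)
    refine ⟨Fin.cons v₀ (fun i => (v i : V)), ?_⟩
    rw [eq_top_iff, ← hcompl.sup_eq_top]
    refine sup_le ?_ ?_
    · rw [← hCU]
      refine Submodule.span_mono ?_
      rintro _ ⟨k, rfl⟩
      exact ⟨(k, 0), by simp⟩
    · conv_lhs => rw [← Submodule.map_subtype_top W, ← hv, Submodule.map_span, ← Set.range_comp]
      refine Submodule.span_mono ?_
      rintro _ ⟨⟨k, i⟩, rfl⟩
      exact ⟨(k, i.succ), by simp [restrict_pow_apply]⟩

/-- A non-split element permutes cyclically `r` blocks. -/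
theorem permutes_cycle [FiniteDimensional F V] {r a : ℕ} (hr : r.Prime) (hrF : (r : F) ≠ 0)
    {f : Module.End F V} (hf : NonSplit r f) (hn : finrank F V = r * a) : Permutes f a r := by
  classical
  obtain ⟨v, hv⟩ := exists_cyclic_vectors hr hrF a V f hf hn
  obtain ⟨c, hc, hd⟩ := hf
  have hc0 : c ≠ 0 := fun h => hd 0 (by rw [h, zero_pow hr.ne_zero])
  let b := basisOfTopLeSpanOfCardEqFinrank (fun p : Fin r × Fin a => (f ^ (p.1 : ℕ)) (v p.2)) hv.ge
    (by simp [hn])
  have hb : ∀ p, b p = (f ^ (p.1 : ℕ)) (v p.2) := fun p => by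
    simp only [b, coe_basisOfTopLeSpanOfCardEqFinrank]
  haveI : NeZero r := ⟨hr.ne_zero⟩
  refine ⟨fun k => Submodule.span F (Set.range fun i : Fin a => b (k, i)), fun k => ?_, ?_, Equiv.addRight 1,
    fun k => ?_⟩
  · exact (finrank_span_eq_card (b.linearIndependent.comp (fun i : Fin a => (k, i))
      fun i i' h => (Prod.ext_iff.1 h).2)).trans (Fintype.card_fin a)
  · rw [eq_top_iff, ← b.span_eq, Submodule.span_le]
    rintro _ ⟨⟨k, i⟩, rfl⟩
    exact Submodule.mem_iSup_of_mem k (Submodule.subset_span ⟨i, rfl⟩)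
  · rw [Submodule.map_span, ← Set.range_comp]
    by_cases hk : (k : ℕ) + 1 < r
    · congr 2
      funext i
      rw [Function.comp_apply, hb, hb, ← Module.End.mul_apply, ← pow_succ']
      congr 2
      show (k : ℕ) + 1 = ((k + 1 : Fin r) : ℕ)
      rw [Fin.val_add, Fin.val_one', Nat.add_mod_mod, Nat.mod_eq_of_lt hk]
    · have hk1 : (k : ℕ) + 1 = r := by have := k.2; omega
      have h0 : (Equiv.addRight (1 : Fin r)) k = 0 := Fin.ext (by
        show ((k + 1 : Fin r) : ℕ) = 0
        rw [Fin.val_add, Fin.val_one', Nat.add_mod_mod, hk1, Nat.mod_self])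
      rw [h0]
      have hfun : (f ∘ fun i : Fin a => b (k, i)) = c • fun i : Fin a => b (0, i) := by
        funext i
        rw [Function.comp_apply, Pi.smul_apply, hb, hb, ← Module.End.mul_apply, ← pow_succ', hk1, hc]
        simp
      rw [hfun]
      refine le_antisymm (Submodule.span_le.2 ?_) (Submodule.span_le.2 ?_)
      · rintro _ ⟨i, rfl⟩
        exact Submodule.smul_mem _ _ (Submodule.subset_span ⟨i, rfl⟩)
      · rintro _ ⟨i, rfl⟩
        show b (0, i) ∈ _
        rw [show b (0, i) = c⁻¹ • (c • b (0, i)) by rw [smul_smul, inv_mul_cancel₀ hc0, one_smul]]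
        exact Submodule.smul_mem _ _ (Submodule.subset_span ⟨i, rfl⟩)

/-- Non-split elements always permute a decomposition. -/
theorem permutes_nonSplit {r a : ℕ} (hr : r.Prime) (hrF : (r : F) ≠ 0) (ha : 1 ≤ a) :
    ∀ (t : ℕ) (V : Type _) [AddCommGroup V] [Module F V] [FiniteDimensional F V] (f : Module.End F V),
      NonSplit r f → finrank F V = a * t → (r ∣ a ∨ r ∣ t) → Permutes f a t := by
  intro t
  induction t using Nat.strong_induction_on with
  | h t ih =>
    intro V _ _ _ f hf hn hdiv
    obtain rfl | ht := Nat.eq_zero_or_pos t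
    · exact permutes_zero f a (by rw [hn, mul_zero])
    obtain ⟨c, hc, hd⟩ := hf
    have hc0 : c ≠ 0 := fun h => hd 0 (by rw [h, zero_pow hr.ne_zero])
    have hinj : Function.Injective f := fun u v h => by
      have h' := congrArg (⇑(f ^ (r - 1))) h
      rw [← Module.End.mul_apply, ← Module.End.mul_apply, ← pow_succ, Nat.sub_add_cancel hr.one_le, hc] at h'
      exact smul_right_injective _ hc0 h'
    obtain ⟨s, k, hst, hk, hs⟩ : ∃ s k, s ≤ t ∧ r * k = a * s ∧
        0 < s ∧ (s = 1 ∧ r ∣ a ∨ s = r ∧ r ∣ t ∧ ¬ r ∣ a) := by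
      by_cases h : r ∣ a
      · obtain ⟨k, hk⟩ := h
        exact ⟨1, k, ht, by rw [mul_one, hk], one_pos, Or.inl ⟨rfl, ⟨k, hk⟩⟩⟩
      · have hrt := hdiv.resolve_left h
        exact ⟨r, a, Nat.le_of_dvd ht hrt, mul_comm _ _, hr.pos, Or.inr ⟨rfl, hrt, h⟩⟩
    obtain ⟨U, -, -, hU, -, -, -, -, hUd, -⟩ :=
      (NonSplit.structure' (f := f) hr ⟨c, hc, hd⟩).2.2 k k le_rfl (by rw [hn, hk]; exact Nat.mul_le_mul_left a hst)
    obtain ⟨W, hW, hcompl⟩ := exists_inv_compl_scalar hrF hc0 hc hU
    have hWd := Submodule.finrank_add_eq_of_isCompl hcompl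
    rw [hUd, hk, hn] at hWd
    have hUp : Permutes (f.restrict hU : Module.End F ↥U) a s := by
      rcases hs.2 with ⟨rfl, -⟩ | ⟨rfl, -, -⟩
      · have h1 := permutes_one (f := (f.restrict hU : Module.End F ↥U))
          (fun u v h => Subtype.ext (hinj (congrArg Subtype.val h)))
        rwa [hUd, hk, mul_one] at h1
      · exact permutes_cycle hr hrF ⟨c, restrict_pow_eq hU hc, hd⟩ (by rw [hUd, hk, mul_comm])
    have hdiv' : r ∣ a ∨ r ∣ t - s := by
      rcases hs.2 with ⟨-, h⟩ | ⟨rfl, h, -⟩
      · exact Or.inl h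
      · exact Or.inr (Nat.dvd_sub h dvd_rfl)
    have hWp := ih (t - s) (by omega) ↥W (f.restrict hW) ⟨c, restrict_pow_eq hW hc, hd⟩
      (by rw [Nat.mul_sub]; omega) hdiv'
    have := permutes_glue hcompl hU hW hUp hWp
    rwa [Nat.add_sub_cancel' hst] at this

variable {r : ℕ}

/-- An invariant subspace with prescribed fixed part. -/
theorem exists_inv_exact [FiniteDimensional F V] [Finite V] (hr : r.Prime) (hrF : (r : F) ≠ 0) {y : Module.End F V}
    (hy : y ^ r = 1) {l e : ℕ} (hl : l ≤ finrank F ↥(fix1 y))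
    (he : e * orderOf (Fintype.card F : ZMod r) ≤ finrank F ↥(LinearMap.ker (avg y r))) :
    ∃ U, Inv y U ∧ finrank F ↥U = l + e * orderOf (Fintype.card F : ZMod r) ∧ finrank F ↥(U ⊓ fix1 y) = l := by
  obtain ⟨D₀, hD₀⟩ : ∃ D₀ : Submodule F ↥(fix1 y), finrank F ↥D₀ = l :=
    ⟨Submodule.span F (Set.range ((Module.finBasis F ↥(fix1 y)) ∘ Fin.castLE hl)), by
      rw [finrank_span_eq_card ((Module.finBasis F ↥(fix1 y)).linearIndependent.comp _ (Fin.castLE_injective hl)),
        Fintype.card_fin]⟩
  obtain ⟨E, hE, -, hEk, hEd⟩ := exists_inv_le_ker hr hrF hy (U := ⊥)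
    (fun v hv => by rw [(Submodule.mem_bot F).1 hv, map_zero]; exact Submodule.zero_mem _) bot_le e
    (by rw [finrank_bot, zero_add]; exact he)
  rw [finrank_bot, zero_add] at hEd
  set D := D₀.map (fix1 y).subtype
  have hDf : D ≤ fix1 y := Submodule.map_subtype_le _ _
  have hDd : finrank F ↥D = l := by rw [Submodule.finrank_map_subtype_eq, hD₀]
  have hU := inv_sup (inv_of_le_fix1 hDf) hE
  have h1 := Submodule.finrank_sup_add_finrank_inf_eq D E
  rw [le_bot_iff.1 ((inf_le_inf hDf hEk).trans (fix1_inf_ker_avg hrF).le), finrank_bot, add_zero, hDd, hEd] at h1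
  refine ⟨D ⊔ E, hU, h1, ?_⟩
  have h2 := finrank_of_inv hy hrF hU
  have h3 : finrank F ↥D ≤ finrank F ↥((D ⊔ E) ⊓ fix1 y) := Submodule.finrank_mono (le_inf le_sup_left hDf)
  have h4 : finrank F ↥E ≤ finrank F ↥((D ⊔ E) ⊓ LinearMap.ker (avg y r)) :=
    Submodule.finrank_mono (le_inf le_sup_right hEk)
  omega

/-- Invariant blocks. -/
theorem permutes_fixed_blocks (hr : r.Prime) (hrF : (r : F) ≠ 0) {a : ℕ} (ha : 1 ≤ a) :
    ∀ (s : ℕ) (V : Type _) [AddCommGroup V] [Module F V] [FiniteDimensional F V] (y : Module.End F V)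
      (N : ℕ), y ^ r = 1 → finrank F V = a * s →
      finrank F ↥(fix1 y) + N * orderOf (Fintype.card F : ZMod r) = finrank F V →
      N ≤ s * (a / orderOf (Fintype.card F : ZMod r)) → Permutes y a s := by
  intro s
  induction s with
  | zero =>
    intro V _ _ _ y N _ hn _ _
    exact permutes_zero y a (by rw [hn, mul_zero])
  | succ s ih =>
    intro V _ _ _ y N hy hn hf hN
    haveI : Finite V := Module.finite_of_finite F
    obtain ⟨R, hR, hsum, -⟩ := fix1_data hr hrF hy
    set i := orderOf (Fintype.card F : ZMod r) with hi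
    have hi0 : 0 < i := orderOf_pos hr hrF
    have hRN : R = N := Nat.eq_of_mul_eq_mul_right hi0 (by omega)
    subst hRN
    have hai := Nat.div_mul_le_self a i
    have he1 : min R (a / i) * i ≤ a := le_trans (Nat.mul_le_mul_right i (min_le_right _ _)) hai
    have he2 : min R (a / i) * i ≤ R * i := Nat.mul_le_mul_right i (min_le_left _ _)
    have hsplit : a ≤ min R (a / i) * i + finrank F ↥(fix1 y) := by
      rcases le_total R (a / i) with h | h
      · rw [min_eq_left h]
        have : a * 1 ≤ a * (s + 1) := Nat.mul_le_mul_left a (by omega)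
        omega
      · rw [min_eq_right h]
        have h1 := Nat.mul_le_mul_right i hN
        rw [mul_assoc] at h1
        obtain ⟨d, hd⟩ : ∃ d, a = a / i * i + d := ⟨a - a / i * i, by omega⟩
        have h2 : a * (s + 1) = (s + 1) * (a / i * i) + (s + 1) * d := by rw [← mul_add, ← hd, mul_comm]
        have h3 : d ≤ (s + 1) * d := Nat.le_mul_of_pos_left d (by omega)
        omega
    obtain ⟨U, hU, hUd, hUfix⟩ := exists_inv_exact hr hrF hy (l := a - min R (a / i) * i)
      (e := min R (a / i)) (by omega) (by rw [← hi, hR]; exact he2)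
    rw [← hi, Nat.sub_add_cancel he1] at hUd
    obtain ⟨W, hW, hcompl⟩ := exists_inv_compl hrF hy hU
    have hWd := Submodule.finrank_add_eq_of_isCompl hcompl
    rw [hUd, hn, Nat.mul_succ] at hWd
    haveI : Finite ↥W := Module.finite_of_finite F
    obtain ⟨R', hR', hsum', -⟩ := fix1_data hr hrF (restrict_pow_one hW hy)
    rw [← hi] at hR' hsum'
    have hinjU : Function.Injective (y.restrict hU : Module.End F ↥U) := fun u v h => Subtype.ext (by
      have h' := congrArg (fun w : ↥U => (y ^ (r - 1)) (w : V)) h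
      change (y ^ (r - 1)) (y (u : V)) = (y ^ (r - 1)) (y (v : V)) at h'
      rwa [← Module.End.mul_apply, ← Module.End.mul_apply, ← pow_succ, Nat.sub_add_cancel hr.one_le, hy,
        Module.End.one_apply, Module.End.one_apply] at h')
    have hUp : Permutes (y.restrict hU : Module.End F ↥U) a 1 := hUd ▸ permutes_one hinjU
    -- the fixed part of `U` is at most what we asked for
    have hfixsum : finrank F ↥(fix1 y) = finrank F ↥(U ⊓ fix1 y) + finrank F ↥(W ⊓ fix1 y) := by
      have h1 := Submodule.finrank_sup_add_finrank_inf_eq (U ⊓ fix1 y) (W ⊓ fix1 y)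
      have h2 : (U ⊓ fix1 y) ⊓ (W ⊓ fix1 y) = ⊥ :=
        le_bot_iff.1 ((inf_le_inf inf_le_left inf_le_left).trans hcompl.inf_eq_bot.le)
      have h3 : (U ⊓ fix1 y) ⊔ (W ⊓ fix1 y) = fix1 y := by
        refine le_antisymm (sup_le inf_le_right inf_le_right) fun v hv => ?_
        obtain ⟨u, hu, w, hw, rfl⟩ := Submodule.mem_sup.1 (hcompl.sup_eq_top.ge (Submodule.mem_top : v ∈ ⊤))
        have h4 : y u - u = w - y w := by
          have := mem_fix1.1 hv
          rw [map_add] at this
          linear_combination (norm := abel) this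
        have h5 : y u - u ∈ U ⊓ W := ⟨U.sub_mem (hU u hu) hu, h4 ▸ W.sub_mem hw (hW w hw)⟩
        rw [hcompl.inf_eq_bot, Submodule.mem_bot] at h5
        refine Submodule.add_mem_sup ⟨hu, mem_fix1.2 (sub_eq_zero.1 h5)⟩ ⟨hw, mem_fix1.2 ?_⟩
        rw [h5] at h4
        exact (sub_eq_zero.1 h4.symm).symm
      rw [h3, h2, finrank_bot, add_zero] at h1
      exact h1
    rw [finrank_fix1_restrict] at hsum'
    refine (add_comm 1 s) ▸ permutes_glue hcompl hU hW hUp
      (ih ↥W (y.restrict hW) R' (restrict_pow_one hW hy) (by omega)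
        (by rw [finrank_fix1_restrict]; exact hsum') ?_)
    have hn' : finrank F V = a * s + a := by rw [hn, Nat.mul_succ]
    have hRR : R' * i + min R (a / i) * i = R * i := by omega
    rw [← Nat.add_mul] at hRR
    have hRR' := Nat.eq_of_mul_eq_mul_right hi0 hRR
    rw [Nat.succ_mul] at hN
    omega

end Finite

end Cfsg.Agent.Lib.Elusive

namespace Cfsg.Agent.Lib.Elusive

open Module

variable {F : Type*} [Field F] [Fintype F] {r : ℕ}

/-- An element moving as few dimensions as possible. -/
theorem exists_one_block {V : Type*} [AddCommGroup V] [Module F V] [FiniteDimensional F V] (hr : r.Prime)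
    (hrF : (r : F) ≠ 0) (hi2 : 2 ≤ orderOf (Fintype.card F : ZMod r))
    (hin : orderOf (Fintype.card F : ZMod r) ≤ finrank F V) :
    ∃ y : Module.End F V, y ^ r = 1 ∧ y ≠ 1 ∧
      finrank F ↥(fix1 y) + orderOf (Fintype.card F : ZMod r) = finrank F V := by
  obtain ⟨i, hi⟩ : ∃ i, orderOf (Fintype.card F : ZMod r) = i := ⟨_, rfl⟩
  obtain ⟨y₀, hy₀, hy₀1, hfix⟩ := exists_min_fixed (V := Fin i → F) hr hrF hi2
    (by rw [Module.finrank_fin_fun, hi])
  rw [hi] at hi2 hin hfix ⊢
  rw [Module.finrank_fin_fun, Nat.mod_self, Submodule.finrank_eq_zero] at hfix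
  let g : Module.End F ((Fin i → F) × (Fin (finrank F V - i) → F)) := y₀.prodMap LinearMap.id
  have hg : ∀ (k : ℕ) p, (g ^ k) p = ((y₀ ^ k) p.1, p.2) := fun k => by
    induction k with
    | zero => intro p; rfl
    | succ k ih => intro p; rw [pow_succ, pow_succ, Module.End.mul_apply, ih]; rfl
  let e : ((Fin i → F) × (Fin (finrank F V - i) → F)) ≃ₗ[F] V := LinearEquiv.ofFinrankEq _ _ (by
    rw [Module.finrank_prod, Module.finrank_fin_fun, Module.finrank_fin_fun]; omega)
  have hyv : ∀ p, (e.conj g) (e p) = e (y₀ p.1, p.2) := fun p => by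
    rw [LinearEquiv.conj_apply_apply, LinearEquiv.symm_apply_apply]; rfl
  have hfx : fix1 (e.conj g) = (LinearMap.range (LinearMap.inr F (Fin i → F) (Fin (finrank F V - i) → F))).map e.toLinearMap := by
    ext v
    obtain ⟨p, rfl⟩ := e.surjective v
    rw [mem_fix1, hyv, e.injective.eq_iff, Submodule.mem_map]
    constructor
    · intro h
      have h1 : p.1 ∈ fix1 y₀ := mem_fix1.2 (congrArg Prod.fst h)
      rw [hfix, Submodule.mem_bot] at h1
      exact ⟨p, ⟨p.2, Prod.ext h1.symm rfl⟩, rfl⟩
    · rintro ⟨_, ⟨q, rfl⟩, hq⟩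
      obtain rfl := e.injective hq
      exact Prod.ext (map_zero y₀) rfl
  have hd : finrank F ↥(fix1 (e.conj g)) + i = finrank F V := by
    rw [hfx, LinearEquiv.finrank_map_eq, LinearMap.finrank_range_of_inj LinearMap.inr_injective,
      Module.finrank_fin_fun]
    omega
  refine ⟨e.conj g, LinearMap.ext fun v => ?_, fun h1 => ?_, hd⟩
  · rw [conj_pow, hg, hy₀, Module.End.one_apply, Module.End.one_apply, Prod.mk.eta, LinearEquiv.apply_symm_apply]
  · rw [h1, show fix1 (1 : Module.End F V) = ⊤ from Submodule.eq_top_iff'.2 fun v => mem_fix1.2 rfl,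
      finrank_top] at hd
    omega

/-- One cycle of lines. -/
theorem permutes_lines_cycle {V : Type*} [AddCommGroup V] [Module F V] [FiniteDimensional F V] (hr : r.Prime)
    (hrF : (r : F) ≠ 0) {y : Module.End F V} (hy : y ^ r = 1)
    (hi : orderOf (Fintype.card F : ZMod r) + 1 = r) (hn : finrank F V = r) (hf : finrank F ↥(fix1 y) = 1) :
    Permutes y 1 r := by
  haveI : Finite V := Module.finite_of_finite F
  haveI : NeZero r := ⟨hr.ne_zero⟩
  obtain ⟨w, hw, hw0⟩ := Submodule.exists_mem_ne_zero_of_ne_bot (show fix1 y ≠ ⊥ from fun h => by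
    rw [h, finrank_bot] at hf; omega)
  have hsum := finrank_fix1_add hy hrF
  obtain ⟨v, hv, hv0⟩ := Submodule.exists_mem_ne_zero_of_ne_bot (show LinearMap.ker (avg y r) ≠ ⊥ from fun h => by
    rw [h, finrank_bot, hf, hn] at hsum; have := hr.two_le; omega)
  set S := Submodule.span F (Set.range fun k : Fin r => (y ^ (k : ℕ)) (v + w))
  have hmem : ∀ k : ℕ, (y ^ k) (v + w) ∈ S := fun k => by
    rw [pow_eq_pow_mod k hy]
    exact Submodule.subset_span ⟨⟨k % r, Nat.mod_lt _ hr.pos⟩, rfl⟩
  have hS : Inv y S := by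
    intro u hu
    induction hu using Submodule.span_induction with
    | mem u h =>
      obtain ⟨k, rfl⟩ := h
      show y ((y ^ (k : ℕ)) (v + w)) ∈ S
      rw [← Module.End.mul_apply, ← pow_succ']
      exact hmem _
    | zero => rw [map_zero]; exact S.zero_mem
    | add u z _ _ h1 h2 => rw [map_add]; exact S.add_mem h1 h2
    | smul b u _ h1 => rw [map_smul]; exact S.smul_mem b h1
  have huS : v + w ∈ S := by simpa using hmem 0
  have hav : avg y r (v + w) = w := by
    rw [map_add, LinearMap.mem_ker.1 hv, zero_add, avg_of_fixed hrF (mem_fix1.1 hw)]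
  have hwS : w ∈ S := hav ▸ avg_mem hS huS
  have hvS : v ∈ S := by simpa using S.sub_mem huS hwS
  have hne : ∀ (T : Submodule F V) (u : V), u ∈ T → u ≠ 0 → 0 < finrank F ↥T := fun T u hu hu0 =>
    Nat.pos_of_ne_zero fun h => hu0 (by rw [Submodule.finrank_eq_zero] at h; rw [h] at hu; exact (Submodule.mem_bot F).1 hu)
  have h1 := hne (S ⊓ fix1 y) w ⟨hwS, hw⟩ hw0
  have h2 := hne (S ⊓ LinearMap.ker (avg y r)) v ⟨hvS, hv⟩ hv0
  have h3 := finrank_of_inv hy hrF hS
  obtain ⟨e, -, he⟩ := exists_decomp_finrank hr hrF hy hS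
  have he1 : 1 * orderOf (Fintype.card F : ZMod r) ≤ e * orderOf (Fintype.card F : ZMod r) := by
    refine Nat.mul_le_mul_right _ (Nat.pos_of_ne_zero fun he0 => ?_)
    rw [he0, zero_mul] at he
    omega
  have htop : S = ⊤ := Submodule.eq_top_of_finrank_eq (le_antisymm (Submodule.finrank_le S) (by rw [hn]; omega))
  have hinj : ∀ k : ℕ, ∀ u, (y ^ k) u = 0 → u = 0 := fun k u hu => by
    have h4 := congrArg (⇑(y ^ (r * k - k))) hu
    rw [← Module.End.mul_apply, ← pow_add, Nat.sub_add_cancel (Nat.le_mul_of_pos_left k hr.pos), pow_mul, hy,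
      one_pow, map_zero] at h4
    exact h4
  refine ⟨fun k => F ∙ ((y ^ (k : ℕ)) (v + w)), fun k => finrank_span_singleton fun h0 => hw0 ?_, ?_,
    Equiv.addRight 1, fun k => ?_⟩
  · rw [← hav, hinj _ _ h0, map_zero]
  · rw [eq_top_iff, ← htop, Submodule.span_le]
    rintro _ ⟨k, rfl⟩
    exact Submodule.mem_iSup_of_mem k (Submodule.mem_span_singleton_self _)
  · rw [Submodule.map_span, Set.image_singleton, ← Module.End.mul_apply, ← pow_succ', pow_eq_pow_mod _ hy]
    congr 3
    show _ = y ^ ((k + 1 : Fin r) : ℕ)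
    rw [Fin.val_add, Fin.val_one', Nat.add_mod_mod]

theorem finrank_fix1_split {V : Type*} [AddCommGroup V] [Module F V] [FiniteDimensional F V]
    {y : Module.End F V} {U W : Submodule F V} (hU : Inv y U) (hW : Inv y W) (hc : IsCompl U W) :
    finrank F ↥(fix1 y) = finrank F ↥(U ⊓ fix1 y) + finrank F ↥(W ⊓ fix1 y) := by
  have h1 := Submodule.finrank_sup_add_finrank_inf_eq (U ⊓ fix1 y) (W ⊓ fix1 y)
  have h2 : (U ⊓ fix1 y) ⊓ (W ⊓ fix1 y) = ⊥ :=
    le_bot_iff.1 ((inf_le_inf inf_le_left inf_le_left).trans hc.inf_eq_bot.le)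
  have h3 : (U ⊓ fix1 y) ⊔ (W ⊓ fix1 y) = fix1 y := by
    refine le_antisymm (sup_le inf_le_right inf_le_right) fun v hv => ?_
    obtain ⟨u, hu, w, hw, rfl⟩ := Submodule.mem_sup.1 (hc.sup_eq_top.ge (Submodule.mem_top : v ∈ ⊤))
    have h4 : y u - u = w - y w := by
      have := mem_fix1.1 hv
      rw [map_add] at this
      linear_combination (norm := abel) this
    have h5 : y u - u ∈ U ⊓ W := ⟨U.sub_mem (hU u hu) hu, h4 ▸ W.sub_mem hw (hW w hw)⟩
    rw [hc.inf_eq_bot, Submodule.mem_bot] at h5
    refine Submodule.add_mem_sup ⟨hu, mem_fix1.2 (sub_eq_zero.1 h5)⟩ ⟨hw, mem_fix1.2 ?_⟩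
    rw [h5] at h4
    exact (sub_eq_zero.1 h4.symm).symm
  rw [h3, h2, finrank_bot, add_zero] at h1
  exact h1

theorem permutes_lines (hr : r.Prime) (hrF : (r : F) ≠ 0) (hi : orderOf (Fintype.card F : ZMod r) + 1 = r) :
    ∀ (N : ℕ) (V : Type _) [AddCommGroup V] [Module F V] [FiniteDimensional F V] (y : Module.End F V),
      y ^ r = 1 → finrank F ↥(fix1 y) + N * orderOf (Fintype.card F : ZMod r) = finrank F V →
      N ≤ finrank F ↥(fix1 y) → Permutes y 1 (finrank F V) := by
  intro N
  induction N with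
  | zero =>
    intro V _ _ _ y hy hf _
    exact permutes_fixed_blocks hr hrF le_rfl (finrank F V) V y 0 hy (one_mul _).symm hf (Nat.zero_le _)
  | succ N ih =>
    intro V _ _ _ y hy hf hN
    haveI : Finite V := Module.finite_of_finite F
    have hsum := finrank_fix1_add hy hrF
    rw [Nat.succ_mul] at hf
    obtain ⟨U, hU, hUd, hUf⟩ := exists_inv_exact hr hrF hy (l := 1) (e := 1) (by omega) (by omega)
    rw [one_mul, add_comm, hi] at hUd
    obtain ⟨W, hW, hc⟩ := exists_inv_compl hrF hy hU
    have hWd := Submodule.finrank_add_eq_of_isCompl hc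
    have hfix := finrank_fix1_split hU hW hc
    rw [hUf] at hfix
    have hUp : Permutes (y.restrict hU : Module.End F ↥U) 1 r :=
      permutes_lines_cycle hr hrF (restrict_pow_one hU hy) hi hUd (by rw [finrank_fix1_restrict]; exact hUf)
    have hWp := ih ↥W (y.restrict hW) (restrict_pow_one hW hy)
      (by rw [finrank_fix1_restrict]; omega) (by rw [finrank_fix1_restrict]; omega)
    have := permutes_glue hc hU hW hUp hWp
    rwa [show r + finrank F ↥W = finrank F V by omega] at this

/-- When does every semisimple element of prime order permute a decomposition? -/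
theorem forall_permutes_iff {V : Type*} [AddCommGroup V] [Module F V] [FiniteDimensional F V] (hr : r.Prime)
    (hrF : (r : F) ≠ 0) {a t : ℕ} (ha : 1 ≤ a) (hn : finrank F V = a * t)
    (hi2 : 2 ≤ orderOf (Fintype.card F : ZMod r)) (hin : orderOf (Fintype.card F : ZMod r) ≤ finrank F V) :
    (∀ y : Module.End F V, y ^ r = 1 → y ≠ 1 → Permutes y a t) ↔
      ((a = 1 ∧ 1 < orderOf (Fintype.card F : ZMod r) ∧ orderOf (Fintype.card F : ZMod r) = r - 1 ∧
          finrank F V ≤ finrank F V % orderOf (Fintype.card F : ZMod r) * r) ∨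
        (orderOf (Fintype.card F : ZMod r) ≤ a ∧
          finrank F V % orderOf (Fintype.card F : ZMod r) = t * (a % orderOf (Fintype.card F : ZMod r)))) := by
  haveI : Finite V := Module.finite_of_finite F
  haveI : Fact r.Prime := ⟨hr⟩
  have hir : orderOf (Fintype.card F : ZMod r) ≤ r - 1 := by
    refine Nat.le_of_dvd (by have := hr.two_le; omega) (ZMod.orderOf_dvd_card_sub_one ?_)
    intro h
    rw [h, orderOf_eq_zero_iff'.2 (fun k hk => by rw [zero_pow (by omega)]; exact zero_ne_one)] at hi2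
    omega
  have hfixed : ∀ (y : Module.End F V), y ^ r = 1 → ∀ D : Fin t → Submodule F V,
      (∀ j, finrank F ↥(D j) = a) → ∀ σ : Equiv.Perm (Fin t), (∀ j, (D j).map y = D (σ j)) →
      ∀ j, σ j = j → a % orderOf (Fintype.card F : ZMod r) ≤ finrank F ↥(D j ⊓ fix1 y) ∧
        (a < orderOf (Fintype.card F : ZMod r) → D j ≤ fix1 y) := by
    intro y hy D hd σ hσ j hj
    have hinv : Inv y (D j) := (inv_iff_map_le _ _).2 (by rw [hσ j, hj])
    obtain ⟨e, -, he⟩ := exists_decomp_finrank hr hrF hy hinv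
    rw [hd] at he
    refine ⟨?_, fun hlt => ?_⟩
    · conv_lhs => rw [← he, Nat.add_mul_mod_self_right]
      exact Nat.mod_le _ _
    · have he0 : e = 0 := Nat.eq_zero_of_not_pos fun hpos => by
        have := Nat.le_mul_of_pos_left (orderOf (Fintype.card F : ZMod r)) hpos
        omega
      rw [he0, zero_mul, add_zero] at he
      exact inf_eq_left.1 (Submodule.eq_of_le_of_finrank_eq inf_le_left (by rw [he, hd]))
  constructor
  · intro h
    rcases le_or_gt (orderOf (Fintype.card F : ZMod r)) a with hia | hia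
    · refine Or.inr ⟨hia, ?_⟩
      obtain ⟨y, hy, hy1, hf⟩ := exists_min_fixed hr hrF hi2 hin
      obtain ⟨D, hd, hs, σ, hσ⟩ := h y hy hy1
      have hind := indep_of_iSup_eq_top hd hs hn
      have hlt := Nat.mod_lt (finrank F V) (show orderOf (Fintype.card F : ZMod r) > 0 by omega)
      have hall : ∀ j, σ j = j := fun j => by
        by_contra hj
        have := (moved_bound hr hrF (by omega) hd hind hy hσ hj).1
        omega
      have hsum := sum_finrank_le_of_indep (A := fun j => D j ⊓ fix1 y) (hind.mono fun j => inf_le_left)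
        (W := fix1 y) fun j => inf_le_right
      have hle : t * (a % orderOf (Fintype.card F : ZMod r)) ≤ finrank F ↥(fix1 y) := by
        refine le_trans (le_of_eq ?_) (le_trans (Finset.sum_le_sum
          (f := fun _ : Fin t => a % orderOf (Fintype.card F : ZMod r))
          fun j _ => (hfixed y hy D hd σ hσ j (hall j)).1) hsum)
        simp
      rw [hf] at hle
      have hmod : finrank F V % orderOf (Fintype.card F : ZMod r) =
          t * (a % orderOf (Fintype.card F : ZMod r)) % orderOf (Fintype.card F : ZMod r) := by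
        rw [hn, mul_comm a t, Nat.mul_mod_mod]
      rw [Nat.mod_eq_of_lt (lt_of_le_of_lt hle hlt)] at hmod
      exact hmod
    · obtain ⟨y, hy, hy1, hf⟩ := exists_one_block (V := V) hr hrF hi2 hin
      obtain ⟨D, hd, hs, σ, hσ⟩ := h y hy hy1
      have hind := indep_of_iSup_eq_top hd hs hn
      obtain ⟨j, hj⟩ : ∃ j, σ j ≠ j := by
        by_contra hcon
        push Not at hcon
        refine hy1 (LinearMap.ext fun v => mem_fix1.1 ?_)
        have htop : (⊤ : Submodule F V) ≤ fix1 y :=
          hs ▸ iSup_le fun j => (hfixed y hy D hd σ hσ j (hcon j)).2 hia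
        exact htop Submodule.mem_top
      have h2 := (moved_bound hr hrF (by omega) hd hind hy hσ hj).2
      have hsum := finrank_fix1_add hy hrF
      have ha1 : a = 1 := by
        by_contra hne
        have : 2 * (r - 1) ≤ a * (r - 1) := Nat.mul_le_mul_right _ (by omega)
        omega
      subst ha1
      rw [one_mul] at h2 hn
      refine Or.inl ⟨rfl, by omega, by omega, ?_⟩
      obtain ⟨y, hy, hy1, hf⟩ := exists_min_fixed hr hrF hi2 hin
      obtain ⟨D, hd, hs, σ, hσ⟩ := h y hy hy1
      have h3 := lines_bound hr hrF hd (indep_of_iSup_eq_top hd hs (by omega)) hs hy hσ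
        fun j hj => (hfixed y hy D hd σ hσ j hj).2 hia
      rw [hf, mul_comm] at h3
      omega
  · intro h y hy _
    obtain ⟨R, hR, hsum, hmod⟩ := fix1_data hr hrF hy
    rcases h with ⟨rfl, -, hi, hnk⟩ | ⟨hia, hk⟩
    · rw [one_mul] at hn
      rw [← hn]
      refine permutes_lines hr hrF (by omega) R V y hy hsum ?_
      have hdm := Nat.mod_add_div (finrank F V) (orderOf (Fintype.card F : ZMod r))
      have hfle := Nat.mod_le (finrank F ↥(fix1 y)) (orderOf (Fintype.card F : ZMod r))
      have hr' : r = orderOf (Fintype.card F : ZMod r) + 1 := by omega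
      have hkr := (congrArg (fun z => finrank F V % orderOf (Fintype.card F : ZMod r) * z) hr').trans (Nat.mul_succ _ _)
      rw [hkr, mul_comm (finrank F V % orderOf (Fintype.card F : ZMod r))] at hnk
      have hq : finrank F V / orderOf (Fintype.card F : ZMod r) ≤ finrank F V % orderOf (Fintype.card F : ZMod r) :=
        Nat.le_of_mul_le_mul_left (by omega) (show 0 < orderOf (Fintype.card F : ZMod r) by omega)
      have hRq : R ≤ finrank F V / orderOf (Fintype.card F : ZMod r) :=
        (Nat.le_div_iff_mul_le (by omega)).2 (by omega)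
      omega
    · refine permutes_fixed_blocks hr hrF ha t V y R hy hn hsum ?_
      have hfle := Nat.mod_le (finrank F ↥(fix1 y)) (orderOf (Fintype.card F : ZMod r))
      rw [hmod, hk] at hfle
      refine Nat.le_of_mul_le_mul_right ?_ (show 0 < orderOf (Fintype.card F : ZMod r) by omega)
      have h1 : finrank F V = t * (a % orderOf (Fintype.card F : ZMod r)) +
          t * (a / orderOf (Fintype.card F : ZMod r)) * orderOf (Fintype.card F : ZMod r) := by
        rw [mul_assoc, ← mul_add, mul_comm (a / _), Nat.mod_add_div, hn, mul_comm]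
      omega

end Cfsg.Agent.Lib.Elusive

namespace Cfsg.Agent.Lib.Elusive

open Module
open scoped Pointwise

/-- A prime dividing the number of decompositions has small multiplicative order. -/
theorem orderOf_le_of_dvd_count {F : Type*} [Field F] [Fintype F] {n a t r : ℕ} (hr : r.Prime)
    (hrF : (r : F) ≠ 0) (hat : n = a * t) (ha : 1 ≤ a) (ht : 2 ≤ t)
    (hd : r ∣ Nat.card {D : Fin t → Submodule F (Fin n → F) // Cfsg.Geo.IsMDecomposition a D}) :
    orderOf (Fintype.card F : ZMod r) ≤ n := by
  classical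
  rcases isEmpty_or_nonempty {D : Fin t → Submodule F (Fin n → F) // Cfsg.Geo.IsMDecomposition a D} with h | h
  · let b : Basis (Fin t × Fin a) F (Fin n → F) :=
      (Pi.basisFun F (Fin n)).reindex (Fintype.equivOfCardEq (by simp [hat, mul_comm]))
    refine h.elim ⟨fun j => Submodule.span F (Set.range fun i : Fin a => b (j, i)), ?_⟩
    have h1 : ∀ j, finrank F ↥(Submodule.span F (Set.range fun i : Fin a => b (j, i))) = a := fun j =>
      (finrank_span_eq_card (b.linearIndependent.comp (fun i : Fin a => (j, i))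
        fun i i' he => (Prod.ext_iff.1 he).2)).trans (Fintype.card_fin a)
    have h2 : (⨆ j, Submodule.span F (Set.range fun i : Fin a => b (j, i))) = ⊤ := by
      rw [eq_top_iff, ← b.span_eq, Submodule.span_le]
      rintro _ ⟨⟨j, i⟩, rfl⟩
      exact Submodule.mem_iSup_of_mem j (Submodule.subset_span ⟨i, rfl⟩)
    exact ⟨ht, ha, h1, indep_of_iSup_eq_top h1 h2 (by rw [Module.finrank_fin_fun, hat]), h2⟩
  · obtain ⟨⟨D₀, hD₀⟩⟩ := h
    have hequiv : ∀ D : Fin t → Submodule F (Fin n → F), Cfsg.Geo.IsMDecomposition a D →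
        ∃ e : ((j : Fin t) → ↥(D j)) ≃ₗ[F] (Fin n → F), ∀ w, e w = ∑ j, (w j : Fin n → F) := by
      intro D hD
      let L : ((j : Fin t) → ↥(D j)) →ₗ[F] (Fin n → F) := LinearMap.lsum F (fun j => ↥(D j)) F (fun j => (D j).subtype)
      have hL : ∀ w, L w = ∑ j, (w j : Fin n → F) := fun w => by simp [L, LinearMap.lsum_apply]
      have hsurj : Function.Surjective L := by
        rw [← LinearMap.range_eq_top, eq_top_iff, ← hD.iSup_eq_top]
        refine iSup_le fun j v hv => ⟨Pi.single j ⟨v, hv⟩, ?_⟩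
        rw [hL, Finset.sum_eq_single j (fun i _ hi => by simp [hi]) (fun h => absurd (Finset.mem_univ j) h),
          Pi.single_eq_same]
      have hfr : finrank F ((j : Fin t) → ↥(D j)) = finrank F (Fin n → F) := by
        simp [Module.finrank_pi_fintype, hD.finrank_eq, hat, mul_comm]
      exact ⟨LinearEquiv.ofBijective L ⟨(LinearMap.injective_iff_surjective_of_finrank_eq_finrank hfr).2 hsurj, hsurj⟩, hL⟩
    have hsm : ∀ (g : (Fin n → F) ≃ₗ[F] (Fin n → F)) (D : Submodule F (Fin n → F)),
        g • D = D.map g.toLinearMap := fun g D => rfl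
    have horb : MulAction.orbit ((Fin n → F) ≃ₗ[F] (Fin n → F)) D₀ = {D | Cfsg.Geo.IsMDecomposition a D} := by
      ext D
      constructor
      · rintro ⟨g, rfl⟩
        have h1 : ∀ j, finrank F ↥((g • D₀) j) = a := fun j => by
          rw [Pi.smul_apply, hsm, LinearEquiv.finrank_map_eq, hD₀.finrank_eq]
        have h2 : iSup (g • D₀) = ⊤ := by
          simp only [Pi.smul_apply, hsm, iSup, ← Set.range_comp]
          show (⨆ j, (D₀ j).map g.toLinearMap) = ⊤
          rw [← Submodule.map_iSup, hD₀.iSup_eq_top, Submodule.map_top, LinearMap.range_eq_top]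
          exact g.surjective
        exact ⟨hD₀.two_le, hD₀.pos, h1, indep_of_iSup_eq_top h1 h2 (by rw [Module.finrank_fin_fun, hat]), h2⟩
      · intro hD
        obtain ⟨e₀, he₀⟩ := hequiv D₀ hD₀
        obtain ⟨e, he⟩ := hequiv D hD
        let m := LinearEquiv.piCongrRight (R := F) fun j =>
          LinearEquiv.ofFinrankEq ↥(D₀ j) ↥(D j) ((hD₀.finrank_eq j).trans (hD.finrank_eq j).symm)
        refine ⟨e₀.symm.trans (m.trans e), funext fun j => ?_⟩
        show (e₀.symm.trans (m.trans e)) • D₀ j = D j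
        rw [hsm]
        refine Submodule.eq_of_le_of_finrank_eq ?_ (by rw [LinearEquiv.finrank_map_eq, hD₀.finrank_eq, hD.finrank_eq])
        rintro _ ⟨v, hv, rfl⟩
        have hv' : e₀.symm v = Pi.single j ⟨v, hv⟩ := by
          rw [LinearEquiv.symm_apply_eq, he₀, Finset.sum_eq_single j (fun i _ hi => by simp [hi])
            (fun h => absurd (Finset.mem_univ j) h), Pi.single_eq_same]
        show e (m (e₀.symm v)) ∈ D j
        rw [hv', he, Finset.sum_eq_single j (fun i _ hi => by simp [m, hi])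
          (fun h => absurd (Finset.mem_univ j) h)]
        exact Subtype.prop _
    have hdiv : r ∣ Nat.card ((Fin n → F) ≃ₗ[F] (Fin n → F)) := by
      refine hd.trans ?_
      show Nat.card ↥({D | Cfsg.Geo.IsMDecomposition a D} : Set (Fin t → Submodule F (Fin n → F))) ∣ _
      rw [← Nat.card_congr (Equiv.setCongr horb), Nat.card_congr (MulAction.orbitEquivQuotientStabilizer _ D₀)]
      exact Subgroup.index_dvd_card _
    have hcard : Nat.card ((Fin n → F) ≃ₗ[F] (Fin n → F)) = frameProd (Fintype.card F) n n := by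
      rw [← Nat.card_congr (Matrix.GeneralLinearGroup.toLin.trans
        (LinearMap.GeneralLinearGroup.generalLinearEquiv F (Fin n → F))).toEquiv, Matrix.card_GL_field, frameProd]
    rw [hcard, frameProd_eq _ le_rfl, hr.dvd_mul] at hdiv
    rcases hdiv with h | h
    · exfalso
      obtain ⟨p, hp⟩ := CharP.exists F
      obtain ⟨k, hp', hk⟩ := FiniteField.card F p
      rw [hk, ← pow_mul] at h
      have := (Nat.prime_dvd_prime_iff_eq hr hp').1 (hr.dvd_of_dvd_pow h)
      exact hrF (by rw [this]; exact CharP.cast_eq_zero F p)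
    · rw [(Nat.prime_iff.1 hr).dvd_finset_prod_iff] at h
      obtain ⟨k, -, hk⟩ := h
      rw [dvd_pow_sub_one_iff Fintype.card_pos] at hk
      have := Nat.le_of_dvd (by have := k.2; omega) hk
      omega

/-- Reordering acts freely on decompositions. -/
theorem factorial_dvd_count {F : Type*} [Field F] [Fintype F] {n a t : ℕ} :
    Nat.factorial t ∣ Nat.card {D : Fin t → Submodule F (Fin n → F) // Cfsg.Geo.IsMDecomposition a D} := by
  classical
  letI : MulAction (Equiv.Perm (Fin t)) {D : Fin t → Submodule F (Fin n → F) // Cfsg.Geo.IsMDecomposition a D} :=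
    { smul := fun σ D => ⟨D.1 ∘ ⇑σ⁻¹, D.2.two_le, D.2.pos, fun i => D.2.finrank_eq _,
        D.2.indep.comp σ⁻¹.injective, (σ⁻¹.iSup_comp (g := D.1)).trans D.2.iSup_eq_top⟩
      one_smul := fun D => Subtype.ext rfl
      mul_smul := fun σ τ D => Subtype.ext (by
        show D.1 ∘ ⇑(σ * τ)⁻¹ = (D.1 ∘ ⇑τ⁻¹) ∘ ⇑σ⁻¹
        rw [mul_inv_rev]; rfl) }
  have hstab : ∀ D : {D : Fin t → Submodule F (Fin n → F) // Cfsg.Geo.IsMDecomposition a D},
      MulAction.stabilizer (Equiv.Perm (Fin t)) D = ⊥ := by
    intro D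
    rw [Subgroup.eq_bot_iff_forall]
    intro σ hσ
    refine inv_eq_one.1 (Equiv.ext fun i => D.2.indep.injective (fun j h => ?_) ?_)
    · have := D.2.finrank_eq j
      rw [h, finrank_bot] at this
      exact D.2.pos.ne this
    · exact congrFun (congrArg Subtype.val (MulAction.mem_stabilizer_iff.1 hσ)) i
  haveI : Fintype {D : Fin t → Submodule F (Fin n → F) // Cfsg.Geo.IsMDecomposition a D} := Fintype.ofFinite _
  rw [Nat.card_congr (MulAction.selfEquivSigmaOrbitsQuotientStabilizer (Equiv.Perm (Fin t)) _), Nat.card_sigma]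
  refine Finset.dvd_sum fun O _ => ?_
  rw [hstab, ← Subgroup.index, Subgroup.index_bot, Nat.card_perm, Nat.card_fin]

end Cfsg.Agent.Lib.Elusive
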