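import Mathlib

/-!
Transvections of `SL n F` as maps `x ↦ x + (φ ⬝ x) v`, and the additive duality of `F^n`.
-/

set_option autoImplicit false

namespace Cfsg.Agent.Lib.Elusive.SLTrans

open Matrix

variable {F : Type*} [Field F] {n : ℕ}

/-- the matrix `1 + v φᵀ` -/
def tmat (v φ : Fin n → F) : Matrix (Fin n) (Fin n) F := 1 + Matrix.vecMulVec v φ

theorem tmat_mulVec (v φ x : Fin n → F) : tmat v φ *ᵥ x = x + (φ ⬝ᵥ x) • v := by
  rw [tmat, Matrix.add_mulVec, Matrix.one_mulVec, Matrix.vecMulVec_mulVec]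
  congr 1
  ext i
  simp [mul_comm]

theorem det_tmat {v φ : Fin n → F} (h : φ ⬝ᵥ v = 0) : (tmat v φ).det = 1 := by
  rw [tmat, Matrix.vecMulVec_eq Unit, Matrix.det_one_add_replicateCol_mul_replicateRow, h,
    add_zero]

open Classical in
/-- the transvection; the identity if `φ ⬝ᵥ v ≠ 0` -/
noncomputable def T (v φ : Fin n → F) : Matrix.SpecialLinearGroup (Fin n) F :=
  if h : φ ⬝ᵥ v = 0 then Subtype.mk (tmat v φ) (det_tmat h) else 1

theorem coe_T {v φ : Fin n → F} (h : φ ⬝ᵥ v = 0) :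
    ((T v φ : Matrix.SpecialLinearGroup (Fin n) F) : Matrix (Fin n) (Fin n) F) = tmat v φ := by
  unfold T
  exact congrArg Subtype.val (dif_pos h)

theorem T_mulVec {v φ : Fin n → F} (h : φ ⬝ᵥ v = 0) (x : Fin n → F) :
    ((T v φ : Matrix.SpecialLinearGroup (Fin n) F) : Matrix (Fin n) (Fin n) F) *ᵥ x =
      x + (φ ⬝ᵥ x) • v := by
  rw [coe_T h, tmat_mulVec]

theorem sl_ext {g h : Matrix.SpecialLinearGroup (Fin n) F}
    (he : ∀ x, (g : Matrix (Fin n) (Fin n) F) *ᵥ x = (h : Matrix (Fin n) (Fin n) F) *ᵥ x) :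
    g = h :=
  Subtype.ext (Matrix.ext_of_mulVec_single fun i => he _)

theorem sl_mul_mulVec (g h : Matrix.SpecialLinearGroup (Fin n) F) (x : Fin n → F) :
    ((g * h : Matrix.SpecialLinearGroup (Fin n) F) : Matrix (Fin n) (Fin n) F) *ᵥ x =
      (g : Matrix (Fin n) (Fin n) F) *ᵥ ((h : Matrix (Fin n) (Fin n) F) *ᵥ x) := by
  rw [Matrix.SpecialLinearGroup.coe_mul, Matrix.mulVec_mulVec]

theorem sl_one_mulVec (x : Fin n → F) :
    ((1 : Matrix.SpecialLinearGroup (Fin n) F) : Matrix (Fin n) (Fin n) F) *ᵥ x = x := by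
  rw [Matrix.SpecialLinearGroup.coe_one, Matrix.one_mulVec]

theorem T_mul_T {v φ ψ : Fin n → F} (h : φ ⬝ᵥ v = 0) (h' : ψ ⬝ᵥ v = 0) :
    T v φ * T v ψ = T v (φ + ψ) := by
  have h2 : (φ + ψ) ⬝ᵥ v = 0 := by rw [add_dotProduct, h, h', add_zero]
  refine sl_ext fun x => ?_
  rw [sl_mul_mulVec, T_mulVec h, T_mulVec h', T_mulVec h2, dotProduct_add, dotProduct_smul, h,
    smul_zero, add_zero, add_dotProduct, add_smul]
  abel

theorem T_zero (v : Fin n → F) : T v 0 = 1 := by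
  refine sl_ext fun x => ?_
  rw [T_mulVec (zero_dotProduct v), zero_dotProduct, zero_smul, add_zero, sl_one_mulVec]

theorem T_zero_left (φ : Fin n → F) : T (0 : Fin n → F) φ = 1 := by
  refine sl_ext fun x => ?_
  rw [T_mulVec (dotProduct_zero φ), smul_zero, add_zero, sl_one_mulVec]

theorem T_neg {v φ : Fin n → F} (h : φ ⬝ᵥ v = 0) : (T v φ)⁻¹ = T v (-φ) := by
  refine inv_eq_of_mul_eq_one_right ?_
  rw [T_mul_T h (by rw [neg_dotProduct, h, neg_zero]), add_neg_cancel, T_zero]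

theorem T_left_mul {u v φ : Fin n → F} (h : φ ⬝ᵥ u = 0) (h' : φ ⬝ᵥ v = 0) :
    T u φ * T v φ = T (u + v) φ := by
  have h2 : φ ⬝ᵥ (u + v) = 0 := by rw [dotProduct_add, h, h', add_zero]
  refine sl_ext fun x => ?_
  rw [sl_mul_mulVec, T_mulVec h, T_mulVec h', T_mulVec h2, dotProduct_add, dotProduct_smul, h',
    smul_zero, add_zero, smul_add]
  abel

theorem T_smul {v φ : Fin n → F} (h : φ ⬝ᵥ v = 0) (c : F) : T (c • v) φ = T v (c • φ) := by
  refine sl_ext fun x => ?_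
  rw [T_mulVec (by rw [dotProduct_smul, h, smul_zero]),
    T_mulVec (by rw [smul_dotProduct, h, smul_zero]), smul_dotProduct, smul_smul, smul_eq_mul,
    mul_comm]

/-- conjugation of a transvection by a linear map -/
theorem conj_T (g : Matrix.SpecialLinearGroup (Fin n) F) {v φ φ' : Fin n → F} (h : φ ⬝ᵥ v = 0)
    (hφ : ∀ x, φ' ⬝ᵥ ((g : Matrix (Fin n) (Fin n) F) *ᵥ x) = φ ⬝ᵥ x) :
    g * T v φ * g⁻¹ = T ((g : Matrix (Fin n) (Fin n) F) *ᵥ v) φ' := by
  rw [mul_inv_eq_iff_eq_mul]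
  refine sl_ext fun x => ?_
  have h' : φ' ⬝ᵥ ((g : Matrix (Fin n) (Fin n) F) *ᵥ v) = 0 := by rw [hφ, h]
  rw [sl_mul_mulVec, sl_mul_mulVec, T_mulVec h, T_mulVec h', hφ, Matrix.mulVec_add,
    Matrix.mulVec_smul]

/-- the contragredient functional -/
theorem exists_pullback (g : Matrix.SpecialLinearGroup (Fin n) F) (φ : Fin n → F) :
    ∃ φ' : Fin n → F, ∀ x, φ' ⬝ᵥ ((g : Matrix (Fin n) (Fin n) F) *ᵥ x) = φ ⬝ᵥ x := by
  refine ⟨φ ᵥ* ((g⁻¹ : Matrix.SpecialLinearGroup (Fin n) F) : Matrix (Fin n) (Fin n) F),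
    fun x => ?_⟩
  rw [← Matrix.dotProduct_mulVec, ← sl_mul_mulVec, inv_mul_cancel, sl_one_mulVec]

theorem inv_mulVec_mulVec (g : Matrix.SpecialLinearGroup (Fin n) F) (x : Fin n → F) :
    ((g⁻¹ : Matrix.SpecialLinearGroup (Fin n) F) : Matrix (Fin n) (Fin n) F) *ᵥ
      ((g : Matrix (Fin n) (Fin n) F) *ᵥ x) = x := by
  rw [← sl_mul_mulVec, inv_mul_cancel, sl_one_mulVec]

theorem mulVec_inv_mulVec (g : Matrix.SpecialLinearGroup (Fin n) F) (x : Fin n → F) :
    (g : Matrix (Fin n) (Fin n) F) *ᵥ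
      (((g⁻¹ : Matrix.SpecialLinearGroup (Fin n) F) : Matrix (Fin n) (Fin n) F) *ᵥ x) = x := by
  rw [← sl_mul_mulVec, mul_inv_cancel, sl_one_mulVec]

/-! ### functionals with prescribed values -/

theorem exists_dot (x : Fin n → F) (S : Submodule F (Fin n → F)) (hx : x ∉ S) :
    ∃ φ : Fin n → F, (∀ y ∈ S, φ ⬝ᵥ y = 0) ∧ φ ⬝ᵥ x = 1 := by
  obtain ⟨f, hfx, hfS⟩ := Submodule.exists_dual_map_eq_bot_of_notMem hx inferInstance
  have hrep : ∀ y, (fun i => f (Pi.single i 1)) ⬝ᵥ y = f y := by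
    intro y
    conv_rhs => rw [pi_eq_sum_univ' y]
    rw [map_sum]
    exact Finset.sum_congr rfl fun i _ => by rw [map_smul, smul_eq_mul, mul_comm]
  refine ⟨(f x)⁻¹ • fun i => f (Pi.single i 1), fun y hy => ?_, ?_⟩
  · rw [smul_dotProduct, hrep]
    have : f y ∈ S.map f := Submodule.mem_map_of_mem hy
    rw [hfS, Submodule.mem_bot] at this
    rw [this, smul_zero]
  · rw [smul_dotProduct, hrep, smul_eq_mul, inv_mul_cancel₀ hfx]

/-- any two nonzero vectors outside each other's line are related by a transvection -/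
theorem exists_T_move {u v : Fin n → F} (hu : u ≠ 0) (hv : v ∉ Submodule.span F ({u} : Set _)) :
    ∃ φ : Fin n → F, φ ⬝ᵥ (v - u) = 0 ∧
      ((T (v - u) φ : Matrix.SpecialLinearGroup (Fin n) F) : Matrix (Fin n) (Fin n) F) *ᵥ u = v := by
  have hu' : u ∉ Submodule.span F ({v - u} : Set (Fin n → F)) := by
    intro h
    obtain ⟨c, hc⟩ := Submodule.mem_span_singleton.1 h
    have hc0 : c ≠ 0 := by rintro rfl; exact hu (by rw [← hc, zero_smul])
    apply hv
    refine Submodule.mem_span_singleton.2 ⟨1 + c⁻¹, ?_⟩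
    have : v - u = c⁻¹ • u := (eq_inv_smul_iff₀ hc0).2 hc
    rw [add_smul, one_smul, ← this]
    abel
  obtain ⟨φ, hφ0, hφ1⟩ := exists_dot u _ hu'
  have h := hφ0 _ (Submodule.mem_span_singleton_self _)
  exact ⟨φ, h, by rw [T_mulVec h, hφ1, one_smul, add_sub_cancel]⟩

/-- two proper subspaces do not cover -/
theorem exists_not_mem_two (S S' : Submodule F (Fin n → F)) (hS : S ≠ ⊤) (hS' : S' ≠ ⊤) :
    ∃ x, x ∉ S ∧ x ∉ S' := by
  obtain ⟨a, ha⟩ : ∃ a, a ∉ S := by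
    by_contra h; push Not at h; exact hS (eq_top_iff.2 fun x _ => h x)
  obtain ⟨b, hb⟩ : ∃ b, b ∉ S' := by
    by_contra h; push Not at h; exact hS' (eq_top_iff.2 fun x _ => h x)
  by_cases ha' : a ∈ S'
  · by_cases hb' : b ∈ S
    · exact ⟨a + b, fun h => ha (by simpa using S.sub_mem h hb'),
        fun h => hb (by simpa using S'.sub_mem h ha')⟩
    · exact ⟨b, hb', hb⟩
  · exact ⟨a, ha, ha'⟩

theorem span_insert_ne_top (hn : 3 ≤ n) (a b : Fin n → F) :
    Submodule.span F ({a, b} : Set (Fin n → F)) ≠ ⊤ := by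
  classical
  intro h
  have h2 : Module.finrank F (Submodule.span F ({a, b} : Set (Fin n → F))) ≤ 2 := by
    have h3 := finrank_span_finset_le_card (R := F) ({a, b} : Finset (Fin n → F))
    rw [Set.finrank, Finset.coe_insert, Finset.coe_singleton] at h3
    exact h3.trans Finset.card_le_two
  rw [h, finrank_top, Module.finrank_fin_fun] at h2
  omega

/-- a nonzero functional killing two given vectors -/
theorem exists_dot_two (hn : 3 ≤ n) (a b : Fin n → F) :
    ∃ φ : Fin n → F, φ ≠ 0 ∧ φ ⬝ᵥ a = 0 ∧ φ ⬝ᵥ b = 0 := by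
  obtain ⟨x, hx, -⟩ := exists_not_mem_two _ _ (span_insert_ne_top hn a b) (span_insert_ne_top hn a b)
  obtain ⟨φ, h0, h1⟩ := exists_dot x _ hx
  refine ⟨φ, ?_, h0 _ (Submodule.subset_span (by simp)), h0 _ (Submodule.subset_span (by simp))⟩
  rintro rfl
  simp at h1

/-! ### duality -/

variable [Fintype F]

/-- annihilator for a primitive additive character of the field -/
noncomputable def orth (ψ : AddChar F ℂ) (K : AddSubgroup (Fin n → F)) :
    AddSubgroup (Fin n → F) where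
  carrier := {w | ∀ k ∈ K, ψ (k ⬝ᵥ w) = 1}
  zero_mem' := fun k _ => by simp
  add_mem' := fun {a b} ha hb k hk => by
    rw [dotProduct_add, AddChar.map_add_eq_mul, ha k hk, hb k hk, mul_one]
  neg_mem' := fun {a} ha k hk => by
    rw [dotProduct_neg, AddChar.map_neg_eq_inv, ha k hk, inv_one]

theorem mem_orth {ψ : AddChar F ℂ} {K : AddSubgroup (Fin n → F)} {w : Fin n → F} :
    w ∈ orth ψ K ↔ ∀ k ∈ K, ψ (k ⬝ᵥ w) = 1 := Iff.rfl

theorem exists_char : ∃ ψ : AddChar F ℂ, ∃ a, ψ a ≠ 1 := by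
  obtain ⟨ψ, hψ⟩ := (AddChar.exists_apply_ne_zero (a := (1 : F))).2 one_ne_zero
  exact ⟨ψ, 1, hψ⟩

theorem eq_zero_of_forall {ψ : AddChar F ℂ} (hψ : ∃ a, ψ a ≠ 1) {a : F}
    (h : ∀ c : F, ψ (c * a) = 1) : a = 0 := by
  by_contra ha
  obtain ⟨b, hb⟩ := hψ
  exact hb (by simpa [inv_mul_cancel_right₀, ha] using h (b * a⁻¹))

theorem card_orth_mul {ψ : AddChar F ℂ} (hψ : ∃ a, ψ a ≠ 1) (K : AddSubgroup (Fin n → F)) :
    Nat.card (orth ψ K) * Nat.card K = Fintype.card F ^ n := by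
  classical
  haveI : Fintype K := Fintype.ofFinite _
  set S : ℂ := ∑ w : Fin n → F, ∑ k : K, ψ ((k : Fin n → F) ⬝ᵥ w) with hS
  have h1 : ∀ w : Fin n → F,
      ∑ k : K, ψ ((k : Fin n → F) ⬝ᵥ w) = if w ∈ orth ψ K then (Nat.card K : ℂ) else 0 := by
    intro w
    set χ : AddChar K ℂ :=
      { toFun := fun k => ψ ((k : Fin n → F) ⬝ᵥ w)
        map_zero_eq_one' := by simp
        map_add_eq_mul' := fun a b => by
          rw [AddSubgroup.coe_add, add_dotProduct, AddChar.map_add_eq_mul] } with hχ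
    show ∑ k : K, χ k = _
    rw [AddChar.sum_eq_ite]
    have : χ = 0 ↔ w ∈ orth ψ K := by
      rw [AddChar.eq_zero_iff, mem_orth]
      exact ⟨fun h k hk => h ⟨k, hk⟩, fun h k => h k k.2⟩
    by_cases hw : w ∈ orth ψ K
    · rw [if_pos (this.2 hw), if_pos hw, Nat.card_eq_fintype_card]
    · rw [if_neg (mt this.1 hw), if_neg hw]
  have h2 : ∀ k : K,
      ∑ w : Fin n → F, ψ ((k : Fin n → F) ⬝ᵥ w) = if k = 0 then (Fintype.card F : ℂ) ^ n else 0 := by
    intro k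
    set χ : AddChar (Fin n → F) ℂ :=
      { toFun := fun w => ψ ((k : Fin n → F) ⬝ᵥ w)
        map_zero_eq_one' := by simp
        map_add_eq_mul' := fun a b => by rw [dotProduct_add, AddChar.map_add_eq_mul] } with hχ
    show ∑ w, χ w = _
    rw [AddChar.sum_eq_ite]
    have : χ = 0 ↔ k = 0 := by
      rw [AddChar.eq_zero_iff]
      refine ⟨fun h => Subtype.ext (funext fun i => eq_zero_of_forall hψ fun c => ?_),
        fun h w => by subst h; show ψ _ = 1; simp⟩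
      have := h (Pi.single i c)
      simpa [hχ, dotProduct_single, mul_comm] using this
    by_cases hk : k = 0
    · rw [if_pos (this.2 hk), if_pos hk, Fintype.card_fun, Fintype.card_fin, Nat.cast_pow]
    · rw [if_neg (mt this.1 hk), if_neg hk]
  have e1 : S = (Nat.card (orth ψ K) : ℂ) * Nat.card K := by
    rw [hS, Finset.sum_congr rfl fun w _ => h1 w, Finset.sum_ite, Finset.sum_const_zero,
      add_zero, Finset.sum_const, nsmul_eq_mul, Nat.card_eq_fintype_card (α := orth ψ K),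
      Fintype.card_subtype]
  have e2 : S = (Fintype.card F : ℂ) ^ n := by
    rw [hS, Finset.sum_comm, Finset.sum_congr rfl fun k _ => h2 k, Finset.sum_ite_eq']
    simp
  exact_mod_cast e1.symm.trans e2

end Cfsg.Agent.Lib.Elusive.SLTrans
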