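import Mathlib
import Cfsg.Agent.Lib.Elusive.SLTrans

/-!
Permutation representations of `SL n F` of degree below the number of points: the transvections
with a fixed centre act in one of two ways.
-/

set_option autoImplicit false

namespace Cfsg.Agent.Lib.Elusive.SLDichotomy

open Matrix Cfsg.Agent.Lib.Elusive.SLTrans

variable {F : Type*} [Field F] {n : ℕ} {Ω : Type*}
  (ρ : Matrix.SpecialLinearGroup (Fin n) F →* Equiv.Perm Ω)

/-- the transvection with data `v, φ` fixes `ω` -/
def Fx (v φ : Fin n → F) (ω : Ω) : Prop := ρ (T v φ) ω = ω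

/-- every point has a further vector cutting out the transvections fixing it -/
def First (v : Fin n → F) : Prop :=
  ∀ ω, ∃ w, w ∉ Submodule.span F ({v} : Set (Fin n → F)) ∧
    ∀ φ, φ ⬝ᵥ v = 0 → (Fx ρ v φ ω ↔ φ ⬝ᵥ w = 0)

/-- every point is fixed by all or by none of the transvections with centre `v` -/
def Second (v : Fin n → F) : Prop :=
  ∀ ω, (∀ φ, φ ⬝ᵥ v = 0 → Fx ρ v φ ω) ∨ (∀ φ, φ ⬝ᵥ v = 0 → Fx ρ v φ ω → φ = 0)

/-- transvection data killed by `v` -/
def perp (v : Fin n → F) : AddSubgroup (Fin n → F) where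
  carrier := {φ | φ ⬝ᵥ v = 0}
  zero_mem' := zero_dotProduct v
  add_mem' := fun {a b} ha hb => by
    show (a + b) ⬝ᵥ v = 0
    rw [add_dotProduct, show a ⬝ᵥ v = 0 from ha, show b ⬝ᵥ v = 0 from hb, add_zero]
  neg_mem' := fun {a} ha => by
    show (-a) ⬝ᵥ v = 0
    rw [neg_dotProduct, show a ⬝ᵥ v = 0 from ha, neg_zero]

theorem mem_perp {v φ : Fin n → F} : φ ∈ perp v ↔ φ ⬝ᵥ v = 0 := Iff.rfl

/-- the data of the transvections with centre `v` fixing `ω` -/
def fixData (v : Fin n → F) (ω : Ω) : AddSubgroup (Fin n → F) where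
  carrier := {φ | φ ⬝ᵥ v = 0 ∧ Fx ρ v φ ω}
  zero_mem' := ⟨zero_dotProduct v, by simp [Fx, T_zero]⟩
  add_mem' := fun {a b} ha hb => ⟨(perp v).add_mem ha.1 hb.1, by
    show ρ (T v (a + b)) ω = ω
    rw [← T_mul_T ha.1 hb.1, map_mul, Equiv.Perm.mul_apply, hb.2, ha.2]⟩
  neg_mem' := fun {a} ha => ⟨(perp v).neg_mem ha.1, by
    show ρ (T v (-a)) ω = ω
    rw [← T_neg ha.1, map_inv, Equiv.Perm.inv_eq_iff_eq]
    exact ha.2.symm⟩

theorem mem_fixData {v φ : Fin n → F} {ω : Ω} :
    φ ∈ fixData ρ v ω ↔ φ ⬝ᵥ v = 0 ∧ Fx ρ v φ ω := Iff.rfl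

/-- the transvections with centre `v` as a group of permutations -/
noncomputable def actHom (v : Fin n → F) : Multiplicative (perp v) →* Equiv.Perm Ω where
  toFun a := ρ (T v ((Multiplicative.toAdd a : perp v) : Fin n → F))
  map_one' := by simp [T_zero]
  map_mul' a b := by
    rw [← map_mul, T_mul_T (mem_perp.1 (Multiplicative.toAdd a).2)
      (mem_perp.1 (Multiplicative.toAdd b).2)]
    rfl

/-- one transvection moves some point iff conjugates do -/
theorem transport (g : Matrix.SpecialLinearGroup (Fin n) F) {v φ φ' : Fin n → F}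
    (h : φ ⬝ᵥ v = 0) (hφ : ∀ x, φ' ⬝ᵥ ((g : Matrix (Fin n) (Fin n) F) *ᵥ x) = φ ⬝ᵥ x) (ω : Ω) :
    Fx ρ ((g : Matrix (Fin n) (Fin n) F) *ᵥ v) φ' (ρ g ω) ↔ Fx ρ v φ ω := by
  unfold Fx
  rw [← conj_T g h hφ, map_mul, map_mul, map_inv, Equiv.Perm.mul_apply, Equiv.Perm.mul_apply,
    Equiv.Perm.inv_def, Equiv.symm_apply_apply]
  exact (ρ g).injective.eq_iff

theorem second_transport (g : Matrix.SpecialLinearGroup (Fin n) F) {v : Fin n → F}
    (h : Second ρ v) : Second ρ ((g : Matrix (Fin n) (Fin n) F) *ᵥ v) := by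
  intro ω
  obtain ⟨ω₀, rfl⟩ := (ρ g).surjective ω
  have key : ∀ φ', φ' ⬝ᵥ ((g : Matrix (Fin n) (Fin n) F) *ᵥ v) = 0 →
      ∃ φ, φ ⬝ᵥ v = 0 ∧ (∀ x, φ' ⬝ᵥ ((g : Matrix (Fin n) (Fin n) F) *ᵥ x) = φ ⬝ᵥ x) :=
    fun φ' h' => ⟨φ' ᵥ* (g : Matrix (Fin n) (Fin n) F), by rw [← Matrix.dotProduct_mulVec, h'],
      fun x => Matrix.dotProduct_mulVec _ _ _⟩
  rcases h ω₀ with h1 | h1
  · refine Or.inl fun φ' h' => ?_
    obtain ⟨φ, hv, hφ⟩ := key φ' h'
    exact (transport ρ g hv hφ ω₀).2 (h1 φ hv)
  · refine Or.inr fun φ' h' hfx => ?_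
    obtain ⟨φ, hv, hφ⟩ := key φ' h'
    have h0 : φ = 0 := h1 φ hv ((transport ρ g hv hφ ω₀).1 hfx)
    refine dotProduct_eq_zero φ' fun x => ?_
    rw [← mulVec_inv_mulVec g x, hφ, h0, zero_dotProduct]

theorem card_le_span_pair [Fintype F] (v w : Fin n → F) (S : Set (Fin n → F))
    (hS : ∀ x ∈ S, x ∈ Submodule.span F ({v, w} : Set (Fin n → F))) :
    Nat.card S ≤ Fintype.card F ^ 2 := by
  calc Nat.card S ≤ Nat.card (Set.range fun p : F × F => p.1 • v + p.2 • w) :=
        Nat.card_mono (Set.toFinite _) (fun x hx => by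
          obtain ⟨a, b, rfl⟩ := Submodule.mem_span_pair.1 (hS x hx)
          exact ⟨(a, b), rfl⟩)
    _ ≤ Nat.card (F × F) := Finite.card_range_le _
    _ = Fintype.card F ^ 2 := by rw [Nat.card_prod, Nat.card_eq_fintype_card, sq]

/-- an additive group invariant under the transvections fixing `v` and one of its vectors `w`
is small or everything -/
theorem span_or_top (hn : 3 ≤ n) {v w : Fin n → F} (A : AddSubgroup (Fin n → F))
    (hv : ∀ c : F, c • v ∈ A)
    (hinv : ∀ x φ : Fin n → F, φ ⬝ᵥ x = 0 → φ ⬝ᵥ v = 0 → ∀ w₁ ∈ A, φ ⬝ᵥ w₁ = 0 → w₁ ∉ Submodule.span F ({v} : Set (Fin n → F)) →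
      ∀ y ∈ A, y + (φ ⬝ᵥ y) • x ∈ A)
    (hw : w ∈ A) (hwv : w ∉ Submodule.span F ({v} : Set (Fin n → F))) :
    (∀ x ∈ A, x ∈ Submodule.span F ({v, w} : Set (Fin n → F))) ∨ A = ⊤ := by
  by_cases h : ∀ x ∈ A, x ∈ Submodule.span F ({v, w} : Set (Fin n → F))
  · exact Or.inl h
  push Not at h
  obtain ⟨u, hu, hu'⟩ := h
  refine Or.inr (eq_top_iff.2 fun x _ => ?_)
  -- kernels of functionals killing `v` and one of `w, u` but not the other lie in `A`
  have key : ∀ a ∈ A, a ∉ Submodule.span F ({v} : Set (Fin n → F)) → ∀ b ∈ A, ∀ φ : Fin n → F, φ ⬝ᵥ v = 0 → φ ⬝ᵥ a = 0 →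
      φ ⬝ᵥ b = 1 → ∀ y, φ ⬝ᵥ y = 0 → y ∈ A := by
    intro a ha hav b hb φ h1 h2 h3 y h4
    have h5 := hinv y φ h4 h1 a ha h2 hav b hb
    rw [h3, one_smul] at h5
    simpa using A.sub_mem h5 hb
  have huv : u ∉ Submodule.span F ({v} : Set (Fin n → F)) := fun h' =>
    hu' (Submodule.span_mono (by simp) h')
  have hwu : w ∉ Submodule.span F ({v, u} : Set (Fin n → F)) := by
    intro h'
    obtain ⟨a, b, hab⟩ := Submodule.mem_span_pair.1 h'
    by_cases hb : b = 0
    · subst hb
      exact hwv (Submodule.mem_span_singleton.2 ⟨a, by rw [← hab, zero_smul, add_zero]⟩)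
    · apply hu'
      refine Submodule.mem_span_pair.2 ⟨-(b⁻¹ * a), b⁻¹, ?_⟩
      rw [← hab, smul_add, smul_smul, smul_smul, inv_mul_cancel₀ hb, one_smul, neg_smul]
      abel
  obtain ⟨φ, hφ0, hφ1⟩ := exists_dot u _ hu'
  obtain ⟨χ, hχ0, hχ1⟩ := exists_dot w _ hwu
  have k1 := key w hw hwv u hu φ (hφ0 v (Submodule.subset_span (by simp)))
    (hφ0 w (Submodule.subset_span (by simp))) hφ1
  have k2 := key u hu huv w hw χ (hχ0 v (Submodule.subset_span (by simp)))
    (hχ0 u (Submodule.subset_span (by simp))) hχ1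
  have e1 : (φ ⬝ᵥ x) • u ∈ A := by
    refine k2 _ ?_
    rw [dotProduct_smul, hχ0 u (Submodule.subset_span (by simp)), smul_zero]
  have e2 : x - (φ ⬝ᵥ x) • u ∈ A := by
    refine k1 _ ?_
    rw [dotProduct_sub, dotProduct_smul, hφ1, smul_eq_mul, mul_one, sub_self]
  simpa using A.add_mem e2 e1

set_option maxHeartbeats 1600000 in
theorem dichotomy [Fintype F] [Finite Ω] (hn : 3 ≤ n) (v : Fin n → F) (hv : v ≠ 0)
    (hmove : ∃ φ ω, φ ⬝ᵥ v = 0 ∧ ¬ Fx ρ v φ ω)
    (hsmall : Nat.card Ω * (Fintype.card F - 1) < Fintype.card F ^ n - 1) :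
    First ρ v ∨ (Second ρ v ∧ ((∀ ω φ, φ ⬝ᵥ v = 0 → Fx ρ v φ ω → φ = 0) →
      ∀ ω ω', ∃ φ, φ ⬝ᵥ v = 0 ∧ ρ (T v φ) ω = ω')) := by
  classical
  obtain ⟨ψ, hψ⟩ := exists_char (F := F)
  set q := Fintype.card F with hq
  have hq2 : 2 ≤ q := Fintype.one_lt_card
  letI act : MulAction (Multiplicative (perp v)) Ω := MulAction.compHom Ω (actHom ρ v)
  have hsmul : ∀ (a : Multiplicative (perp v)) (ω : Ω),
      a • ω = ρ (T v ((Multiplicative.toAdd a : perp v) : Fin n → F)) ω := fun _ _ => rfl
  set A : Ω → AddSubgroup (Fin n → F) := fun ω => orth ψ (fixData ρ v ω) with hA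
  -- scalar multiples of v
  have hAv : ∀ ω (c : F), c • v ∈ A ω := fun ω c k hk => by
    rw [dotProduct_smul, hk.1, smul_zero, AddChar.map_zero_eq_one]
  -- orbit size
  have hperp : Nat.card (perp v) * q = q ^ n := by
    have h1 := card_orth_mul hψ (AddSubgroup.map
      ((LinearMap.toSpanSingleton F (Fin n → F) v).toAddMonoidHom) ⊤)
    have h2 : orth ψ (AddSubgroup.map
        ((LinearMap.toSpanSingleton F (Fin n → F) v).toAddMonoidHom) ⊤) = perp v := by
      ext φ
      rw [mem_orth, mem_perp]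
      constructor
      · intro h
        refine eq_zero_of_forall hψ fun c => ?_
        have := h (c • v) ⟨c, trivial, rfl⟩
        rwa [smul_dotProduct, dotProduct_comm, smul_eq_mul] at this
      · rintro h k ⟨c, -, rfl⟩
        show ψ ((c • v) ⬝ᵥ φ) = 1
        rw [smul_dotProduct, dotProduct_comm, h, smul_zero, AddChar.map_zero_eq_one]
    rw [h2] at h1
    rw [← h1]
    congr 1
    rw [AddSubgroup.card_map_of_injective, AddSubgroup.card_top, Nat.card_eq_fintype_card]
    intro a b hab
    exact smul_left_injective F hv hab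
  have hstab : ∀ ω, Nat.card (MulAction.stabilizer (Multiplicative (perp v)) ω) =
      Nat.card (fixData ρ v ω) := fun ω => Nat.card_congr
    { toFun := fun a => ⟨((Multiplicative.toAdd a.1 : perp v) : Fin n → F),
        mem_perp.1 (Multiplicative.toAdd a.1).2, a.2⟩
      invFun := fun φ => ⟨Multiplicative.ofAdd ⟨φ.1, mem_perp.2 φ.2.1⟩, φ.2.2⟩
      left_inv := fun a => rfl
      right_inv := fun φ => rfl }
  have hAcard : ∀ ω, Nat.card (A ω) =
      q * Nat.card (MulAction.orbit (Multiplicative (perp v)) ω) := by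
    intro ω
    have h1 := card_orth_mul hψ (fixData ρ v ω)
    have h2 : Nat.card (MulAction.orbit (Multiplicative (perp v)) ω) *
        Nat.card (MulAction.stabilizer (Multiplicative (perp v)) ω) =
        Nat.card (Multiplicative (perp v)) := by
      rw [Nat.card_congr (MulAction.orbitEquivQuotientStabilizer (Multiplicative (perp v)) ω)]
      exact (Subgroup.card_eq_card_quotient_mul_card_subgroup _).symm
    rw [hstab, Nat.card_congr Multiplicative.toAdd] at h2
    have h3 : 0 < Nat.card (fixData ρ v ω) := Nat.card_pos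
    apply Nat.eq_of_mul_eq_mul_right h3
    rw [h1, mul_assoc, h2, mul_comm, hperp]
  -- equivariance
  have hequiv : ∀ (g : Matrix.SpecialLinearGroup (Fin n) F),
      (g : Matrix (Fin n) (Fin n) F) *ᵥ v = v → ∀ ω w, w ∈ A ω →
        (g : Matrix (Fin n) (Fin n) F) *ᵥ w ∈ A (ρ g ω) := by
    intro g hg ω w hw k hk
    obtain ⟨hk1, hk2⟩ := hk
    set φ := k ᵥ* (g : Matrix (Fin n) (Fin n) F)
    have hφ : ∀ x, k ⬝ᵥ ((g : Matrix (Fin n) (Fin n) F) *ᵥ x) = φ ⬝ᵥ x :=
      fun x => Matrix.dotProduct_mulVec _ _ _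
    have hφv : φ ⬝ᵥ v = 0 := by rw [← hφ, hg, hk1]
    have := transport ρ g hφv hφ ω
    rw [hg] at this
    rw [hφ]
    exact hw φ ⟨hφv, this.1 hk2⟩
  have hA_orbit : ∀ (a : Multiplicative (perp v)) ω, A (a • ω) = A ω := by
    intro a ω
    have : fixData ρ v (a • ω) = fixData ρ v ω := by
      ext φ
      simp only [mem_fixData]
      refine and_congr_right fun hφ => ?_
      have hx : ρ (T v φ) (a • ω) = a • ρ (T v φ) ω := by
        rw [hsmul, hsmul, ← Equiv.Perm.mul_apply, ← map_mul, ← Equiv.Perm.mul_apply, ← map_mul,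
          T_mul_T hφ (mem_perp.1 (Multiplicative.toAdd a).2),
          T_mul_T (mem_perp.1 (Multiplicative.toAdd a).2) hφ, add_comm]
      unfold Fx
      rw [hx, smul_left_cancel_iff]
    simp only [hA, this]
  let R := MulAction.orbitRel.Quotient (Multiplicative (perp v)) Ω
  haveI : Fintype R := Fintype.ofFinite _
  haveI : Fintype Ω := Fintype.ofFinite _
  set r := Fintype.card R with hr
  set AQ : R → AddSubgroup (Fin n → F) := fun O => Quotient.liftOn' O A (by
    rintro a b ⟨c, rfl⟩; exact hA_orbit c b) with hAQ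
  have hAQmk : ∀ ω, AQ (Quotient.mk'' ω) = A ω := fun ω => rfl
  have hOcard : ∀ O : R, Nat.card (AQ O) = q * Nat.card O.orbit := by
    intro O
    induction O using Quotient.inductionOn' with
    | h ω => rw [MulAction.orbitRel.Quotient.orbit_mk, hAQmk, hAcard]
  have hsum : ∑ O : R, Nat.card O.orbit = Nat.card Ω := by
    rw [Nat.card_congr (MulAction.selfEquivSigmaOrbits' (Multiplicative (perp v)) Ω), Nat.card_sigma]
  -- multiplicities
  set mult : (Fin n → F) → ℕ := fun w => (Finset.univ.filter fun O : R => w ∈ AQ O).card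
    with hmult
  have hdc : ∑ w, mult w = q * Nat.card Ω := by
    calc ∑ w, mult w = ∑ w, ∑ O : R, if w ∈ AQ O then 1 else 0 := by
          simp only [hmult, Finset.card_filter]
      _ = ∑ O : R, ∑ w, if w ∈ AQ O then 1 else 0 := Finset.sum_comm
      _ = ∑ O : R, Nat.card (AQ O) := Finset.sum_congr rfl fun O _ => by
          rw [← Finset.card_filter, Nat.card_eq_fintype_card, Fintype.card_subtype]
      _ = q * Nat.card Ω := by rw [← hsum, Finset.mul_sum]; simp only [hOcard]
  have hmultv : ∀ c : F, mult (c • v) = r := by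
    intro c
    simp only [hmult, hr]
    rw [Finset.filter_true_of_mem fun O _ => ?_, Finset.card_univ]
    induction O using Quotient.inductionOn' with
    | h ω => exact hAv ω c
  have hmove_mult : ∀ g : Matrix.SpecialLinearGroup (Fin n) F,
      (g : Matrix (Fin n) (Fin n) F) *ᵥ v = v → ∀ w,
        mult w ≤ mult ((g : Matrix (Fin n) (Fin n) F) *ᵥ w) := by
    intro g hg w
    have hcomm : ∀ (a : Multiplicative (perp v)) ω, ∃ b : Multiplicative (perp v),
        ρ g (a • ω) = b • ρ g ω := by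
      intro a ω
      obtain ⟨φ', hφ'⟩ := exists_pullback g ((Multiplicative.toAdd a : perp v) : Fin n → F)
      have hv' : φ' ⬝ᵥ v = 0 := by
        rw [← hg, hφ']; exact mem_perp.1 (Multiplicative.toAdd a).2
      refine ⟨Multiplicative.ofAdd ⟨φ', mem_perp.2 hv'⟩, ?_⟩
      have hc := conj_T g (mem_perp.1 (Multiplicative.toAdd a).2) hφ'
      rw [hg, mul_inv_eq_iff_eq_mul] at hc
      rw [hsmul, hsmul, ← Equiv.Perm.mul_apply, ← map_mul, hc, map_mul, Equiv.Perm.mul_apply]
      rfl
    set f : R → R := Quotient.map' (ρ g) (by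
      rintro a b ⟨c, rfl⟩
      obtain ⟨d, hd⟩ := hcomm c b
      exact ⟨d, hd.symm⟩) with hf
    have hfs : Function.Surjective f := by
      intro O
      induction O using Quotient.inductionOn' with
      | h ω =>
        obtain ⟨ω₀, rfl⟩ := (ρ g).surjective ω
        exact ⟨Quotient.mk'' ω₀, rfl⟩
    have hfi : Function.Injective f := Finite.injective_iff_surjective.2 hfs
    refine Finset.card_le_card_of_injOn f (fun O hO => ?_) hfi.injOn
    simp only [Finset.coe_filter, Finset.mem_univ, true_and, Set.mem_setOf_eq] at hO ⊢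
    induction O using Quotient.inductionOn' with
    | h ω => exact hequiv g hg ω w hO
  set out : Finset (Fin n → F) :=
    Finset.univ.filter fun w => w ∉ Submodule.span F ({v} : Set (Fin n → F)) with hout
  have hconst : ∀ w ∈ out, ∀ w' ∈ out, mult w ≤ mult w' := by
    have step : ∀ a b : Fin n → F, b ∉ Submodule.span F ({v, a} : Set _) →
        a ∉ Submodule.span F ({v, b} : Set _) → mult a ≤ mult b := by
      intro a b hb ha
      have ha' : a ∉ Submodule.span F ({v, b - a} : Set (Fin n → F)) := by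
        intro h'
        obtain ⟨c, d, hcd⟩ := Submodule.mem_span_pair.1 h'
        by_cases hd : 1 + d = 0
        · apply hb
          refine Submodule.mem_span_pair.2 ⟨c, 0, ?_⟩
          have hd' : d = -1 := by linear_combination hd
          rw [hd', neg_one_smul] at hcd
          rw [zero_smul, add_zero]
          calc c • v = c • v + -(b - a) + (b - a) := by abel
            _ = b := by rw [hcd]; abel
        · apply ha
          refine Submodule.mem_span_pair.2 ⟨(1 + d)⁻¹ * c, (1 + d)⁻¹ * d, ?_⟩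
          rw [mul_smul, mul_smul, ← smul_add]
          have : c • v + d • b = (1 + d) • a := by
            rw [add_smul, one_smul]
            conv_rhs => arg 1; rw [← hcd]
            rw [smul_sub]; abel
          rw [this, inv_smul_smul₀ hd]
      obtain ⟨φ, h0, h1⟩ := exists_dot a _ ha'
      have hd : φ ⬝ᵥ (b - a) = 0 := h0 _ (Submodule.subset_span (by simp))
      have hgv := T_mulVec hd v
      rw [h0 v (Submodule.subset_span (by simp)), zero_smul, add_zero] at hgv
      have := hmove_mult _ hgv a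
      rwa [T_mulVec hd, h1, one_smul, add_sub_cancel] at this
    intro w hw w' hw'
    simp only [hout, Finset.mem_filter, Finset.mem_univ, true_and] at hw hw'
    obtain ⟨u, hu, hu'⟩ := exists_not_mem_two _ _ (span_insert_ne_top hn v w)
      (span_insert_ne_top hn v w')
    have hswap : ∀ a b : Fin n → F, a ∉ Submodule.span F ({v} : Set _) →
        b ∉ Submodule.span F ({v, a} : Set _) → a ∉ Submodule.span F ({v, b} : Set _) := by
      intro a b ha hb h'
      obtain ⟨c, d, hcd⟩ := Submodule.mem_span_pair.1 h'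
      by_cases hd : d = 0
      · subst hd
        exact ha (Submodule.mem_span_singleton.2 ⟨c, by rw [← hcd, zero_smul, add_zero]⟩)
      · apply hb
        refine Submodule.mem_span_pair.2 ⟨-(d⁻¹ * c), d⁻¹, ?_⟩
        rw [← hcd, smul_add, smul_smul, smul_smul, inv_mul_cancel₀ hd, one_smul, neg_smul]
        abel
    exact (step w u hu (hswap w u hw hu)).trans (step u w' (hswap w' u hw' hu') hu')
  obtain ⟨φ₀, ω₀, hφ₀, hω₀⟩ := hmove
  -- some orbit is nontrivial
  have hbig : ∀ ω, Nat.card (A ω) ≤ q → ∀ φ, φ ⬝ᵥ v = 0 → Fx ρ v φ ω := by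
    intro ω hle φ hφ
    rw [hAcard] at hle
    have h1 : Nat.card (MulAction.orbit (Multiplicative (perp v)) ω) ≤ 1 := by nlinarith
    rw [Finite.card_le_one_iff_subsingleton] at h1
    exact congrArg Subtype.val (h1.elim
      (⟨_, MulAction.mem_orbit ω (Multiplicative.ofAdd (⟨φ, mem_perp.2 hφ⟩ : perp v))⟩ :
        MulAction.orbit (Multiplicative (perp v)) ω)
      ⟨ω, MulAction.mem_orbit_self ω⟩)
  have hsp : (Finset.univ.filter fun w : Fin n → F =>
      w ∈ Submodule.span F ({v} : Set _)).card = q := by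
    rw [← Fintype.card_subtype, ← Nat.card_eq_fintype_card]
    exact (Nat.card_congr (LinearEquiv.toSpanNonzeroSingleton F (Fin n → F) v hv).toEquiv).symm.trans
      Nat.card_eq_fintype_card
  have hout_card : out.card + q = q ^ n := by
    have := Finset.card_filter_add_card_filter_not (s := (Finset.univ : Finset (Fin n → F)))
      (fun w => w ∈ Submodule.span F ({v} : Set _))
    rw [hsp, Finset.card_univ, Fintype.card_fun, Fintype.card_fin, ← hq] at this
    rw [hout]; omega
  obtain ⟨w₀, hw₀⟩ : out.Nonempty := by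
    rw [← Finset.card_pos]
    have : q ^ 1 < q ^ n := Nat.pow_lt_pow_right (by omega) (by omega)
    rw [pow_one] at this
    omega
  set m := mult w₀ with hm
  have hmult_out : ∀ w ∈ out, mult w = m := fun w hw =>
    le_antisymm (hconst w hw w₀ hw₀) (hconst w₀ hw₀ w hw)
  clear_value m
  have hdc2 : out.card * m + q * r = q * Nat.card Ω := by
    rw [← hdc, ← Finset.sum_filter_add_sum_filter_not Finset.univ
      (fun w => w ∈ Submodule.span F ({v} : Set _)), add_comm]
    congr 1
    · rw [Finset.sum_congr rfl (fun w hw => ?_), Finset.sum_const, hsp, smul_eq_mul]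
      obtain ⟨-, hw'⟩ := Finset.mem_filter.1 hw
      obtain ⟨c, rfl⟩ := Submodule.mem_span_singleton.1 hw'
      exact hmultv c
    · rw [Finset.sum_congr rfl hmult_out, Finset.sum_const, smul_eq_mul]
  -- q * E = q ^ n
  set E := q ^ (n - 1) with hE
  have hqE : q * E = q ^ n := by
    rw [hE, ← pow_succ']; congr 1; omega
  have hE4 : q * q ≤ E := by
    rw [hE, ← pow_two]; exact Nat.pow_le_pow_right (by omega) (by omega)
  have hX : Nat.card Ω + m = r + m * E := by
    apply Nat.eq_of_mul_eq_mul_left (show 0 < q by omega)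
    rw [mul_add, mul_add, ← hdc2, ← mul_assoc, mul_comm q m, mul_assoc, hqE, ← hout_card]
    ring
  clear_value r
  have hm1 : m = 1 := by
    clear_value E
    rcases Nat.lt_or_ge m 1 with h | h
    · exfalso
      have hm0 : m = 0 := by omega
      apply hω₀ (hbig ω₀ ?_ φ₀ hφ₀)
      rw [Nat.card_eq_fintype_card, Fintype.card_subtype, ← hsp]
      refine Finset.card_le_card fun w hw => ?_
      simp only [Finset.mem_filter, Finset.mem_univ, true_and] at hw ⊢
      by_contra hn'
      have h1 := hmult_out w (Finset.mem_filter.2 ⟨Finset.mem_univ _, hn'⟩)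
      rw [hm0, hmult] at h1
      have h2 : (Quotient.mk'' ω₀ : R) ∈ Finset.univ.filter fun O : R => w ∈ AQ O :=
        Finset.mem_filter.2 ⟨Finset.mem_univ _, hw⟩
      rw [Finset.card_eq_zero.1 h1] at h2
      exact Finset.notMem_empty _ h2
    rcases Nat.lt_or_ge m 2 with h' | h'
    · omega
    exfalso
    have hr1 : 1 ≤ r := by
      rw [hr]
      exact Fintype.card_pos_iff.2 ⟨(Quotient.mk'' ω₀ : R)⟩
    have h3 : 2 * E ≤ Nat.card Ω + 1 := by
      obtain ⟨e, he⟩ : ∃ e, E = e + 1 := ⟨E - 1, by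
        have : 1 ≤ E := by nlinarith
        omega⟩
      rw [he] at hX ⊢
      nlinarith
    rw [← hqE] at hsmall
    obtain ⟨t, ht⟩ : ∃ t, q = t + 2 := ⟨q - 2, by omega⟩
    rw [ht, show t + 2 - 1 = t + 1 by omega] at hsmall
    have h4 : (2 * E) * (t + 1) ≤ (Nat.card Ω + 1) * (t + 1) := Nat.mul_le_mul_right _ h3
    have h5 : (t + 2) * E ≥ 1 := by nlinarith
    have h6 : Nat.card Ω * (t + 1) + 1 < (t + 2) * E := by omega
    nlinarith
  rw [hm1, one_mul] at hX
  have huniq : ∀ w ∈ out, ∀ O O' : R, w ∈ AQ O → w ∈ AQ O' → O = O' := fun w hw O O' h h' => by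
    have h1 : (Finset.univ.filter fun O : R => w ∈ AQ O).card ≤ 1 := by
      show mult w ≤ 1
      rw [hmult_out w hw, hm1]
    exact Finset.card_le_one.1 h1 O (by simp [h]) O' (by simp [h'])
  have htop : ∀ ω, A ω = ⊤ → ∀ φ, φ ⬝ᵥ v = 0 → Fx ρ v φ ω → φ = 0 := by
    intro ω h φ hφ hfx
    refine dotProduct_eq_zero φ fun x => eq_zero_of_forall hψ fun c => ?_
    have hcx : c • x ∈ A ω := by rw [h]; trivial
    have := hcx φ ⟨hφ, hfx⟩
    rwa [dotProduct_smul, smul_eq_mul] at this
  by_cases hex : ∃ ω, A ω = ⊤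
  · right
    obtain ⟨ω₁, hω₁⟩ := hex
    have honly : ∀ ω, (Quotient.mk'' ω : R) = Quotient.mk'' ω₁ ∨ ∀ φ, φ ⬝ᵥ v = 0 → Fx ρ v φ ω := by
      intro ω
      by_cases he : (Quotient.mk'' ω : R) = Quotient.mk'' ω₁
      · exact Or.inl he
      refine Or.inr (hbig ω ?_)
      rw [Nat.card_eq_fintype_card, Fintype.card_subtype, ← hsp]
      refine Finset.card_le_card fun w hw => ?_
      simp only [Finset.mem_filter, Finset.mem_univ, true_and] at hw ⊢
      by_contra hn'
      exact he (huniq w (Finset.mem_filter.2 ⟨Finset.mem_univ _, hn'⟩) _ _ hw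
        (by rw [hAQmk, hω₁]; trivial))
    refine ⟨fun ω => ?_, fun hfree ω ω' => ?_⟩
    · rcases honly ω with h | h
      · refine Or.inr (htop ω ?_)
        rw [← hAQmk, h, hAQmk, hω₁]
      · exact Or.inl h
    · have hall : ∀ ω, (Quotient.mk'' ω : R) = Quotient.mk'' ω₁ := fun a =>
        (honly a).resolve_right fun h => by
          obtain ⟨χ, hχ, hχv, -⟩ := exists_dot_two hn v v
          exact hχ (hfree a χ hχv (h χ hχv))
      obtain ⟨a, ha⟩ := Quotient.exact' ((hall ω').trans (hall ω).symm)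
      exact ⟨_, mem_perp.1 (Multiplicative.toAdd a).2, ha⟩
  · left
    push Not at hex
    have hsmall' : ∀ O : R, Nat.card (AQ O) ≤ q ^ 2 ∧ ((∀ x ∈ AQ O, x ∈ Submodule.span F ({v} : Set _)) ∨
        ∃ w, w ∉ Submodule.span F ({v} : Set _) ∧ w ∈ AQ O ∧
          ∀ x ∈ AQ O, x ∈ Submodule.span F ({v, w} : Set _)) := by
      intro O
      induction O using Quotient.inductionOn' with
      | h ω =>
        rw [hAQmk]
        by_cases h : ∀ x ∈ A ω, x ∈ Submodule.span F ({v} : Set _)
        · exact ⟨card_le_span_pair v v _ fun x hx => by simpa using h x hx, Or.inl h⟩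
        push Not at h
        obtain ⟨w, hw, hwv⟩ := h
        have hsp2 := (span_or_top hn (A ω) (hAv ω)
          (fun x φ hx hφv w₁ hw₁ hφw hwv₁ y hy => by
            set g := T x φ with hg
            have hgv : (g : Matrix (Fin n) (Fin n) F) *ᵥ v = v := by
              rw [hg, T_mulVec hx, hφv, zero_smul, add_zero]
            have hgw : (g : Matrix (Fin n) (Fin n) F) *ᵥ w₁ = w₁ := by
              rw [hg, T_mulVec hx, hφw, zero_smul, add_zero]
            have h1 := hequiv g hgv ω w₁ hw₁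
            rw [hgw] at h1
            have h2 := huniq w₁ (Finset.mem_filter.2 ⟨Finset.mem_univ _, hwv₁⟩)
              (Quotient.mk'' ω) (Quotient.mk'' (ρ g ω)) hw₁ h1
            have h3 := hequiv g hgv ω y hy
            rw [← hAQmk (ρ g ω), ← h2, hAQmk, hg, T_mulVec hx] at h3
            exact h3) hw hwv).resolve_right (hex ω)
        exact ⟨card_le_span_pair v w _ hsp2, Or.inr ⟨w, hwv, hw, hsp2⟩⟩
    have h1 : q * Nat.card Ω ≤ r * q ^ 2 := by
      rw [← hsum, Finset.mul_sum, hr, ← Finset.card_univ, ← smul_eq_mul, ← Finset.sum_const]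
      exact Finset.sum_le_sum fun O _ => (hOcard O) ▸ (hsmall' O).1
    have h2 : Nat.card Ω ≤ r * q := by nlinarith
    -- the number of orbits is forced
    obtain ⟨k, hk⟩ : (q - 1) ∣ E - 1 := by
      simpa [hE] using Nat.sub_one_dvd_pow_sub_one q (n - 1)
    obtain ⟨t, ht⟩ : ∃ t, q = t + 1 := ⟨q - 1, by omega⟩
    have hrk : Nat.card Ω = r * q := by
      rw [← hqE, ht, Nat.add_sub_cancel] at hsmall
      rw [ht, Nat.add_sub_cancel] at hk
      rw [ht] at h2 hE4 ⊢
      have hEk : E = t * k + 1 := by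
        have : 1 ≤ E := by nlinarith
        omega
      have hX' : Nat.card Ω = r + t * k := by omega
      rw [hX'] at hsmall h2 ⊢
      rw [hEk] at hsmall
      have h5 : (r + t * k) * t + 1 < (t + 1) * (t * k + 1) := by omega
      have hk1 : k ≤ r := by
        by_contra hlt
        have : t * (r + 1) ≤ t * k := Nat.mul_le_mul_left _ (by omega)
        nlinarith
      have hk2 : r ≤ k := by
        by_contra hlt
        have : (k + 1) * t ≤ r * t := Nat.mul_le_mul_right _ (by omega)
        nlinarith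
      have : r = k := by omega
      subst this
      ring
    have heq : ∀ O : R, Nat.card (AQ O) = q ^ 2 := by
      have h6 : ∑ O : R, Nat.card (AQ O) = ∑ _O : R, q ^ 2 := by
        rw [Finset.sum_const, Finset.card_univ, ← hr, smul_eq_mul]
        simp only [hOcard]
        rw [← Finset.mul_sum, hsum, hrk]
        ring
      intro O
      exact (Finset.sum_eq_sum_iff_of_le fun O _ => (hsmall' O).1).1 h6 O (Finset.mem_univ _)
    intro ω
    rcases (hsmall' (Quotient.mk'' ω)).2 with h | ⟨w, hwv, hw, hsp2⟩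
    · exfalso
      have h7 : Nat.card (AQ (Quotient.mk'' ω : R)) ≤ q := by
        rw [Nat.card_eq_fintype_card, Fintype.card_subtype, ← hsp]
        exact Finset.card_le_card fun x hx => by simpa using h x (by simpa using hx)
      rw [heq] at h7
      nlinarith
    refine ⟨w, hwv, fun φ hφ => ?_⟩
    have hc := heq (Quotient.mk'' ω)
    rw [hAQmk] at hc hw hsp2
    -- A ω is the whole span
    set L := (Submodule.span F ({v, w} : Set (Fin n → F))).toAddSubgroup with hL
    have hAL : A ω = L := by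
      refine AddSubgroup.eq_of_le_of_card_ge (fun x hx => hsp2 x hx) ?_
      rw [hc]
      exact card_le_span_pair v w (L : Set (Fin n → F)) fun x hx => hx
    constructor
    · intro hfx
      refine eq_zero_of_forall hψ fun c => ?_
      have hcw : c • w ∈ A ω := by
        rw [hAL]
        exact Submodule.smul_mem _ c (Submodule.subset_span (by simp))
      have := hcw φ ⟨hφ, hfx⟩
      rwa [dotProduct_smul, smul_eq_mul] at this
    · intro hφw
      -- cardinalities of double annihilators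
      have hsub : fixData ρ v ω ≤ orth ψ L := by
        intro k hk x hx
        rw [← hAL] at hx
        rw [dotProduct_comm]
        exact hx k hk
      have h8 := card_orth_mul hψ L
      have h9 : Nat.card (A ω) * Nat.card (fixData ρ v ω) = q ^ n := card_orth_mul hψ _
      rw [hAL, mul_comm, ← h8] at h9
      have h10 : Nat.card (fixData ρ v ω) = Nat.card (orth ψ L) :=
        Nat.eq_of_mul_eq_mul_right Nat.card_pos h9
      have h11 := AddSubgroup.eq_of_le_of_card_ge hsub h10.ge
      have : φ ∈ fixData ρ v ω := by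
        rw [h11]
        intro x hx
        obtain ⟨a, b, rfl⟩ := Submodule.mem_span_pair.1 hx
        rw [dotProduct_comm, dotProduct_add, dotProduct_smul, dotProduct_smul, hφ, hφw, smul_zero,
          smul_zero, add_zero, AddChar.map_zero_eq_one]
      exact this.2

end Cfsg.Agent.Lib.Elusive.SLDichotomy
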