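import Mathlib
import Cfsg.Agent.Lib.Elusive.SLTrans
import Cfsg.Agent.Lib.Elusive.SLDichotomy

/-!
Every nontrivial transitive permutation representation of `SL n F`, `n ≥ 3`, `(n,q) ≠ (4,2)`,
has degree at least `(q^n - 1)/(q - 1)`.
-/

set_option autoImplicit false

namespace Cfsg.Agent.Lib.Elusive.SLMinIndex

open Matrix Cfsg.Agent.Lib.Elusive.SLTrans Cfsg.Agent.Lib.Elusive.SLDichotomy

variable {F : Type*} [Field F] {n : ℕ} {Ω : Type*}

/-- in a plane, two independent vectors span each spanning vector -/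
theorem pair_mem {a b c d : Fin n → F} (ha : a ∈ Submodule.span F ({c, d} : Set _))
    (hb : b ∈ Submodule.span F ({c, d} : Set _)) (ha0 : a ≠ 0)
    (hba : b ∉ Submodule.span F ({a} : Set _)) :
    c ∈ Submodule.span F ({a, b} : Set _) := by
  obtain ⟨al, be, rfl⟩ := Submodule.mem_span_pair.1 ha
  obtain ⟨ga, de, rfl⟩ := Submodule.mem_span_pair.1 hb
  by_cases hD : al * de - be * ga = 0
  · exfalso
    apply hba
    by_cases hal : al = 0
    · have hbe : be ≠ 0 := by
        rintro rfl; exact ha0 (by rw [hal, zero_smul, zero_smul, add_zero])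
      have hga : ga = 0 := by simpa [hal, hbe] using hD
      refine Submodule.mem_span_singleton.2 ⟨be⁻¹ * de, ?_⟩
      simp only [hal, hga, zero_smul, zero_add]
      rw [smul_smul, mul_assoc,
        mul_comm de be, ← mul_assoc, inv_mul_cancel₀ hbe, one_mul]
    · refine Submodule.mem_span_singleton.2 ⟨al⁻¹ * ga, ?_⟩
      have hde : al⁻¹ * ga * be = de := by
        field_simp
        linear_combination -hD
      have hga : al⁻¹ * ga * al = ga := by field_simp
      rw [smul_add, smul_smul, smul_smul, hde, hga]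
  · refine Submodule.mem_span_pair.2
      ⟨(al * de - be * ga)⁻¹ * de, -((al * de - be * ga)⁻¹ * be), ?_⟩
    ext i
    simp only [Pi.add_apply, Pi.smul_apply, smul_eq_mul]
    field_simp
    ring

/-- inverse transpose -/
noncomputable def invT : Matrix.SpecialLinearGroup (Fin n) F →* Matrix.SpecialLinearGroup (Fin n) F where
  toFun g := ((Subtype.mk ((g : Matrix (Fin n) (Fin n) F)ᵀ)
    (by rw [Matrix.det_transpose]; exact g.2)) : Matrix.SpecialLinearGroup (Fin n) F)⁻¹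
  map_one' := inv_eq_one.2 (Subtype.ext Matrix.transpose_one)
  map_mul' g h := by
    refine Eq.trans ?_ (_root_.mul_inv_rev _ _)
    exact congrArg (fun a : Matrix.SpecialLinearGroup (Fin n) F => a⁻¹)
      (Subtype.ext (Matrix.transpose_mul _ _))

theorem invT_T {v φ : Fin n → F} (h : φ ⬝ᵥ v = 0) : invT (T v φ) = T φ (-v) := by
  have h' : v ⬝ᵥ φ = 0 := by rwa [dotProduct_comm]
  rw [← T_neg h']
  refine congrArg (fun a : Matrix.SpecialLinearGroup (Fin n) F => a⁻¹) (Subtype.ext ?_)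
  show ((T v φ : Matrix.SpecialLinearGroup (Fin n) F) : Matrix (Fin n) (Fin n) F)ᵀ = _
  rw [coe_T h, coe_T h', tmat, tmat, Matrix.transpose_add, Matrix.transpose_one,
    Matrix.transpose_vecMulVec]

theorem invT_surjective : Function.Surjective (invT (F := F) (n := n)) := by
  intro g
  refine ⟨((Subtype.mk (((g⁻¹ : Matrix.SpecialLinearGroup (Fin n) F) : Matrix (Fin n) (Fin n) F)ᵀ)
    (by rw [Matrix.det_transpose]; exact (g⁻¹).2)) : Matrix.SpecialLinearGroup (Fin n) F), ?_⟩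
  refine inv_eq_iff_eq_inv.2 (Subtype.ext ?_)
  exact Matrix.transpose_transpose _

variable (ρ : Matrix.SpecialLinearGroup (Fin n) F →* Equiv.Perm Ω)

theorem fx_invT {v φ : Fin n → F} (h : φ ⬝ᵥ v = 0) (ω : Ω) :
    Fx (ρ.comp invT) v φ ω ↔ Fx ρ φ v ω := by
  have h' : v ⬝ᵥ φ = 0 := by rwa [dotProduct_comm]
  unfold Fx
  rw [MonoidHom.comp_apply, invT_T h, ← T_neg h', map_inv, Equiv.Perm.inv_eq_iff_eq]
  exact eq_comm

theorem moves_all (hn : 3 ≤ n) (hmove : ∃ v φ ω, φ ⬝ᵥ v = 0 ∧ ¬ Fx ρ v φ ω)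
    (v : Fin n → F) (hv : v ≠ 0) : ∃ φ ω, φ ⬝ᵥ v = 0 ∧ ¬ Fx ρ v φ ω := by
  by_contra hall
  push Not at hall
  obtain ⟨u, φ, ω, hφ, hfx⟩ := hmove
  apply hfx
  by_cases hu : u ∈ Submodule.span F ({v} : Set _)
  · obtain ⟨c, rfl⟩ := Submodule.mem_span_singleton.1 hu
    unfold Fx
    by_cases hc : c = 0
    · rw [hc, zero_smul, T_zero_left, map_one, Equiv.Perm.one_apply]
    · rw [dotProduct_smul, smul_eq_mul] at hφ
      have hφv : φ ⬝ᵥ v = 0 := (mul_eq_zero.1 hφ).resolve_left hc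
      rw [T_smul hφv]
      exact hall _ ω (by rw [smul_dotProduct, hφv, smul_zero])
  · obtain ⟨θ, hθ, hgv⟩ := exists_T_move hv hu
    obtain ⟨ω₀, rfl⟩ := (ρ (T (u - v) θ)).surjective ω
    have := transport ρ (T (u - v) θ)
      (φ := φ ᵥ* ((T (u - v) θ : Matrix.SpecialLinearGroup (Fin n) F) : Matrix (Fin n) (Fin n) F))
      (by rw [← Matrix.dotProduct_mulVec, hgv, hφ]) (fun x => Matrix.dotProduct_mulVec _ _ _) ω₀
    rw [hgv] at this
    exact this.2 (hall _ _ (by rw [← Matrix.dotProduct_mulVec, hgv, hφ]))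

/-- the first kind is impossible -/
theorem not_all_first (hn : 3 ≤ n) (ω : Ω) : ¬ ∀ v : Fin n → F, v ≠ 0 → First ρ v := by
  intro hall
  have h' : ∀ v : Fin n → F, v ≠ 0 → ∃ w, w ∉ Submodule.span F ({v} : Set _) ∧
      ∀ φ, φ ⬝ᵥ v = 0 → (Fx ρ v φ ω ↔ φ ⬝ᵥ w = 0) := fun v hv => hall v hv ω
  choose W hW hWfx using h'
  have step : ∀ v u (hv : v ≠ 0) (hu : u ≠ 0), u ∉ Submodule.span F ({v} : Set _) →
      W u hu ∈ Submodule.span F ({v, W v hv, u} : Set _) := by
    intro v u hv hu huv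
    by_contra hc
    obtain ⟨φ, h0, h1⟩ := exists_dot _ _ hc
    have hφv : φ ⬝ᵥ v = 0 := h0 v (Submodule.subset_span (by simp))
    have hφu : φ ⬝ᵥ u = 0 := h0 u (Submodule.subset_span (by simp))
    have hfx : Fx ρ v φ ω := (hWfx v hv φ hφv).2 (h0 _ (Submodule.subset_span (by simp)))
    -- `T v φ` fixes `u` and `ω`
    set g := T v φ with hg
    have hgu : (g : Matrix (Fin n) (Fin n) F) *ᵥ u = u := by
      rw [hg, T_mulVec hφv, hφu, zero_smul, add_zero]
    have hv' : v ∈ Submodule.span F ({u, W u hu} : Set _) := by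
      by_contra hc'
      obtain ⟨ψ, p0, p1⟩ := exists_dot _ _ hc'
      have hψu : ψ ⬝ᵥ u = 0 := p0 u (Submodule.subset_span (by simp))
      have hψw : ψ ⬝ᵥ W u hu = 0 := p0 _ (Submodule.subset_span (by simp))
      obtain ⟨ψ', hψ'⟩ := exists_pullback g ψ
      have hψ'u : ψ' ⬝ᵥ u = 0 := by rw [← hgu, hψ', hψu]
      have ht := (transport ρ g hψu hψ' ω).2 ((hWfx u hu ψ hψu).2 hψw)
      rw [hgu, show ρ g ω = ω from hfx] at ht
      have hz := (hWfx u hu ψ' hψ'u).1 ht
      have e1 : ψ' ⬝ᵥ ((g : Matrix (Fin n) (Fin n) F) *ᵥ W u hu) = ψ' ⬝ᵥ v := by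
        rw [hg, T_mulVec hφv, h1, one_smul, dotProduct_add, hz, zero_add]
      have e2 : ψ' ⬝ᵥ v = ψ ⬝ᵥ v := by
        rw [← hψ' v, hg, T_mulVec hφv, hφv, zero_smul, add_zero]
      rw [hψ', hψw, e2, p1] at e1
      exact zero_ne_one e1
    obtain ⟨a, b, hab⟩ := Submodule.mem_span_pair.1 hv'
    have : b = 0 := by
      have := congrArg (φ ⬝ᵥ ·) hab
      simpa [dotProduct_add, dotProduct_smul, hφu, h1, hφv] using this
    subst this
    rw [zero_smul, add_zero] at hab
    rcases eq_or_ne a 0 with rfl | ha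
    · exact hv (by rw [← hab, zero_smul])
    · exact huv (Submodule.mem_span_singleton.2 ⟨a⁻¹, by
        rw [← hab, smul_smul]
        rw [show a⁻¹ * a = 1 from inv_mul_cancel₀ ha, one_smul]⟩)
  obtain ⟨v, -, hv⟩ : ∃ φ : Fin n → F, φ ⬝ᵥ (0 : Fin n → F) = 0 ∧ φ ≠ 0 := by
    obtain ⟨φ, h, h', -⟩ := exists_dot_two hn (0 : Fin n → F) 0
    exact ⟨φ, h', h⟩
  obtain ⟨u, huL, -⟩ := exists_not_mem_two _ _ (span_insert_ne_top hn v (W v hv))
    (span_insert_ne_top hn v (W v hv))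
  have hu : u ≠ 0 := fun h => huL (h ▸ Submodule.zero_mem _)
  have huv : u ∉ Submodule.span F ({v} : Set _) := fun h =>
    huL (Submodule.span_mono (by simp) h)
  obtain ⟨a, x', hx', hwu⟩ := Submodule.mem_span_insert.1 (step v u hv hu huv)
  obtain ⟨b, c, hbc⟩ := Submodule.mem_span_pair.1 hx'
  -- a common nonzero vector of the two planes
  set x := a • v + b • W v hv with hx
  have hxu : x = W u hu - c • u := by rw [hx, hwu, ← hbc]; abel
  have hx_v : x ∈ Submodule.span F ({v, W v hv} : Set _) :=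
    Submodule.mem_span_pair.2 ⟨a, b, rfl⟩
  have hx_u : x ∈ Submodule.span F ({u, W u hu} : Set _) :=
    Submodule.mem_span_pair.2 ⟨-c, 1, by rw [hxu, one_smul, neg_smul]; abel⟩
  have hxu' : x ∉ Submodule.span F ({u} : Set _) := by
    intro h
    obtain ⟨e, he⟩ := Submodule.mem_span_singleton.1 h
    exact hW u hu (Submodule.mem_span_singleton.2 ⟨e + c, by rw [add_smul, he, hxu]; abel⟩)
  by_cases hb : b = 0
  · have hav : x = a • v := by rw [hx, hb, zero_smul, add_zero]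
    have ha : a ≠ 0 := by
      rintro rfl
      rw [zero_smul] at hav
      exact hxu' (hav ▸ Submodule.zero_mem _)
    have hvL : v ∈ Submodule.span F ({u, W u hu} : Set _) := by
      rw [← inv_smul_smul₀ ha v, ← hav]
      exact Submodule.smul_mem _ _ hx_u
    have hvu : v ∉ Submodule.span F ({u} : Set _) := fun h => hxu' (hav ▸ Submodule.smul_mem _ _ h)
    have hle : ∀ y ∈ Submodule.span F ({u, W u hu, v} : Set _),
        y ∈ Submodule.span F ({u, W u hu} : Set _) := fun y hy => by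
      refine Submodule.span_le.2 ?_ hy
      simp only [Set.insert_subset_iff, Set.singleton_subset_iff, SetLike.mem_coe]
      exact ⟨Submodule.subset_span (by simp), Submodule.subset_span (by simp), hvL⟩
    exact huL (pair_mem hvL (hle _ (step u v hu hv hvu)) hv (hW v hv))
  · have hxv : x ∉ Submodule.span F ({v} : Set _) := by
      intro h
      obtain ⟨e, he⟩ := Submodule.mem_span_singleton.1 h
      refine hW v hv (Submodule.mem_span_singleton.2 ⟨b⁻¹ * (e - a), ?_⟩)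
      rw [mul_smul, sub_smul, he, hx, add_sub_cancel_left, inv_smul_smul₀ hb]
    have hx0 : x ≠ 0 := fun h => hxv (h ▸ Submodule.zero_mem _)
    have h1 : W x hx0 ∈ Submodule.span F ({v, W v hv} : Set _) := by
      refine Submodule.span_le.2 ?_ (step v x hv hx0 hxv)
      simp only [Set.insert_subset_iff, Set.singleton_subset_iff, SetLike.mem_coe]
      exact ⟨Submodule.subset_span (by simp), Submodule.subset_span (by simp), hx_v⟩
    have h2 : W x hx0 ∈ Submodule.span F ({u, W u hu} : Set _) := by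
      refine Submodule.span_le.2 ?_ (step u x hu hx0 hxu')
      simp only [Set.insert_subset_iff, Set.singleton_subset_iff, SetLike.mem_coe]
      exact ⟨Submodule.subset_span (by simp), Submodule.subset_span (by simp), hx_u⟩
    refine huL (Submodule.span_le.2 ?_ (pair_mem hx_u h2 hx0 (hW x hx0)))
    simp only [Set.insert_subset_iff, Set.singleton_subset_iff, SetLike.mem_coe]
    exact ⟨hx_v, h1⟩

theorem all_second [Fintype F] [Finite Ω] [Nonempty Ω] (hn : 3 ≤ n)
    (hmove : ∃ v φ ω, φ ⬝ᵥ v = 0 ∧ ¬ Fx ρ v φ ω)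
    (hsmall : Nat.card Ω * (Fintype.card F - 1) < Fintype.card F ^ n - 1)
    (u : Fin n → F) (hu : u ≠ 0) : Second ρ u := by
  obtain ⟨ω⟩ := ‹Nonempty Ω›
  obtain ⟨v, hv, hvF⟩ : ∃ v : Fin n → F, v ≠ 0 ∧ ¬ First ρ v := by
    have := not_all_first ρ hn ω
    push Not at this
    exact this
  have hvS : Second ρ v :=
    ((dichotomy ρ hn v hv (moves_all ρ hn hmove v hv) hsmall).resolve_left hvF).1
  have hmv : ∀ a b : Fin n → F, a ≠ 0 → b ∉ Submodule.span F ({a} : Set _) →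
      Second ρ a → Second ρ b := by
    intro a b ha hb h
    obtain ⟨θ, -, hgv⟩ := exists_T_move ha hb
    have := second_transport ρ (T (b - a) θ) h
    rwa [hgv] at this
  by_cases h : u ∈ Submodule.span F ({v} : Set _)
  · obtain ⟨y, hy, -⟩ := exists_not_mem_two _ _ (span_insert_ne_top hn v u) (span_insert_ne_top hn v u)
    have hy0 : y ≠ 0 := fun h' => hy (h' ▸ Submodule.zero_mem _)
    refine hmv y u hy0 ?_ (hmv v y hv (fun h' => hy (Submodule.span_mono (by simp) h')) hvS)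
    intro h'
    obtain ⟨e, he⟩ := Submodule.mem_span_singleton.1 h'
    have he0 : e ≠ 0 := by rintro rfl; exact hu (by rw [← he, zero_smul])
    apply hy
    rw [← inv_smul_smul₀ he0 y, he]
    exact Submodule.smul_mem _ _ (Submodule.subset_span (by simp))
  · exact hmv v u hv h hvS

/-- transvections act without fixed points -/
theorem free_of_small [Fintype F] [Finite Ω] [Nonempty Ω] (hn : 3 ≤ n)
    (htrans : ∀ a b : Ω, ∃ g, ρ g a = b)
    (hmove : ∃ v φ ω, φ ⬝ᵥ v = 0 ∧ ¬ Fx ρ v φ ω)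
    (hsmall : Nat.card Ω * (Fintype.card F - 1) < Fintype.card F ^ n - 1)
    (v φ : Fin n → F) (hv : v ≠ 0) (h : φ ⬝ᵥ v = 0) (ω : Ω) (hfx : Fx ρ v φ ω) : φ = 0 := by
  have hmove' : ∃ v φ ω, φ ⬝ᵥ v = 0 ∧ ¬ Fx (ρ.comp invT) v φ ω := by
    obtain ⟨v, φ, ω, h, hf⟩ := hmove
    have h' : v ⬝ᵥ φ = 0 := by rwa [dotProduct_comm]
    exact ⟨φ, v, ω, h', fun hc => hf ((fx_invT ρ h' ω).1 hc)⟩
  have H2 : ∀ u, u ≠ 0 → Second (ρ.comp invT) u := all_second _ hn hmove' hsmall
  have H1 : ∀ u, u ≠ 0 → Second ρ u := all_second _ hn hmove hsmall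
  by_contra hφ
  have hall : ∀ v' φ', φ' ⬝ᵥ v' = 0 → Fx ρ v' φ' ω := by
    intro v' φ' h'
    by_cases hv' : v' = 0
    · unfold Fx; rw [hv', T_zero_left, map_one, Equiv.Perm.one_apply]
    obtain ⟨χ, hχ, hχv, hχv'⟩ := exists_dot_two hn v v'
    have s1 : Fx ρ v χ ω :=
      ((H1 v hv ω).resolve_right fun hn' => hφ (hn' φ h hfx)) χ hχv
    have s2 : Fx ρ v' χ ω := by
      have hd : v ⬝ᵥ χ = 0 := by rwa [dotProduct_comm]
      have hd' : v' ⬝ᵥ χ = 0 := by rwa [dotProduct_comm]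
      exact (fx_invT ρ hd' ω).1 (((H2 χ hχ ω).resolve_right fun hn' =>
        hv (hn' v hd ((fx_invT ρ hd ω).2 s1))) v' hd')
    exact ((H1 v' hv' ω).resolve_right fun hn' => hχ (hn' χ hχv' s2)) φ' h'
  obtain ⟨v₁, φ₁, ω₁, h₁, hf₁⟩ := hmove
  obtain ⟨g, rfl⟩ := htrans ω ω₁
  obtain ⟨v₀, rfl⟩ : ∃ v₀, (g : Matrix (Fin n) (Fin n) F) *ᵥ v₀ = v₁ :=
    ⟨_, mulVec_inv_mulVec g v₁⟩
  have h₀ : (φ₁ ᵥ* (g : Matrix (Fin n) (Fin n) F)) ⬝ᵥ v₀ = 0 := by
    rw [← Matrix.dotProduct_mulVec, h₁]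
  exact hf₁ ((transport ρ g h₀ (fun x => Matrix.dotProduct_mulVec _ _ _) ω).2 (hall _ _ h₀))

theorem exists_regular [Fintype F] [Finite Ω] [Nonempty Ω] (hn : 3 ≤ n)
    (htrans : ∀ a b : Ω, ∃ g, ρ g a = b)
    (hmove : ∃ v φ ω, φ ⬝ᵥ v = 0 ∧ ¬ Fx ρ v φ ω)
    (hsmall : Nat.card Ω * (Fintype.card F - 1) < Fintype.card F ^ n - 1)
    (v : Fin n → F) (hv : v ≠ 0) (ω ω' : Ω) : ∃ φ, φ ⬝ᵥ v = 0 ∧ ρ (T v φ) ω = ω' := by
  have hfree := fun φ h ω => free_of_small ρ hn htrans hmove hsmall v φ hv h ω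
  rcases dichotomy ρ hn v hv (moves_all ρ hn hmove v hv) hsmall with hF | ⟨-, hreg⟩
  · exfalso
    obtain ⟨w, -, hfx⟩ := hF ω
    obtain ⟨χ, hχ, hχv, hχw⟩ := exists_dot_two hn v w
    exact hχ (hfree χ hχv ω ((hfx χ hχv).2 hχw))
  · exact hreg (fun ω φ h => hfree φ h ω) ω ω'

theorem bound [Fintype F] [Finite Ω] [Nonempty Ω] (hn : 3 ≤ n)
    (hexc : ¬ (n = 4 ∧ Fintype.card F = 2))
    (htrans : ∀ a b : Ω, ∃ g, ρ g a = b)
    (hmove : ∃ v φ ω, φ ⬝ᵥ v = 0 ∧ ¬ Fx ρ v φ ω) :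
    Fintype.card F ^ n - 1 ≤ Nat.card Ω * (Fintype.card F - 1) := by
  classical
  by_contra hlt
  push Not at hlt
  have hfree := free_of_small ρ hn htrans hmove hlt
  have hreg := exists_regular ρ hn htrans hmove hlt
  obtain ⟨ω⟩ := ‹Nonempty Ω›
  set i₀ : Fin n := ⟨0, by omega⟩ with hi₀
  set i₁ : Fin n := ⟨1, by omega⟩ with hi₁
  set il : Fin n := ⟨n - 1, by omega⟩ with hil
  set v : Fin n → F := Pi.single i₀ 1 with hv
  set χ : Fin n → F := Pi.single il 1 with hχ
  have hv0 : v ≠ 0 := fun h => by simpa [hv] using congrFun h i₀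
  have hχ0 : χ ≠ 0 := fun h => by simpa [hχ] using congrFun h il
  have hχd : ∀ x : Fin n → F, χ ⬝ᵥ x = x il := fun x => by simp [hχ]
  have h0l : i₀ ≠ il := fun h => by simp [hi₀, hil, Fin.ext_iff] at h; omega
  have h1l : i₁ ≠ il := fun h => by simp [hi₁, hil, Fin.ext_iff] at h; omega
  have h01 : i₀ ≠ i₁ := fun h => by simp [hi₀, hi₁, Fin.ext_iff] at h
  have hχv : χ ⬝ᵥ v = 0 := by rw [hχd, hv, Pi.single_eq_of_ne h0l.symm]
  have hex : ∀ x : Fin n → F, ∃ β, β ⬝ᵥ v = 0 ∧ ρ (T v β) (ρ (T x χ) ω) = ω :=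
    fun x => hreg v hv0 _ _
  choose β hβv hβ using hex
  have huniq : ∀ x b, b ⬝ᵥ v = 0 → ρ (T v b) (ρ (T x χ) ω) = ω → b = β x := by
    intro x b hb h
    have hd : (b + -β x) ⬝ᵥ v = 0 := by rw [add_dotProduct, neg_dotProduct, hb, hβv, neg_zero, add_zero]
    have := hfree v (b + -β x) hv0 hd ω (by
      unfold Fx
      rw [← T_mul_T hb (by rw [neg_dotProduct, hβv, neg_zero]), map_mul, Equiv.Perm.mul_apply]
      conv_lhs => arg 2; arg 2; rw [← hβ x]
      rw [← T_neg (hβv x), map_inv, Equiv.Perm.inv_def, Equiv.symm_apply_apply, h])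
    rwa [← sub_eq_add_neg, sub_eq_zero] at this
  have hcomm : ∀ x d : Fin n → F, χ ⬝ᵥ x = 0 → d ⬝ᵥ v = 0 →
      T x χ * T v d = T v (d - (d ⬝ᵥ x) • χ) * T x χ := by
    intro x d hx hd
    have hd' : (d - (d ⬝ᵥ x) • χ) ⬝ᵥ v = 0 := by
      rw [sub_dotProduct, smul_dotProduct, hd, hχv, smul_zero, sub_zero]
    refine sl_ext fun y => ?_
    rw [sl_mul_mulVec, sl_mul_mulVec, T_mulVec hd, T_mulVec hx, T_mulVec hx, T_mulVec hd',
      dotProduct_add, dotProduct_smul, hχv, smul_zero, add_zero, dotProduct_add, dotProduct_smul,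
      sub_dotProduct, sub_dotProduct, smul_dotProduct, smul_dotProduct, hx]
    simp only [smul_eq_mul, mul_zero, sub_zero]
    rw [show d ⬝ᵥ y - d ⬝ᵥ x * (χ ⬝ᵥ y) + χ ⬝ᵥ y * d ⬝ᵥ x = d ⬝ᵥ y by ring]
    abel
  have hadd : ∀ x y : Fin n → F, χ ⬝ᵥ x = 0 → χ ⬝ᵥ y = 0 →
      β (x + y) = β x + β y - (β y ⬝ᵥ x) • χ := by
    intro x y hx hy
    have hy' : (β y - (β y ⬝ᵥ x) • χ) ⬝ᵥ v = 0 := by
      rw [sub_dotProduct, smul_dotProduct, hβv, hχv, smul_zero, sub_zero]
    refine (huniq (x + y) _ ?_ ?_).symm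
    · rw [add_sub_assoc, add_dotProduct, hβv, hy', add_zero]
    · have e : T v (β x + β y - (β y ⬝ᵥ x) • χ) * T (x + y) χ =
          (T v (β x) * T x χ) * (T v (β y) * T y χ) := by
        rw [add_sub_assoc, ← T_mul_T (hβv x) hy', ← T_left_mul hx hy, mul_assoc (T v (β x)),
          mul_assoc (T v (β x)), ← mul_assoc (T x χ) (T v (β y)), hcomm x _ hx (hβv y), mul_assoc]
      rw [← Equiv.Perm.mul_apply, ← map_mul, e, map_mul, Equiv.Perm.mul_apply, map_mul,
        Equiv.Perm.mul_apply, map_mul, Equiv.Perm.mul_apply, hβ, hβ]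
  set B : (Fin n → F) → (Fin n → F) → F := fun x y => β x ⬝ᵥ y with hB
  have hsymm : ∀ x y, χ ⬝ᵥ x = 0 → χ ⬝ᵥ y = 0 → B x y = B y x := by
    intro x y hx hy
    have h1 := hadd x y hx hy
    rw [add_comm, hadd y x hy hx, add_comm (β y)] at h1
    have h2 := congrFun (sub_right_injective h1) il
    simpa [hB, hχ] using h2
  have hlin : ∀ (c : F) x y, χ ⬝ᵥ x = 0 → χ ⬝ᵥ y = 0 → B (c • x) y = c * B x y := by
    intro c x y hx hy
    rw [hsymm _ _ (by rw [dotProduct_smul, hx, smul_zero]) hy, hsymm x y hx hy]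
    simp [hB]
  have hBadd : ∀ x x' y, χ ⬝ᵥ x = 0 → χ ⬝ᵥ x' = 0 → χ ⬝ᵥ y = 0 →
      B (x + x') y = B x y + B x' y := by
    intro x x' y hx hx' hy
    simp only [hB]
    rw [hadd x x' hx hx', sub_dotProduct, add_dotProduct, smul_dotProduct, hy, smul_zero, sub_zero]
  have hBv : ∀ y, χ ⬝ᵥ y = 0 → B v y = 0 := by
    intro y hy
    have : -χ = β v := huniq v _ (by rw [neg_dotProduct, hχv, neg_zero]) (by
      rw [← T_neg hχv, map_inv, Equiv.Perm.inv_def, Equiv.symm_apply_apply])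
    simp only [hB]
    rw [← this, neg_dotProduct, hy, neg_zero]
  have hnd : ∀ x, χ ⬝ᵥ x = 0 → (∀ y, χ ⬝ᵥ y = 0 → B x y = 0) →
      x ∈ Submodule.span F ({v} : Set _) := by
    intro x hx h
    have hb : β x = (β x il) • χ := by
      funext i
      by_cases hi : i = il
      · subst hi; simp [hχ]
      · have h1 := h (Pi.single i 1) (by rw [hχd, Pi.single_eq_of_ne (Ne.symm hi)])
        simpa [hB, hχ, hi] using h1
    set μ := β x il
    have hfix := hβ x
    rw [hb, ← T_smul hχv, ← Equiv.Perm.mul_apply, ← map_mul,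
      T_left_mul (by rw [dotProduct_smul, hχv, smul_zero]) hx] at hfix
    have hzero : μ • v + x = 0 := by
      by_contra hne
      exact hχ0 (hfree _ χ hne (by rw [dotProduct_add, dotProduct_smul, hχv, hx, smul_zero,
        add_zero]) ω hfix)
    exact Submodule.mem_span_singleton.2 ⟨-μ, by
      rw [neg_smul, eq_comm, eq_neg_iff_add_eq_zero, add_comm, hzero]⟩
  have hequiv : ∀ (g : Matrix.SpecialLinearGroup (Fin n) F) (al ga : F),
      (g : Matrix (Fin n) (Fin n) F) *ᵥ v = al • v →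
      (∀ x, ga * (χ ⬝ᵥ ((g : Matrix (Fin n) (Fin n) F) *ᵥ x)) = χ ⬝ᵥ x) →
      ga ≠ 0 → ∀ x y, χ ⬝ᵥ x = 0 → χ ⬝ᵥ y = 0 →
      ga * B ((g : Matrix (Fin n) (Fin n) F) *ᵥ x) ((g : Matrix (Fin n) (Fin n) F) *ᵥ y) =
        al * B x y := by
    intro g al ga hgv hgχ hga x y hx hy
    set gm := (g : Matrix (Fin n) (Fin n) F) with hgm
    have hW : ∀ z, χ ⬝ᵥ z = 0 → χ ⬝ᵥ (gm *ᵥ z) = 0 := fun z hz => by
      simpa [hz, hga] using hgχ z
    obtain ⟨b', hb'⟩ := exists_pullback g (β x)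
    have hb'v : (al • b') ⬝ᵥ v = 0 := by
      rw [smul_dotProduct, ← dotProduct_smul, ← hgv, hb', hβv]
    set x' := ga • (gm *ᵥ x) with hx'
    have hx'W : χ ⬝ᵥ x' = 0 := by rw [hx', dotProduct_smul, hW x hx, smul_zero]
    obtain ⟨d, hd, hdω⟩ := hreg v hv0 ω (ρ g ω)
    have hal : al ≠ 0 := by
      rintro rfl
      apply hv0
      rw [← inv_mulVec_mulVec g v, ← hgm, hgv, zero_smul, Matrix.mulVec_zero]
    have c1 : g * T v (β x) * g⁻¹ = T v (al • b') := by
      have hb0 : b' ⬝ᵥ v = 0 := by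
        have := hb'v
        rw [smul_dotProduct, smul_eq_mul, mul_eq_zero] at this
        exact this.resolve_left hal
      rw [conj_T g (hβv x) hb', hgv, T_smul hb0]
    have c2 : g * T x χ * g⁻¹ = T x' χ := by
      rw [conj_T g hx (φ' := ga • χ) (fun z => by rw [smul_dotProduct, smul_eq_mul, hgχ]), hx',
        T_smul (hW x hx)]
    have hneg : (-d) ⬝ᵥ v = 0 := by rw [neg_dotProduct, hd, neg_zero]
    have hdx : (d - (d ⬝ᵥ x') • χ) ⬝ᵥ v = 0 := by
      rw [sub_dotProduct, smul_dotProduct, hd, hχv, smul_zero, sub_zero]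
    have key : al • b' - (d ⬝ᵥ x') • χ = β x' := by
      refine huniq x' _ (by rw [sub_dotProduct, hb'v, smul_dotProduct, hχv, smul_zero, sub_zero]) ?_
      have e : T v (al • b' - (d ⬝ᵥ x') • χ) * T x' χ =
          (T v d)⁻¹ * (g * (T v (β x) * T x χ) * g⁻¹) * T v d := by
        rw [show g * (T v (β x) * T x χ) * g⁻¹ = (g * T v (β x) * g⁻¹) * (g * T x χ * g⁻¹) by group,
          c1, c2, T_neg hd, mul_assoc, mul_assoc, hcomm x' d hx'W hd, ← mul_assoc (T v (al • b')),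
          T_mul_T hb'v hdx, ← mul_assoc, T_mul_T hneg (by rw [add_dotProduct, hb'v, hdx, add_zero])]
        congr 2
        abel
      rw [← Equiv.Perm.mul_apply, ← map_mul, e, map_mul, map_mul, Equiv.Perm.mul_apply,
        Equiv.Perm.mul_apply, hdω, map_mul, map_mul, map_inv, map_inv, Equiv.Perm.mul_apply,
        Equiv.Perm.mul_apply]
      simp only [Equiv.Perm.inv_def, Equiv.symm_apply_apply]
      rw [Equiv.symm_apply_eq, map_mul, Equiv.Perm.mul_apply, hβ, hdω]
    rw [← hlin ga _ _ (hW x hx) (hW y hy)]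
    show β x' ⬝ᵥ (gm *ᵥ y) = al * (β x ⬝ᵥ y)
    rw [← key, sub_dotProduct, smul_dotProduct, smul_dotProduct, hW y hy, hb', smul_zero, sub_zero,
      smul_eq_mul]
  -- invariance under transvections
  have hZ : ∀ u y x, χ ⬝ᵥ u = 0 → χ ⬝ᵥ y = 0 → χ ⬝ᵥ x = 0 →
      x ∉ Submodule.span F ({v, u, y} : Set _) → B u y = 0 := by
    intro u y x hu hy hx hx'
    obtain ⟨θ, t0, t1⟩ := exists_dot x _ hx'
    have tv : θ ⬝ᵥ v = 0 := t0 v (Submodule.subset_span (by simp))
    have tu : θ ⬝ᵥ u = 0 := t0 u (Submodule.subset_span (by simp))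
    have ty : θ ⬝ᵥ y = 0 := t0 y (Submodule.subset_span (by simp))
    have h := hequiv (T u θ) 1 1
      (by rw [T_mulVec tu, tv, zero_smul, add_zero, one_smul])
      (fun z => by rw [T_mulVec tu, one_mul, dotProduct_add, dotProduct_smul, hu, smul_zero,
        add_zero]) one_ne_zero x y hx hy
    rw [T_mulVec tu, T_mulVec tu, t1, ty, one_smul, zero_smul, add_zero, one_mul, one_mul,
      hBadd x u y hx hu hy] at h
    exact add_eq_left.1 h
  have hroom : ∀ k : ℕ, k + 2 ≤ n → ∀ s : Finset (Fin n → F), s.card ≤ k →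
      ∃ x, χ ⬝ᵥ x = 0 ∧ x ∉ Submodule.span F (s : Set (Fin n → F)) := by
    intro k hk s hs
    have hne : Submodule.span F ((insert χ s : Finset (Fin n → F)) : Set (Fin n → F)) ≠ ⊤ := by
      intro h
      have h2 := finrank_span_finset_le_card (R := F) (insert χ s)
      rw [Set.finrank, h, finrank_top, Module.finrank_fin_fun] at h2
      have := Finset.card_insert_le χ s
      omega
    obtain ⟨x, hx, -⟩ := exists_not_mem_two _ _ hne hne
    refine ⟨x - (x il) • χ, by rw [hχd]; simp [hχ], fun h => hx ?_⟩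
    have hmono : Submodule.span F (s : Set (Fin n → F)) ≤
        Submodule.span F ((insert χ s : Finset (Fin n → F)) : Set (Fin n → F)) :=
      Submodule.span_mono (by simp)
    have hχm : χ ∈ Submodule.span F ((insert χ s : Finset (Fin n → F)) : Set (Fin n → F)) :=
      Submodule.subset_span (by simp)
    have := Submodule.add_mem _ (hmono h) (Submodule.smul_mem _ (x il) hχm)
    rwa [sub_add_cancel] at this
  set e : Fin n → F := Pi.single i₁ 1 with he
  have hχe : χ ⬝ᵥ e = 0 := by rw [hχd, he, Pi.single_eq_of_ne h1l.symm]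
  apply (show e ∉ Submodule.span F ({v} : Set _) by
    intro h
    obtain ⟨c, hc⟩ := Submodule.mem_span_singleton.1 h
    simpa [he, hv, h01.symm] using congrFun hc i₁)
  refine hnd e hχe fun y hy => ?_
  -- coordinates of `y`
  rcases Nat.lt_or_ge n 5 with hn5 | hn5
  swap
  · obtain ⟨x, hx, hx'⟩ := hroom 3 (by omega) {v, e, y} Finset.card_le_three
    exact hZ e y x hχe hy hx (by simpa using hx')
  have hdiag : ∀ (u : Fin n → F) (hu : ∏ i, u i = 1) (z : Fin n → F),
      ((⟨Matrix.diagonal u, by rw [Matrix.det_diagonal, hu]⟩ : Matrix.SpecialLinearGroup (Fin n) F) :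
        Matrix (Fin n) (Fin n) F) *ᵥ z = fun i => u i * z i :=
    fun u hu z => funext fun i => Matrix.mulVec_diagonal u z i
  have hdg : ∀ u : Fin n → F, (∏ i, u i = 1) → u il = 1 → ∀ x z, χ ⬝ᵥ x = 0 → χ ⬝ᵥ z = 0 →
      B (fun i => u i * x i) (fun i => u i * z i) = u i₀ * B x z := by
    intro u hu hul x z hx hz
    have := hequiv ⟨Matrix.diagonal u, by rw [Matrix.det_diagonal, hu]⟩ (u i₀) 1
      (by rw [hdiag u hu]; funext i; by_cases hi : i = i₀ <;> simp [hv, hi])
      (fun w => by rw [hdiag u hu, hχd, hχd, one_mul, hul, one_mul]) one_ne_zero x z hx hz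
    rwa [hdiag u hu, hdiag u hu, one_mul] at this
  rcases (show n = 3 ∨ n = 4 by omega) with rfl | rfl
  · have hBee : B e e = 0 := by
      by_cases h2 : (2 : F) = 0
      · have h := hadd e e hχe hχe
        have hz : e + e = 0 := by rw [← two_smul F, h2, zero_smul]
        have hb0 : (0 : Fin 3 → F) = β 0 := huniq 0 0 (zero_dotProduct v)
          (by simp [T_zero, T_zero_left])
        rw [hz, ← hb0, ← two_smul F (β e), h2, zero_smul, zero_sub] at h
        simpa [hχ, hB] using (congrFun h il).symm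
      · have h := hdg ![-1, -1, 1] (by simp [Fin.prod_univ_three]) (by simp [hil]) e e hχe hχe
        rw [show (fun i => (![-1, -1, 1] : Fin 3 → F) i * e i) = (-1 : F) • e from
          funext fun i => by fin_cases i <;> simp [he, hi₁]] at h
        rw [hlin _ _ _ hχe (by rw [dotProduct_smul, hχe, smul_zero])] at h
        have h3 : B e ((-1 : F) • e) = -B e e := by simp [hB]
        rw [h3, show (![-1, -1, 1] : Fin 3 → F) i₀ = -1 by simp [hi₀]] at h
        exact (mul_eq_zero.1 (show (2 : F) * B e e = 0 by linear_combination h)).resolve_left h2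
    have hy2 : y il = 0 := by rwa [hχd] at hy
    have hy' : y = y i₀ • v + y i₁ • e := by
      funext i
      fin_cases i <;> simp [hv, he, hi₀, hi₁] at hy2 ⊢
      exact hy2
    have hev : β e ⬝ᵥ v = 0 := hβv e
    show β e ⬝ᵥ y = 0
    rw [hy', dotProduct_add, dotProduct_smul, dotProduct_smul, hev, show β e ⬝ᵥ e = 0 from hBee,
      smul_zero, smul_zero, add_zero]
  · -- dimension four
    have halt : ∀ u, χ ⬝ᵥ u = 0 → B u u = 0 := by
      intro u hu
      obtain ⟨x, hx, hx'⟩ := hroom 2 (by omega) {v, u} Finset.card_le_two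
      exact hZ u u x hu hu hx (by simpa using hx')
    by_cases h2 : (2 : F) = 0
    swap
    · have h := halt (e + y) (by rw [dotProduct_add, hχe, hy, add_zero])
      rw [hBadd e y _ hχe hy (by rw [dotProduct_add, hχe, hy, add_zero])] at h
      have e1 : B e (e + y) = B e e + B e y := dotProduct_add _ _ _
      have e2 : B y (e + y) = B y e + B y y := dotProduct_add _ _ _
      rw [e1, e2, halt e hχe, halt y hy, ← hsymm e y hχe hy] at h
      exact (mul_eq_zero.1 (show (2 : F) * B e y = 0 by linear_combination h)).resolve_left h2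
    obtain ⟨d, hd0, hd1⟩ : ∃ d : F, d ≠ 0 ∧ d ≠ 1 := by
      by_contra h
      push Not at h
      apply hexc
      refine ⟨rfl, ?_⟩
      have : (Finset.univ : Finset F) = {0, 1} := by
        ext a
        simp only [Finset.mem_univ, Finset.mem_insert, Finset.mem_singleton, true_iff]
        exact or_iff_not_imp_left.2 (h a)
      rw [← Finset.card_univ, this, Finset.card_pair zero_ne_one]
    set i₂ : Fin 4 := 2 with hi₂
    set e₂ : Fin 4 → F := Pi.single i₂ 1 with he₂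
    have hχe₂ : χ ⬝ᵥ e₂ = 0 := by simp [hχd, he₂, hi₂, hil, Pi.single_apply, Fin.ext_iff]
    have hBe : B e e₂ = 0 := by
      have h := hdg ![d⁻¹, d, 1, 1] (by simp [Fin.prod_univ_four, hd0]) (by simp [hil]) e e₂ hχe hχe₂
      rw [show (fun i => (![d⁻¹, d, 1, 1] : Fin 4 → F) i * e i) = d • e from
          funext fun i => by fin_cases i <;> simp [he, hi₁],
        show (fun i => (![d⁻¹, d, 1, 1] : Fin 4 → F) i * e₂ i) = e₂ from
          funext fun i => by fin_cases i <;> simp [he₂, hi₂],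
        hlin _ _ _ hχe hχe₂, show (![d⁻¹, d, 1, 1] : Fin 4 → F) i₀ = d⁻¹ by simp [hi₀]] at h
      by_contra hne
      have hd2 := mul_right_cancel₀ hne h
      have hdd : d * d = 1 := by
        nth_rewrite 1 [hd2]; exact inv_mul_cancel₀ hd0
      exact hd1 (by
        have : (d - 1) ^ 2 = 0 := by linear_combination hdd - (d - 1) * h2
        exact sub_eq_zero.1 (pow_eq_zero_iff (n := 2) (by norm_num) |>.1 this))
    have hy3 : y il = 0 := by rwa [hχd] at hy
    have hy' : y = y i₀ • v + y i₁ • e + y i₂ • e₂ := by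
      funext i
      fin_cases i <;> simp [hv, he, he₂, hi₀, hi₁, hi₂] at hy3 ⊢
      exact hy3
    show β e ⬝ᵥ y = 0
    rw [hy', dotProduct_add, dotProduct_add, dotProduct_smul, dotProduct_smul, dotProduct_smul,
      hβv e, show β e ⬝ᵥ e = 0 from halt e hχe, show β e ⬝ᵥ e₂ = 0 from hBe]
    simp

end Cfsg.Agent.Lib.Elusive.SLMinIndex
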