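import Mathlib
import Cfsg.Prelude.Def_GeometricClasses
import Cfsg.Agent.Lib.Elusive.SympCounts

/-! Orthogonal decompositions of the symplectic space permuted by isometries of odd prime order. -/

set_option autoImplicit false
set_option linter.style.haveILetI false
set_option linter.unusedSectionVars false

namespace Cfsg.Agent.Lib.Elusive

open Module Cfsg.Agent.Lib.Forms

variable {F : Type*} [Field F] [Fintype F] {V : Type*} [AddCommGroup V] [Module F V] [Finite V]
  {B : LinearMap.BilinForm F V} {y : Module.End F V} {r c a : ℕ}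
  (hA : B.IsAlt) (h : IsGoodForm (σ := RingHom.id F) B (-1)) (hr : r.Prime) (hrF : (r : F) ≠ 0)
include hA h hr hrF

/-- Invariant orthogonal summands of dimension `a`. -/
theorem exists_invariant_summands (hc : BlockSize (RingHom.id F) r c) (hce : Even c) (hae : Even a)
    (hy : y ^ r = 1) (hpres : ∀ u v, B (y u) (y v) = B u v) :
    ∀ (s : ℕ) (R' F' : Submodule F V) (N : ℕ), Nd (σ := RingHom.id F) B R' → Inv y R' →
      R' ≤ LinearMap.ker (avg y r) → Nd (σ := RingHom.id F) B F' → F' ≤ fix1 y → finrank F ↥R' = N * c →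
      N ≤ s * (a / c) → finrank F ↥R' + finrank F ↥F' = s * a →
      ∃ D : Fin s → Submodule F V, OrthFam (σ := RingHom.id F) B D ∧
        ∀ j, Inv y (D j) ∧ D j ≤ R' ⊔ F' ∧ finrank F ↥(D j) = a := by
  haveI : FiniteDimensional F V := Module.Finite.of_finite
  intro s
  induction s with
  | zero => exact fun _ _ _ _ _ _ _ _ _ _ _ => ⟨Fin.elim0, ⟨fun j => j.elim0, fun j => j.elim0⟩, fun j => j.elim0⟩
  | succ s ih =>
    intro R' F' N hRn hRi hRR hFn hFf hRd hN hsum
    obtain ⟨N', hN', hall⟩ := nd_blocks h hr hrF hc hy hpres hRn hRi hRR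
    have hNN : N' = N := Nat.eq_of_mul_eq_mul_right (blockSize_pos h hr hrF hc) (hN'.symm.trans hRd)
    subst hNN
    rw [Nat.succ_mul] at hN hsum
    set e := min N' (a / c) with he
    have hec : e * c ≤ a := (Nat.mul_le_mul_right c (min_le_right _ _)).trans (Nat.div_mul_le_self a c)
    have hf' : a - e * c ≤ finrank F ↥F' := by
      rcases min_cases N' (a / c) with ⟨e1, -⟩ | ⟨e1, e2⟩
      · rw [he, e1]; omega
      · have h1 := Nat.mul_le_mul_right c hN
        rw [add_mul, mul_assoc] at h1
        have h2 := Nat.mul_le_mul_left s (Nat.div_mul_le_self a c)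
        rw [he, e1]
        omega
    obtain ⟨U, hUR, hU, hUn, hUd⟩ := hall e (min_le_left _ _)
    obtain ⟨A, hAF, hAn, hAd⟩ := exists_nd_sub hA h hFn (a := a - e * c)
      ((Nat.even_sub hec).2 (iff_of_true hae (hce.mul_left e))) hf'
    obtain ⟨hR2, -, -, hR2d⟩ := split_nd h hUn hRn hUR
    obtain ⟨hF2, -, -, hF2d⟩ := split_nd h hAn hFn hAF
    have hle : e ≤ N' := min_le_left _ _
    obtain ⟨D, hD, hDp⟩ := ih (R' ⊓ perp (σ := RingHom.id F) B U) (F' ⊓ perp (σ := RingHom.id F) B A) (N' - e) hR2
      (inv_inf hRi (perp_inv h hpres hU)) (inf_le_left.trans hRR) hF2 (inf_le_left.trans hFf)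
      (by rw [Nat.sub_mul]; omega) (by
        rcases min_cases N' (a / c) with ⟨e1, -⟩ | ⟨e1, -⟩ <;> rw [he, e1] <;> omega) (by omega)
    have hRF : ∀ u ∈ R', ∀ w ∈ F', B u w = 0 := fun u hu w hw =>
      h.eq_zero_symm (fix1_perp_ker h hpres hrF (hFf hw) (hRR hu))
    have horth : ∀ j, ∀ u ∈ U ⊔ A, ∀ w ∈ D j, B u w = 0 := by
      intro j u hu w hw
      obtain ⟨u₁, hu₁, u₂, hu₂, rfl⟩ := Submodule.mem_sup.1 hu
      obtain ⟨w₁, hw₁, w₂, hw₂, rfl⟩ := Submodule.mem_sup.1 ((hDp j).2.1 hw)
      simp only [map_add, LinearMap.add_apply, hw₁.2 u₁ hu₁, hw₂.2 u₂ hu₂, hRF u₁ (hUR hu₁) w₂ hw₂.1,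
        h.eq_zero_symm (hRF w₁ hw₁.1 u₂ (hAF hu₂)), add_zero]
    have hUA : ∀ u ∈ U, ∀ w ∈ A, B u w = 0 := fun u hu w hw => hRF u (hUR hu) w (hAF hw)
    refine ⟨Fin.cons (U ⊔ A) D, ⟨Fin.cases (nd_sup h hUn hAn hUA) fun j => hD.nd j, fun j j' hjj u hu w hw => ?_⟩,
      Fin.cases ⟨inv_sup hU (inv_of_le_fix1 (hAF.trans hFf)), sup_le (hUR.trans le_sup_left) (hAF.trans le_sup_right), ?_⟩
        fun j => ⟨(hDp j).1, (hDp j).2.1.trans (sup_le_sup inf_le_left inf_le_left), (hDp j).2.2⟩⟩
    · induction j using Fin.cases with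
      | zero =>
        induction j' using Fin.cases with
        | zero => exact absurd rfl hjj
        | succ j' => exact horth j' u (by simpa using hu) w (by simpa using hw)
      | succ j =>
        induction j' using Fin.cases with
        | zero => exact h.eq_zero_symm (horth j w (by simpa using hw) u (by simpa using hu))
        | succ j' => exact hD.orth j j' (fun e => hjj (congrArg Fin.succ e)) u (by simpa using hu) w (by simpa using hw)
    · have h0 : U ⊓ A = ⊥ := by
        rw [eq_bot_iff]
        rintro v ⟨h1, h2⟩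
        exact (Submodule.mem_bot F).2 (hUn v h1 fun w hw => h.eq_zero_symm (hUA w hw v h2))
      have h1 := Submodule.finrank_sup_add_finrank_inf_eq U A
      rw [h0, finrank_bot, add_zero, hUd, hAd, Nat.add_sub_cancel' hec] at h1
      exact h1

/-- An isometry of odd prime order permuting orthogonal summands. -/
theorem summand_cases (hr2 : r ≠ 2) (ha : 1 ≤ a) (hy : y ^ r = 1) (hpres : ∀ u v, B (y u) (y v) = B u v) {t : ℕ}
    (D : Fin t → Submodule F V) (hD : OrthFam (σ := RingHom.id F) B D) (hDd : ∀ j, finrank F ↥(D j) = a)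
    (σ : Equiv.Perm (Fin t)) (hσ : ∀ j, (D j).map y = D (σ j)) (j : Fin t) :
    σ j = j ∨ ((r - 1) * a + finrank F ↥(fix1 y) ≤ finrank F V ∧ a ≤ finrank F ↥(fix1 y)) := by
  classical
  haveI : FiniteDimensional F V := Module.Finite.of_finite
  haveI : Fact r.Prime := ⟨hr⟩
  refine or_iff_not_imp_left.2 fun hmove => ?_
  have hpow : ∀ (k : ℕ) i, (D i).map (y ^ k) = D ((σ ^ k) i) := by
    intro k
    induction k with
    | zero => intro i; exact Submodule.map_id _
    | succ k ih =>
      intro i
      rw [pow_succ', Module.End.mul_eq_comp, Submodule.map_comp, ih, hσ, pow_succ', Equiv.Perm.mul_apply]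
  have hDne : ∀ i i', D i = D i' → i = i' := by
    intro i i' he
    by_contra hne
    have h1 := hD.nd i
    obtain ⟨v, hv, hv0⟩ := Submodule.exists_mem_ne_zero_of_ne_bot (p := D i) fun hb => by
      have := hDd i
      rw [hb, finrank_bot] at this
      omega
    exact hv0 (h1 v hv fun w hw => hD.orth i i' hne v hv w (he ▸ hw))
  have hσr : σ ^ r = 1 := Equiv.ext fun i => hDne _ _ (by
    rw [← hpow, hy]; exact Submodule.map_id _)
  have hord : ∀ k : ℕ, (σ ^ k) j = j → r ∣ k := by
    intro k hk
    by_contra hnd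
    have hco : Nat.Coprime k r := ((Nat.Prime.coprime_iff_not_dvd hr).2 hnd).symm
    obtain ⟨m, hm⟩ := Nat.exists_mul_mod_eq_one_of_coprime hco hr.one_lt
    have h1 : ∀ l : ℕ, (σ ^ (k * l)) j = j := fun l => by
      induction l with
      | zero => simp
      | succ l ih => rw [Nat.mul_succ, pow_add, Equiv.Perm.mul_apply, hk, ih]
    apply hmove
    have h2 := h1 m
    rw [pow_eq_pow_mod (k * m) hσr, hm.2, pow_one] at h2
    exact h2
  let o : Fin r → Fin t := fun k => (σ ^ (k : ℕ)) j
  have hoinj : Function.Injective o := by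
    intro k k' he
    have key : ∀ u v : ℕ, u ≤ v → v < r → (σ ^ u) j = (σ ^ v) j → u = v := by
      intro u v huv hv he
      have h1 : (σ ^ u) ((σ ^ (v - u)) j) = (σ ^ u) j := by
        rw [← Equiv.Perm.mul_apply, ← pow_add, Nat.add_sub_cancel' huv, he]
      by_contra hne
      have h2 := Nat.le_of_dvd (show 0 < v - u by omega) (hord _ ((σ ^ u).injective h1))
      omega
    refine Fin.ext ?_
    rcases le_total (k : ℕ) k' with hh | hh
    · exact key _ _ hh k'.2 he
    · exact (key _ _ hh k.2 he.symm).symm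
  constructor
  · -- the orbit without one member meets the fixed space trivially
    let k₀ : Fin r := ⟨r - 1, by have := hr.two_le; omega⟩
    set S : Finset (Fin t) := (Finset.univ.erase k₀).image o with hS
    have hSd : finrank F ↥(S.sup D) = (r - 1) * a := by
      rw [(hD.sup_data h S).2, Finset.sum_congr rfl (fun i _ => hDd i), Finset.sum_const, hS,
        Finset.card_image_of_injective _ hoinj, Finset.card_erase_of_mem (Finset.mem_univ _), Finset.card_univ,
        Fintype.card_fin, smul_eq_mul]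
    have h0 : S.sup D ⊓ fix1 y = ⊥ := by
      rw [eq_bot_iff]
      rintro v ⟨hv, hvf⟩
      refine (Submodule.mem_bot F).2 ((hD.sup_data h S).1 v hv fun w hw => ?_)
      have hperp : ∀ w ∈ D (o k₀), B v w = 0 := fun w hw => by
        refine h.eq_zero_symm (hD.sup_orth h (s := S) (fun hmem => ?_) w hw v hv)
        obtain ⟨k, hk, hko⟩ := Finset.mem_image.1 hmem
        exact Finset.ne_of_mem_erase hk (hoinj hko)
      have hle : ∀ k : ℕ, D ((σ ^ k) (o k₀)) ≤ LinearMap.ker (B v) := by
        intro k
        rw [← hpow]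
        rintro _ ⟨u, hu, rfl⟩
        have hk' : ∀ l : ℕ, (y ^ l) v = v := fun l => by
          induction l with
          | zero => rfl
          | succ l ih => rw [pow_succ', Module.End.mul_apply, ih, mem_fix1.1 hvf]
        have hp : ∀ (l : ℕ) a b, B ((y ^ l) a) ((y ^ l) b) = B a b := fun l => by
          induction l with
          | zero => intro a b; rfl
          | succ l ih => intro a b; rw [pow_succ', Module.End.mul_apply, Module.End.mul_apply, hpres, ih]
        rw [LinearMap.mem_ker, ← hk' k, hp]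
        exact hperp u hu
      have hSle : S.sup D ≤ LinearMap.ker (B v) := Finset.sup_le fun i hi => by
        obtain ⟨k, -, rfl⟩ := Finset.mem_image.1 hi
        refine le_trans (le_of_eq (congrArg D ?_)) (hle ((k : ℕ) + 1))
        show (σ ^ (k : ℕ)) j = (σ ^ ((k : ℕ) + 1)) ((σ ^ (r - 1)) j)
        rw [← Equiv.Perm.mul_apply, ← pow_add, show (k : ℕ) + 1 + (r - 1) = k + r by have := hr.two_le; omega,
          pow_add, hσr, mul_one]
      exact LinearMap.mem_ker.1 (hSle hw)
    have h1 := Submodule.finrank_sup_add_finrank_inf_eq (S.sup D) (fix1 y)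
    rw [h0, finrank_bot, add_zero, hSd] at h1
    have h2 := Submodule.finrank_le (S.sup D ⊔ fix1 y)
    omega
  · -- averaging embeds a summand into the fixed space
    let L : ↥(D j) →ₗ[F] ↥(fix1 y) := ((avg y r).comp (D j).subtype).codRestrict _ fun u => avg_mem_fix1 hy _
    have hLinj : Function.Injective L := by
      rw [← LinearMap.ker_eq_bot, eq_bot_iff]
      intro u hu
      refine (Submodule.mem_bot F).2 (Subtype.ext (hD.nd j u.1 u.2 fun w hw => ?_))
      have h1 : avg y r (u : V) = 0 := congrArg Subtype.val (LinearMap.mem_ker.1 hu)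
      rw [avg_apply, smul_eq_zero] at h1
      have h2 := congrArg (fun x => B x w) (h1.resolve_left (inv_ne_zero hrF))
      simp only [map_sum, LinearMap.sum_apply, map_zero, LinearMap.zero_apply] at h2
      rw [Finset.sum_eq_single 0 (fun k hk hk0 => ?_) (fun hh => absurd (Finset.mem_range.2 hr.pos) hh)] at h2
      · exact h2
      · refine hD.orth ((σ ^ k) j) j (fun he => ?_) _ (hpow k j ▸ ⟨u.1, u.2, rfl⟩) w hw
        have := Nat.le_of_dvd (Nat.pos_of_ne_zero hk0) (hord k he)
        have := Finset.mem_range.1 hk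
        omega
    have := LinearMap.finrank_le_finrank_of_injective hLinj
    rwa [hDd] at this

end Cfsg.Agent.Lib.Elusive
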