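import Mathlib
import Cfsg.Agent.Lib.KnownSimple.UnipotentClasses
import Cfsg.Agent.Lib.Elusive.Scalar

/-! Invariant complemented subspaces of nilpotent endomorphisms and partitions. -/

set_option autoImplicit false

namespace Cfsg.Agent.Lib.Elusive

open Module Cfsg.Agent.Lib.KnownSimple

variable {F : Type*} [Field F] {V : Type*} [AddCommGroup V] [Module F V] [FiniteDimensional F V]

/-- `μ` is the multiset of block sizes of the nilpotent `f`. -/
def HasParts (f : Module.End F V) (μ : Multiset ℕ) : Prop :=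
  (∀ a ∈ μ, 0 < a) ∧ μ.sum = finrank F V ∧ ∀ k, finrank F ↥(LinearMap.ker (f ^ k)) = minSum μ k

omit [FiniteDimensional F V] in
theorem finrank_ker_conj_pow {W : Type*} [AddCommGroup W] [Module F W] (e : V ≃ₗ[F] W) (f : Module.End F V)
    (k : ℕ) : finrank F ↥(LinearMap.ker ((e.conj f) ^ k)) = finrank F ↥(LinearMap.ker (f ^ k)) := by
  have h : LinearMap.ker ((e.conj f) ^ k) = (LinearMap.ker (f ^ k)).map (e : V →ₗ[F] W) := by
    ext w
    rw [Submodule.mem_map_equiv, LinearMap.mem_ker, LinearMap.mem_ker, conj_pow,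
      LinearEquiv.map_eq_zero_iff]
  rw [h, LinearEquiv.finrank_map_eq]

theorem exists_hasParts {f : Module.End F V} (hf : IsNilpotent f) : ∃ μ, HasParts f μ := by
  let e := LinearEquiv.ofFinrankEq (R := F) V (Fin (finrank F V) → F) (Module.finrank_fin_fun F).symm
  obtain ⟨N, hN⟩ := hf
  have hA : IsNilpotent (Matrix.toLinAlgEquiv'.symm (e.conjAlgEquiv F f)) :=
    ⟨N, by rw [← map_pow, ← map_pow, hN, map_zero, map_zero]⟩
  obtain ⟨μ, hμ⟩ := exists_parts _ hA
  refine ⟨μ.parts, fun a ha => μ.parts_pos ha, μ.parts_sum, fun k => ?_⟩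
  have h1 := LinearMap.finrank_range_add_finrank_ker ((e.conjAlgEquiv F f) ^ k)
  rw [Module.finrank_fin_fun] at h1
  have h2 : ((Matrix.toLinAlgEquiv'.symm (e.conjAlgEquiv F f)) ^ k).rank =
      finrank F ↥(LinearMap.range ((e.conjAlgEquiv F f) ^ k)) := by
    rw [← map_pow]
    conv_rhs => rw [← Matrix.toLinAlgEquiv'.apply_symm_apply ((e.conjAlgEquiv F f) ^ k)]
    rfl
  have h3 : finrank F ↥(LinearMap.ker ((e.conjAlgEquiv F f) ^ k)) = finrank F ↥(LinearMap.ker (f ^ k)) :=
    finrank_ker_conj_pow e f k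
  have := hμ k
  omega

theorem exists_end_of_parts (μ : Multiset ℕ) (hpos : ∀ a ∈ μ, 0 < a) (hsum : μ.sum = finrank F V) :
    ∃ f : Module.End F V, IsNilpotent f ∧ HasParts f μ := by
  obtain ⟨A, ⟨N, hN⟩, hk⟩ := exists_nilpotent_of_partition (F := F) (n := finrank F V)
    ⟨μ, fun {a} ha => hpos a ha, hsum⟩
  let e := LinearEquiv.ofFinrankEq (R := F) (Fin (finrank F V) → F) V (Module.finrank_fin_fun F)
  refine ⟨e.conjAlgEquiv F (Matrix.toLinAlgEquiv' A), ⟨N, by rw [← map_pow, ← map_pow, hN, map_zero, map_zero]⟩,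
    hpos, hsum, fun k => ?_⟩
  have h3 : finrank F ↥(LinearMap.ker ((e.conjAlgEquiv F (Matrix.toLinAlgEquiv' A)) ^ k)) =
      finrank F ↥(LinearMap.ker ((Matrix.toLinAlgEquiv' A) ^ k)) := finrank_ker_conj_pow e _ k
  have h1 := LinearMap.finrank_range_add_finrank_ker ((Matrix.toLinAlgEquiv' A) ^ k)
  rw [Module.finrank_fin_fun] at h1
  have h2 : (A ^ k).rank = finrank F ↥(LinearMap.range ((Matrix.toLinAlgEquiv' A) ^ k)) := by
    rw [← map_pow]; rfl
  have := hk k
  simp only at this
  omega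

theorem exists_conj_of_hasParts {f g : Module.End F V} (hf : IsNilpotent f) (hg : IsNilpotent g)
    {μ : Multiset ℕ} (hfμ : HasParts f μ) (hgμ : HasParts g μ) : ∃ e : V ≃ₗ[F] V, g = e.conj f := by
  classical
  let b := Module.finBasis F V
  let φ : Module.End F V ≃ₐ[F] Matrix (Fin (finrank F V)) (Fin (finrank F V)) F := LinearMap.toMatrixAlgEquiv b
  have hrk : ∀ (h : Module.End F V) (k : ℕ), ((φ h) ^ k).rank + finrank F ↥(LinearMap.ker (h ^ k)) = finrank F V := by
    intro h k
    rw [← map_pow]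
    refine Eq.trans ?_ (LinearMap.finrank_range_add_finrank_ker (h ^ k))
    congr 1
    rw [Matrix.rank_eq_finrank_range_toLin (φ (h ^ k)) b b]
    exact congrArg (fun T : Module.End F V => finrank F ↥(LinearMap.range T))
      (Matrix.toLinAlgEquiv_toMatrixAlgEquiv b (h ^ k))
  obtain ⟨c, hc⟩ := isConj_of_rank_pow (hf.map φ) (hg.map φ) fun k => by
    have h1 := hrk f k
    have h2 := hrk g k
    rw [hfμ.2.2 k] at h1
    rw [hgμ.2.2 k] at h2
    omega
  let e : V ≃ₗ[F] V := LinearMap.GeneralLinearGroup.toLinearEquiv (Units.map φ.symm.toMonoidHom c)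
  refine ⟨e, ?_⟩
  have h : φ.symm (c : Matrix _ _ F) * f = g * φ.symm (c : Matrix _ _ F) := by
    have := congrArg φ.symm hc.eq
    rwa [map_mul, map_mul, AlgEquiv.symm_apply_apply, AlgEquiv.symm_apply_apply] at this
  refine LinearMap.ext fun v => ?_
  obtain ⟨w, rfl⟩ := e.surjective v
  rw [LinearEquiv.conj_apply_apply, LinearEquiv.symm_apply_apply]
  exact (LinearMap.congr_fun h w).symm

theorem HasParts.conj {W : Type*} [AddCommGroup W] [Module F W] [FiniteDimensional F W] (e : V ≃ₗ[F] W)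
    {f : Module.End F V} {μ : Multiset ℕ} (h : HasParts f μ) : HasParts (e.conj f) μ :=
  ⟨h.1, h.2.1.trans e.finrank_eq, fun k => (finrank_ker_conj_pow e f k).trans (h.2.2 k)⟩

theorem HasParts.prod {W : Type*} [AddCommGroup W] [Module F W] [FiniteDimensional F W]
    {f : Module.End F V} {g : Module.End F W} {μ ν : Multiset ℕ} (h : HasParts f μ) (h' : HasParts g ν) :
    HasParts (f.prodMap g) (μ + ν) := by
  refine ⟨fun a ha => (Multiset.mem_add.1 ha).elim (h.1 a) (h'.1 a), ?_, fun k => ?_⟩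
  · rw [Multiset.sum_add, h.2.1, h'.2.1, Module.finrank_prod]
  · have hp : (f.prodMap g) ^ k = (f ^ k).prodMap (g ^ k) := by
      induction k with
      | zero => exact (LinearMap.prodMap_one).symm
      | succ k ih => rw [pow_succ, pow_succ, pow_succ, ih, ← LinearMap.prodMap_mul]
    rw [hp, LinearMap.ker_prodMap]
    let e : ↥((LinearMap.ker (f ^ k)).prod (LinearMap.ker (g ^ k))) ≃ₗ[F]
        (↥(LinearMap.ker (f ^ k)) × ↥(LinearMap.ker (g ^ k))) :=
      { toFun := fun x => (⟨x.1.1, x.2.1⟩, ⟨x.1.2, x.2.2⟩)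
        invFun := fun x => ⟨(x.1.1, x.2.1), x.1.2, x.2.2⟩
        map_add' := fun _ _ => rfl
        map_smul' := fun _ _ => rfl
        left_inv := fun _ => rfl
        right_inv := fun _ => rfl }
    rw [e.finrank_eq, Module.finrank_prod, h.2.2, h'.2.2]
    simp [minSum]

theorem HasParts.unique {f : Module.End F V} {μ ν : Multiset ℕ} (h : HasParts f μ) (h' : HasParts f ν) :
    μ = ν := minSum_injective h.1 h'.1 fun k => (h.2.2 k).symm.trans (h'.2.2 k)

/-- Invariant complemented subspaces of dimension `m` correspond to sub-multisets of the block sizes. -/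
theorem exists_inv_compl_iff_subPartition {f : Module.End F V} (hf : IsNilpotent f) {μ : Multiset ℕ}
    (hμ : HasParts f μ) (m : ℕ) :
    (∃ U W : Submodule F V, IsCompl U W ∧ finrank F ↥U = m ∧ Inv f U ∧ Inv f W) ↔
      ∃ ν : Multiset ℕ, ν ≤ μ ∧ ν.sum = m := by
  constructor
  · rintro ⟨U, W, hc, rfl, hU, hW⟩
    obtain ⟨N, hN⟩ := hf
    have hnil : ∀ (T : Submodule F V) (hT : Inv f T), IsNilpotent (f.restrict hT : Module.End F ↥T) := fun T hT => by
      refine ⟨N, LinearMap.ext fun w => Subtype.ext ?_⟩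
      have h1 : ∀ k : ℕ, ∀ w : ↥T, (((f.restrict hT) ^ k) w : V) = (f ^ k) (w : V) := fun k => by
        induction k with
        | zero => intro w; rfl
        | succ k ih => intro w; rw [pow_succ, pow_succ, Module.End.mul_apply, Module.End.mul_apply, ih]; rfl
      rw [h1, hN]; rfl
    obtain ⟨ν, hν⟩ := exists_hasParts (hnil U hU)
    obtain ⟨ρ, hρ⟩ := exists_hasParts (hnil W hW)
    have h := (hν.prod hρ).conj (Submodule.prodEquivOfIsCompl U W hc)
    have he : (Submodule.prodEquivOfIsCompl U W hc).conj ((f.restrict hU).prodMap (f.restrict hW)) = f := by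
      refine LinearMap.ext fun v => ?_
      obtain ⟨⟨u, w⟩, rfl⟩ := (Submodule.prodEquivOfIsCompl U W hc).surjective v
      rw [LinearEquiv.conj_apply_apply, LinearEquiv.symm_apply_apply, Submodule.coe_prodEquivOfIsCompl',
        Submodule.coe_prodEquivOfIsCompl', map_add]
      rfl
    rw [he] at h
    exact ⟨ν, by rw [hμ.unique h]; exact Multiset.le_add_right _ _, hν.2.1⟩
  · rintro ⟨ν, hle, rfl⟩
    obtain ⟨ρ, rfl⟩ := Multiset.le_iff_exists_add.1 hle
    obtain ⟨f₁, ⟨N₁, hN₁⟩, h₁⟩ := exists_end_of_parts (F := F) (V := Fin ν.sum → F) ν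
      (fun a ha => hμ.1 a (Multiset.mem_add.2 (Or.inl ha))) (Module.finrank_fin_fun F).symm
    obtain ⟨f₂, ⟨N₂, hN₂⟩, h₂⟩ := exists_end_of_parts (F := F) (V := Fin ρ.sum → F) ρ
      (fun a ha => hμ.1 a (Multiset.mem_add.2 (Or.inr ha))) (Module.finrank_fin_fun F).symm
    let e₀ : ((Fin ν.sum → F) × (Fin ρ.sum → F)) ≃ₗ[F] V := LinearEquiv.ofFinrankEq _ _ (by
      rw [Module.finrank_prod, Module.finrank_fin_fun, Module.finrank_fin_fun, ← hμ.2.1, Multiset.sum_add])
    have hp : ∀ k, (f₁.prodMap f₂) ^ k = (f₁ ^ k).prodMap (f₂ ^ k) := fun k => by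
      induction k with
      | zero => exact (LinearMap.prodMap_one).symm
      | succ k ih => rw [pow_succ, pow_succ, pow_succ, ih, ← LinearMap.prodMap_mul]
    have hnil : IsNilpotent (e₀.conj (f₁.prodMap f₂)) := by
      refine ⟨N₁ + N₂, LinearMap.ext fun v => ?_⟩
      rw [conj_pow, hp, pow_add, hN₁, zero_mul, pow_add, hN₂, mul_zero]
      simp
    obtain ⟨e₁, he₁⟩ := exists_conj_of_hasParts hnil hf ((h₁.prod h₂).conj e₀) hμ
    let e := e₀.trans e₁
    have hfe : ∀ a, f (e a) = e (f₁ a.1, f₂ a.2) := fun a => by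
      rw [he₁]
      show e₁.conj _ (e₁ (e₀ a)) = e₁ (e₀ _)
      rw [LinearEquiv.conj_apply_apply, LinearEquiv.symm_apply_apply, LinearEquiv.conj_apply_apply,
        LinearEquiv.symm_apply_apply]
      rfl
    refine ⟨(LinearMap.range (LinearMap.inl F (Fin ν.sum → F) (Fin ρ.sum → F))).map e.toLinearMap,
      (LinearMap.range (LinearMap.inr F (Fin ν.sum → F) (Fin ρ.sum → F))).map e.toLinearMap, ?_, ?_, ?_, ?_⟩
    · exact (OrderIso.isCompl_iff (Submodule.orderIsoMapComap e)).1 LinearMap.isCompl_range_inl_inr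
    · rw [LinearEquiv.finrank_map_eq, LinearMap.finrank_range_of_inj LinearMap.inl_injective,
        Module.finrank_fin_fun]
    · rintro _ ⟨_, ⟨a, rfl⟩, rfl⟩
      refine ⟨(f₁ a, 0), ⟨f₁ a, rfl⟩, ?_⟩
      show e (f₁ a, 0) = f (e (a, 0))
      rw [hfe]; simp
    · rintro _ ⟨_, ⟨a, rfl⟩, rfl⟩
      refine ⟨(0, f₂ a), ⟨f₂ a, rfl⟩, ?_⟩
      show e (0, f₂ a) = f (e (0, a))
      rw [hfe]; simp

theorem HasParts.le_iff_pow_eq_zero {f : Module.End F V} {μ : Multiset ℕ} (h : HasParts f μ) (k : ℕ) :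
    f ^ k = 0 ↔ ∀ a ∈ μ, a ≤ k := by
  rw [← LinearMap.ker_eq_top]
  constructor
  · intro hk
    have h1 := h.2.2 k
    rw [hk, finrank_top, ← h.2.1] at h1
    have hind : ∀ s : Multiset ℕ, minSum s k ≤ s.sum ∧ (s.sum = minSum s k → ∀ a ∈ s, a ≤ k) := fun s => by
      induction s using Multiset.induction with
      | empty => simp [minSum]
      | cons b s ih =>
        simp only [minSum, Multiset.map_cons, Multiset.sum_cons, Multiset.mem_cons] at ih ⊢
        refine ⟨by omega, fun he a ha => ?_⟩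
        rcases ha with rfl | ha
        · omega
        · exact ih.2 (by omega) a ha
    exact (hind μ).2 h1
  · intro hk
    apply Submodule.eq_top_of_finrank_eq
    rw [h.2.2 k, minSum_of_le hk, h.2.1]

/-- Elements of order `p` fix a complementary pair iff every admissible partition splits. -/
theorem forall_unipotent_iff {p : ℕ} [Fact p.Prime] [CharP F p] {m : ℕ} (hm : m ≤ finrank F V)
    (hV : finrank F V ≠ 0) :
    (∀ y : Module.End F V, y ^ p = 1 → y ≠ 1 →
        ∃ U W : Submodule F V, IsCompl U W ∧ finrank F ↥U = m ∧ Inv y U ∧ Inv y W) ↔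
      ∀ μ : Multiset ℕ, (∀ a ∈ μ, 0 < a ∧ a ≤ p) → μ.sum = finrank F V → ∃ ν : Multiset ℕ, ν ≤ μ ∧ ν.sum = m := by
  haveI : Nontrivial V := Module.nontrivial_of_finrank_pos (Nat.pos_of_ne_zero hV)
  haveI : CharP (Module.End F V) p :=
    charP_of_injective_algebraMap (algebraMap F (Module.End F V)).injective p
  have hinv : ∀ (f : Module.End F V) (U : Submodule F V), Inv (1 + f) U ↔ Inv f U := fun f U =>
    forall₂_congr fun v hv => by
      rw [LinearMap.add_apply, Module.End.one_apply]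
      exact U.add_mem_iff_right hv
  constructor
  · intro h μ hμ hsum
    by_cases h1 : ∀ a ∈ μ, a = 1
    · have hrep : μ = Multiset.replicate (Multiset.card μ) 1 := Multiset.eq_replicate.2 ⟨rfl, h1⟩
      rw [hrep, Multiset.sum_replicate, smul_eq_mul, mul_one] at hsum
      refine ⟨Multiset.replicate m 1, ?_, by simp⟩
      rw [hrep, Multiset.le_iff_count]
      intro a
      rw [Multiset.count_replicate, Multiset.count_replicate]
      split_ifs <;> omega
    · obtain ⟨f, hf, hfμ⟩ := exists_end_of_parts (F := F) (V := V) μ (fun a ha => (hμ a ha).1) hsum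
      refine (exists_inv_compl_iff_subPartition hf hfμ m).1 ?_
      obtain ⟨U, W, hc, hd, hU, hW⟩ := h (1 + f) (by
        rw [add_pow_char_of_commute (R := Module.End F V) p (Commute.one_left f), one_pow,
          (hfμ.le_iff_pow_eq_zero p).2 (fun a ha => (hμ a ha).2), add_zero])
        (fun he => h1 fun a ha => by
          have h0 : f ^ 1 = 0 := by rw [pow_one]; exact left_eq_add.1 he.symm
          have := (hfμ.le_iff_pow_eq_zero 1).1 h0 a ha
          have := (hμ a ha).1
          omega)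
      exact ⟨U, W, hc, hd, (hinv f U).1 hU, (hinv f W).1 hW⟩
  · intro h y hy _
    have hp : (y - 1) ^ p = 0 := by
      rw [sub_pow_char_of_commute (R := Module.End F V) p (Commute.one_right y), hy, one_pow, sub_self]
    obtain ⟨μ, hμ⟩ := exists_hasParts (⟨p, hp⟩ : IsNilpotent (y - 1))
    obtain ⟨U, W, hc, hd, hU, hW⟩ := (exists_inv_compl_iff_subPartition ⟨p, hp⟩ hμ m).2
      (h μ (fun a ha => ⟨hμ.1 a ha, (hμ.le_iff_pow_eq_zero p).1 hp a ha⟩) hμ.2.1)
    rw [← hinv, add_sub_cancel] at hU hW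
    exact ⟨U, W, hc, hd, hU, hW⟩

theorem partitions_le_two_iff {n m : ℕ} (hm : m ≤ n) :
    (∀ μ : Multiset ℕ, (∀ a ∈ μ, 0 < a ∧ a ≤ 2) → μ.sum = n → ∃ ν : Multiset ℕ, ν ≤ μ ∧ ν.sum = m) ↔
      (Odd n ∨ Even m) := by
  constructor
  · intro h
    rcases Nat.even_or_odd n with ⟨k, hk⟩ | hn
    · refine Or.inr ?_
      obtain ⟨ν, hν, hs⟩ := h (Multiset.replicate k 2) (fun a ha => by
        rw [Multiset.eq_of_mem_replicate ha]; omega) (by rw [Multiset.sum_replicate, smul_eq_mul]; omega)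
      obtain ⟨j, -, rfl⟩ := Multiset.le_replicate_iff.1 hν
      rw [Multiset.sum_replicate, smul_eq_mul] at hs
      exact ⟨j, by omega⟩
    · exact Or.inl hn
  · intro h μ hμ hs
    have hdec : μ = Multiset.replicate (μ.count 2) 2 + Multiset.replicate (μ.count 1) 1 := by
      ext a
      rw [Multiset.count_add, Multiset.count_replicate, Multiset.count_replicate]
      by_cases ha : a ∈ μ
      · have := hμ a ha
        rcases (show a = 1 ∨ a = 2 by omega) with rfl | rfl <;> simp
      · rw [Multiset.count_eq_zero.2 ha]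
        split_ifs with h2 h1 <;> subst_vars <;> simp_all [Multiset.count_eq_zero.2 ha]
    generalize μ.count 2 = u at hdec
    generalize μ.count 1 = v at hdec
    subst hdec
    rw [Multiset.sum_add, Multiset.sum_replicate, Multiset.sum_replicate, smul_eq_mul, smul_eq_mul] at hs
    refine ⟨Multiset.replicate (min u (m / 2)) 2 + Multiset.replicate (m - 2 * min u (m / 2)) 1,
      add_le_add ((Multiset.replicate_le_replicate 2).2 (min_le_left _ _))
        ((Multiset.replicate_le_replicate 1).2 ?_), ?_⟩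
    · rcases h with ⟨k, hk⟩ | ⟨k, hk⟩ <;> omega
    · rw [Multiset.sum_add, Multiset.sum_replicate, Multiset.sum_replicate, smul_eq_mul, smul_eq_mul]
      omega

end Cfsg.Agent.Lib.Elusive
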