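import Mathlib
import Cfsg.Agent.Lib.Elusive.OrthSum

/-! A unipotent isometry splits the space orthogonally into cyclic pieces and pairs of cyclic pieces. -/

set_option autoImplicit false
set_option linter.style.haveILetI false
set_option linter.unusedSectionVars false

namespace Cfsg.Agent.Lib.Elusive

open Module Cfsg.Agent.Lib.Forms

variable {F : Type*} [Field F] {σ : F →+* F} {V : Type*} [AddCommGroup V] [Module F V]
  {B : V →ₛₗ[σ] V →ₗ[F] F} {ε : F} {y : Module.End F V}

/-- A piece: a non-degenerate invariant subspace of dimension `k * e` with `k ∈ {1, 2}` cyclic parts of length `e`. -/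
def IsPiece (B : V →ₛₗ[σ] V →ₗ[F] F) (y : Module.End F V) (P : Submodule F V) (e k : ℕ) : Prop :=
  1 ≤ e ∧ Nd B P ∧ Inv y P ∧ finrank F ↥P = k * e ∧ (∀ v ∈ P, ((y - 1) ^ e) v = 0) ∧
    ((k = 1 ∧ ∃ v ∈ P, B v (((y - 1) ^ (e - 1)) v) ≠ 0) ∨
      (k = 2 ∧ ∃ v ∈ P, ∃ w ∈ P, B v (((y - 1) ^ (e - 1)) w) ≠ 0 ∧
        ∀ l : F, B (v + l • w) (((y - 1) ^ (e - 1)) (v + l • w)) = 0))

variable [FiniteDimensional F V] (h : IsGoodForm B ε)
include h

omit [FiniteDimensional F V] in
/-- The Gram matrix of two Jordan chains is anti-triangular. -/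
theorem form_chain (hpres : ∀ u v, B (y u) (y v) = B u v) {S : Submodule F V} (hS : Inv y S) {e : ℕ}
    (hkill : ∀ v ∈ S, ((y - 1) ^ e) v = 0) :
    ∀ (a b : ℕ) (u v : V), u ∈ S → v ∈ S →
      (e ≤ a + b → B (((y - 1) ^ a) u) (((y - 1) ^ b) v) = 0) ∧
      (a + b + 1 = e → B (((y - 1) ^ a) u) (((y - 1) ^ b) v) = (-1) ^ a * B u (((y - 1) ^ (e - 1)) v)) := by
  have hN : Inv (y - 1) S := fun v hv => by
    rw [LinearMap.sub_apply, Module.End.one_apply]; exact S.sub_mem (hS v hv) hv
  intro a
  induction a with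
  | zero =>
    intro b u v _ hv
    refine ⟨fun hle => ?_, fun he => ?_⟩
    · obtain ⟨c, hc⟩ := Nat.exists_eq_add_of_le hle
      rw [zero_add] at hc
      rw [hc, add_comm e c, pow_add _ c e, Module.End.mul_apply, hkill v hv, map_zero, map_zero]
    · rw [pow_zero, Module.End.one_apply, pow_zero, one_mul, show b = e - 1 by omega]
  | succ a ih =>
    intro b u v hu hv
    have hadj : ∀ (x z : V), B ((y - 1) x) (y z) = -B x ((y - 1) z) := fun x z => by
      rw [LinearMap.sub_apply, LinearMap.sub_apply, Module.End.one_apply, Module.End.one_apply, map_sub,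
        LinearMap.sub_apply, hpres, map_sub]
      abel
    -- descending in `b`
    have key : ∀ n b, e ≤ b + n → e ≤ a + 1 + b + 1 →
        (e ≤ a + 1 + b → B (((y - 1) ^ (a + 1)) u) (((y - 1) ^ b) v) = 0) ∧
        (a + 1 + b + 1 = e →
          B (((y - 1) ^ (a + 1)) u) (((y - 1) ^ b) v) = (-1) ^ (a + 1) * B u (((y - 1) ^ (e - 1)) v)) := by
      intro n
      induction n with
      | zero =>
        intro b hb _
        obtain ⟨c, hc⟩ := Nat.exists_eq_add_of_le hb
        rw [add_zero] at hc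
        refine ⟨fun _ => ?_, fun he => by omega⟩
        rw [hc, add_comm e c, pow_add _ c e, Module.End.mul_apply, hkill v hv, map_zero, map_zero]
      | succ n ihn =>
        intro b hb hab
        have hy : y (((y - 1) ^ b) v) = ((y - 1) ^ b) v + ((y - 1) ^ (b + 1)) v := by
          rw [pow_succ' _ b, Module.End.mul_apply, LinearMap.sub_apply, Module.End.one_apply]
          abel
        have h1 := hadj (((y - 1) ^ a) u) (((y - 1) ^ b) v)
        rw [hy, map_add, ← Module.End.mul_apply, ← pow_succ', (ihn (b + 1) (by omega) (by omega)).1 (by omega),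
          add_zero, ← Module.End.mul_apply, ← pow_succ'] at h1
        refine ⟨fun hle => ?_, fun he => ?_⟩
        · rw [h1, (ih (b + 1) u v hu hv).1 (by omega), neg_zero]
        · rw [h1, (ih (b + 1) u v hu hv).2 (by omega), pow_succ]
          ring
    exact ⟨fun hle => (key e b (by omega) (by omega)).1 hle, fun he => (key e b (by omega) (by omega)).2 he⟩

/-- A piece inside a non-degenerate invariant subspace on which `y - 1` has index `e`. -/
theorem exists_piece (hpres : ∀ u v, B (y u) (y v) = B u v) {S : Submodule F V} (hS : Inv y S) (hnd : Nd B S) {e : ℕ}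
    (he : 1 ≤ e) (hkill : ∀ v ∈ S, ((y - 1) ^ e) v = 0) (hne : ∃ v ∈ S, ((y - 1) ^ (e - 1)) v ≠ 0) :
    ∃ (P : Submodule F V) (k : ℕ), P ≤ S ∧ IsPiece B y P e k := by
  classical
  set N := y - 1 with hN
  have hNS : Inv N S := fun v hv => by
    rw [hN, LinearMap.sub_apply, Module.End.one_apply]; exact S.sub_mem (hS v hv) hv
  have hpowS : ∀ j, Inv (N ^ j) S := fun j => inv_pow hNS j
  -- chains with invertible leading Gram matrix give pieces
  have main : ∀ {κ : Type} [Fintype κ] (v : κ → V), (∀ s, v s ∈ S) →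
      (∀ c : κ → F, (∀ s', ∑ s, σ (c s) * B (v s) ((N ^ (e - 1)) (v s')) = 0) → c = 0) →
      ∃ P, P ≤ S ∧ Nd B P ∧ Inv y P ∧ finrank F ↥P = Fintype.card κ * e ∧ ∀ s, v s ∈ P := by
    intro κ _ v hv hgram
    let φ : κ × Fin e → V := fun p => (N ^ (p.2 : ℕ)) (v p.1)
    have hzero : ∀ c : κ × Fin e → F, (∀ p', B (∑ p, c p • φ p) (φ p') = 0) → c = 0 := by
      intro c hc
      by_contra hne'
      obtain ⟨p₀, hp₀, hmin⟩ := Finset.exists_min_image (Finset.univ.filter fun p => c p ≠ 0) (fun p => (p.2 : ℕ)) (by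
        by_contra h0
        rw [Finset.not_nonempty_iff_eq_empty, Finset.filter_eq_empty_iff] at h0
        exact hne' (funext fun p => not_not.1 (h0 (Finset.mem_univ p))))
      have hp₀' := (Finset.mem_filter.1 hp₀).2
      have h0 : (fun s => c (s, p₀.2)) = 0 := hgram _ fun s' => by
        have h1 := hc (s', ⟨e - 1 - (p₀.2 : ℕ), by omega⟩)
        simp only [φ, map_sum, map_smulₛₗ, LinearMap.sum_apply, LinearMap.smul_apply, smul_eq_mul] at h1
        rw [Fintype.sum_prod_type] at h1
        simp only at h1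
        rw [Finset.sum_congr rfl (fun s _ => Finset.sum_eq_single p₀.2 (fun a _ ha => ?_)
          (fun hh => absurd (Finset.mem_univ _) hh))] at h1
        · have h2 : ∀ s, B ((N ^ (p₀.2 : ℕ)) (v s)) ((N ^ (e - 1 - (p₀.2 : ℕ))) (v s')) =
              (-1) ^ (p₀.2 : ℕ) * B (v s) ((N ^ (e - 1)) (v s')) := fun s =>
            (form_chain h hpres hS hkill _ _ _ _ (hv s) (hv s')).2 (by have := p₀.2.2; omega)
          simp only [h2, mul_left_comm (σ _) ((-1 : F) ^ (p₀.2 : ℕ))] at h1
          rw [← Finset.mul_sum] at h1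
          exact (mul_eq_zero.1 h1).resolve_left (pow_ne_zero _ (neg_ne_zero.2 one_ne_zero))
        · by_cases hlt : (a : ℕ) < p₀.2
          · have : c (s, a) = 0 := by
              by_contra hca
              have := hmin (s, a) (Finset.mem_filter.2 ⟨Finset.mem_univ _, hca⟩)
              simp only at this
              omega
            rw [this, map_zero, zero_mul]
          · rw [(form_chain h hpres hS hkill _ _ _ _ (hv s) (hv s')).1 (by
              have : (a : ℕ) ≠ p₀.2 := fun hh => ha (Fin.ext hh)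
              have := p₀.2.2
              omega), mul_zero]
      exact hp₀' (congrFun h0 p₀.1)
    have hli : LinearIndependent F φ := by
      rw [Fintype.linearIndependent_iff]
      intro c hc p
      exact congrFun (hzero c fun p' => by rw [hc, map_zero, LinearMap.zero_apply]) p
    refine ⟨Submodule.span F (Set.range φ), Submodule.span_le.2 ?_, ?_, ?_, ?_, fun s => ?_⟩
    · rintro _ ⟨p, rfl⟩; exact hpowS _ _ (hv _)
    · intro u hu hz
      obtain ⟨c, rfl⟩ := (Submodule.mem_span_range_iff_exists_fun F).1 hu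
      rw [hzero c fun p' => hz _ (Submodule.subset_span ⟨p', rfl⟩)]
      simp
    · intro u hu
      induction hu using Submodule.span_induction with
      | mem u hu =>
        obtain ⟨p, rfl⟩ := hu
        have h1 : y (φ p) = φ p + N (φ p) := by rw [hN, LinearMap.sub_apply, Module.End.one_apply]; abel
        rw [h1]
        refine Submodule.add_mem _ (Submodule.subset_span ⟨p, rfl⟩) ?_
        show N ((N ^ (p.2 : ℕ)) (v p.1)) ∈ _
        rw [← Module.End.mul_apply, ← pow_succ']
        by_cases hlt : (p.2 : ℕ) + 1 < e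
        · exact Submodule.subset_span ⟨(p.1, ⟨(p.2 : ℕ) + 1, hlt⟩), rfl⟩
        · rw [show (p.2 : ℕ) + 1 = e by have := p.2.2; omega, hkill _ (hv _)]
          exact Submodule.zero_mem _
      | zero => rw [map_zero]; exact Submodule.zero_mem _
      | add a b _ _ ha hb => rw [map_add]; exact Submodule.add_mem _ ha hb
      | smul c a _ ha => rw [map_smul]; exact Submodule.smul_mem _ c ha
    · rw [finrank_span_eq_card hli, Fintype.card_prod, Fintype.card_fin]
    · exact Submodule.subset_span ⟨(s, ⟨0, he⟩), rfl⟩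
  by_cases hA : ∃ v ∈ S, B v ((N ^ (e - 1)) v) ≠ 0
  · obtain ⟨v, hv, hvv⟩ := hA
    obtain ⟨P, hPS, hPn, hPi, hPd, hvP⟩ := main (κ := Fin 1) (fun _ => v) (fun _ => hv) fun c hc => funext fun s => by
      have h1 := hc s
      rw [Fin.sum_univ_one, mul_eq_zero] at h1
      rw [Subsingleton.elim s 0]
      exact (map_eq_zero σ).1 (h1.resolve_right hvv)
    exact ⟨P, 1, hPS, he, hPn, hPi, by rw [hPd, Fintype.card_fin], fun u hu => hkill u (hPS hu),
      Or.inl ⟨rfl, v, hvP 0, hvv⟩⟩
  · push Not at hA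
    obtain ⟨v₀, hv₀, hv₀0⟩ := hne
    obtain ⟨u₀, hu₀, hb⟩ := (nd_iff S).1 hnd _ (hpowS _ v₀ hv₀) hv₀0
    have hb' : B u₀ ((N ^ (e - 1)) v₀) ≠ 0 := fun hz => hb (h.eq_zero_symm hz)
    have hwv : B v₀ ((N ^ (e - 1)) u₀) ≠ 0 := by
      intro hz
      have h1 : B ((N ^ (e - 1)) v₀) u₀ = (-1) ^ (e - 1) * B v₀ ((N ^ (e - 1)) u₀) := by
        have := (form_chain h hpres hS hkill (e - 1) 0 v₀ u₀ hv₀ hu₀).2 (by omega)
        rwa [pow_zero, Module.End.one_apply] at this
      exact hb (by rw [h1, hz, mul_zero])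
    obtain ⟨P, hPS, hPn, hPi, hPd, hvP⟩ := main (κ := Fin 2) ![u₀, v₀]
      (fun s => by fin_cases s <;> assumption) fun c hc => funext fun s => by
        have h1 := hc 1
        have h2 := hc 0
        simp only [Fin.sum_univ_two, Matrix.cons_val_zero, Matrix.cons_val_one] at h1 h2
        rw [hA v₀ hv₀, mul_zero, add_zero, mul_eq_zero] at h1
        rw [hA u₀ hu₀, mul_zero, zero_add, mul_eq_zero] at h2
        fin_cases s
        · exact (map_eq_zero σ).1 (h1.resolve_right hb')
        · exact (map_eq_zero σ).1 (h2.resolve_right hwv)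
    refine ⟨P, 2, hPS, he, hPn, hPi, by rw [hPd, Fintype.card_fin], fun u hu => hkill u (hPS hu),
      Or.inr ⟨rfl, u₀, hvP 0, v₀, hvP 1, hb', fun l => hA _ (S.add_mem hu₀ (S.smul_mem l hv₀))⟩⟩

/-- The decomposition into pieces. -/
theorem exists_pieces (hpres : ∀ u v, B (y u) (y v) = B u v) {p : ℕ} :
    ∀ (S : Submodule F V), Inv y S → Nd B S → (∀ v ∈ S, ((y - 1) ^ p) v = 0) →
      ∃ (n : ℕ) (E : Fin n → Submodule F V) (e k : Fin n → ℕ),
        OrthFam B E ∧ (∀ i, E i ≤ S ∧ IsPiece B y (E i) (e i) (k i) ∧ e i ≤ p) ∧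
          ∑ i, k i * e i = finrank F ↥S := by
  classical
  intro S
  induction hd : finrank F ↥S using Nat.strong_induction_on generalizing S with
  | h d ih =>
    intro hS hnd hkill
    subst hd
    by_cases hb : S = ⊥
    · subst hb
      exact ⟨0, Fin.elim0, Fin.elim0, Fin.elim0, ⟨fun i => i.elim0, fun i => i.elim0⟩, fun i => i.elim0, by simp⟩
    obtain ⟨v₀, hv₀, hv₀0⟩ := Submodule.exists_mem_ne_zero_of_ne_bot hb
    have hex : ∃ e : ℕ, ∀ v ∈ S, ((y - 1) ^ e) v = 0 := ⟨p, hkill⟩
    set e₀ := Nat.find hex with he₀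
    have he₀s := Nat.find_spec hex
    have he1 : 1 ≤ e₀ := Nat.pos_of_ne_zero fun h0 => hv₀0 (by
      have := he₀s v₀ hv₀
      rw [← he₀, h0, pow_zero, Module.End.one_apply] at this
      exact this)
    have hne : ∃ v ∈ S, ((y - 1) ^ (e₀ - 1)) v ≠ 0 := by
      have := Nat.find_min hex (show e₀ - 1 < e₀ by omega)
      push Not at this
      exact this
    obtain ⟨P, k₀, hPS, hP⟩ := exists_piece h hpres hS hnd he1 he₀s hne
    obtain ⟨hT, -, -, hdim⟩ := split_nd h hP.2.1 hnd hPS
    have hPd := hP.2.2.2.1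
    have hk0 : 1 ≤ k₀ := by
      rcases hP.2.2.2.2.2 with ⟨e1, -⟩ | ⟨e1, -⟩ <;> omega
    have hpos : 1 ≤ k₀ * e₀ := Nat.mul_pos hk0 he1
    obtain ⟨n, E, e, k, hE, hEp, hsum⟩ := ih _ (by omega) (S ⊓ perp B P) rfl
      (inv_inf hS (perp_inv h hpres hP.2.2.1)) hT (fun v hv => hkill v hv.1)
    refine ⟨n + 1, Fin.cons P E, Fin.cons e₀ e, Fin.cons k₀ k, ⟨Fin.cases hP.2.1 hE.nd, fun i j hij a ha b hb => ?_⟩,
      Fin.cases ⟨hPS, hP, Nat.find_min' hex hkill⟩ fun i => ⟨(hEp i).1.trans inf_le_left, (hEp i).2⟩, ?_⟩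
    · induction i using Fin.cases with
      | zero =>
        induction j using Fin.cases with
        | zero => exact absurd rfl hij
        | succ j => exact ((hEp j).1 (show b ∈ E j by simpa using hb)).2 a (by simpa using ha)
      | succ i =>
        induction j using Fin.cases with
        | zero => exact h.eq_zero_symm (((hEp i).1 (show a ∈ E i by simpa using ha)).2 b (by simpa using hb))
        | succ j => exact hE.orth i j (fun e => hij (congrArg Fin.succ e)) a (by simpa using ha) b (by simpa using hb)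
    · rw [Fin.sum_univ_succ]
      simp only [Fin.cons_zero, Fin.cons_succ]
      rw [hsum, hdim, hPd]

omit h [FiniteDimensional F V] in
/-- The multiset of parts of a family of pieces. -/
def pieceParts {n : ℕ} (e k : Fin n → ℕ) (s : Finset (Fin n)) : Multiset ℕ :=
  ∑ i ∈ s, Multiset.replicate (k i) (e i)

omit h [FiniteDimensional F V] in
/-- A sub-multiset with the right parities is a union of pieces. -/
theorem exists_subset_pieces {n : ℕ} (e k : Fin n → ℕ) :
    ∀ (s : Finset (Fin n)) (ν : Multiset ℕ), (∀ i ∈ s, k i = 1 ∨ (k i = 2 ∧ Even (ν.count (e i)))) →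
      (∀ i ∈ s, ∀ j ∈ s, e i = e j → k i = k j) → ν ≤ pieceParts e k s →
      ∃ t ⊆ s, ∑ i ∈ t, k i * e i = ν.sum := by
  classical
  intro s
  induction s using Finset.induction with
  | empty =>
    intro ν _ _ hle
    refine ⟨∅, subset_rfl, ?_⟩
    simp only [pieceParts, Finset.sum_empty, Multiset.le_zero] at hle
    simp [hle]
  | insert i s hi ih =>
    intro ν hk hsame hle
    rw [pieceParts, Finset.sum_insert hi] at hle
    have hki := hk i (Finset.mem_insert_self i s)
    have hkrest : ∀ (ν' : Multiset ℕ), (∀ j ∈ s, e j ≠ e i → ν'.count (e j) = ν.count (e j)) →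
        (k i = 2 → Even (ν'.count (e i))) → ∀ j ∈ s, k j = 1 ∨ (k j = 2 ∧ Even (ν'.count (e j))) := by
      intro ν' h1 h2 j hj
      rcases hk j (Finset.mem_insert_of_mem hj) with h3 | ⟨h3, h4⟩
      · exact Or.inl h3
      · refine Or.inr ⟨h3, ?_⟩
        by_cases he : e j = e i
        · rw [he]
          exact h2 ((hsame i (Finset.mem_insert_self i s) j (Finset.mem_insert_of_mem hj) he.symm).trans h3)
        · rw [h1 j hj he]; exact h4
    have hsame' : ∀ a ∈ s, ∀ b ∈ s, e a = e b → k a = k b := fun a ha b hb =>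
      hsame a (Finset.mem_insert_of_mem ha) b (Finset.mem_insert_of_mem hb)
    by_cases hc : k i ≤ ν.count (e i)
    · obtain ⟨ν', rfl⟩ := Multiset.le_iff_exists_add.1 (Multiset.le_count_iff_replicate_le.1 hc)
      obtain ⟨t, hts, ht⟩ := ih ν' (hkrest ν' (fun j _ hje => by
        rw [Multiset.count_add, Multiset.count_replicate, if_neg (Ne.symm hje), zero_add]) fun h2 => by
          obtain ⟨a, ha⟩ := (hki.resolve_left (by omega)).2
          rw [Multiset.count_add, Multiset.count_replicate_self, h2] at ha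
          exact ⟨a - 1, by omega⟩) hsame' (le_of_add_le_add_left hle)
      refine ⟨insert i t, Finset.insert_subset_insert i hts, ?_⟩
      rw [Finset.sum_insert (fun h => hi (hts h)), ht, Multiset.sum_add, Multiset.sum_replicate, smul_eq_mul]
    · have hc0 : ν.count (e i) = 0 := by
        rcases hki with h2 | ⟨h2, a, ha⟩ <;> omega
      have hle' : ν ≤ pieceParts e k s := by
        rw [Multiset.le_iff_count]
        intro a
        have h1 := Multiset.le_iff_count.1 hle a
        rw [Multiset.count_add, Multiset.count_replicate] at h1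
        by_cases ha : e i = a
        · rw [← ha, hc0]; exact Nat.zero_le _
        · rwa [if_neg ha, zero_add] at h1
      obtain ⟨t, hts, ht⟩ := ih ν (hkrest ν (fun _ _ _ => rfl) fun _ => by rw [hc0]; exact ⟨0, rfl⟩) hsame' hle'
      exact ⟨t, hts.trans (Finset.subset_insert i s), ht⟩

omit h [FiniteDimensional F V] in
theorem sum_pieceParts {n : ℕ} (e k : Fin n → ℕ) (s : Finset (Fin n)) :
    (pieceParts e k s).sum = ∑ i ∈ s, k i * e i := by
  classical
  induction s using Finset.induction with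
  | empty => simp [pieceParts]
  | insert i s hi ih =>
    rw [pieceParts, Finset.sum_insert hi, Finset.sum_insert hi, Multiset.sum_add, Multiset.sum_replicate, smul_eq_mul,
      ← ih, pieceParts]

omit h [FiniteDimensional F V] in
theorem mem_pieceParts {n : ℕ} {e k : Fin n → ℕ} {s : Finset (Fin n)} {a : ℕ} (ha : a ∈ pieceParts e k s) :
    ∃ i ∈ s, e i = a := by
  obtain ⟨i, hi, hai⟩ := Multiset.mem_sum.1 ha
  exact ⟨i, hi, (Multiset.eq_of_mem_replicate hai).symm⟩

/-- A union of pieces is invariant, non-degenerate and of the expected dimension. -/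
theorem pieces_sup {n : ℕ} {E : Fin n → Submodule F V} {e k : Fin n → ℕ} (hE : OrthFam B E)
    (hp : ∀ i, IsPiece B y (E i) (e i) (k i)) (t : Finset (Fin n)) :
    Nd B (t.sup E) ∧ Inv y (t.sup E) ∧ finrank F ↥(t.sup E) = ∑ i ∈ t, k i * e i := by
  obtain ⟨h1, h2⟩ := hE.sup_data h t
  refine ⟨h1, (inv_iff_map_le _ _).2 (Submodule.map_le_iff_le_comap.2 (Finset.sup_le fun i hi => ?_)),
    h2.trans (Finset.sum_congr rfl fun i _ => (hp i).2.2.2.1)⟩
  exact Submodule.map_le_iff_le_comap.1 (((inv_iff_map_le _ _).1 (hp i).2.2.1).trans (Finset.le_sup (f := E) hi))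

end Cfsg.Agent.Lib.Elusive
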