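import Mathlib
import Cfsg.Agent.Lib.Elusive.SympCases
import Cfsg.Agent.Lib.Elusive.UnipotentPieces
import Cfsg.Agent.Lib.Elusive.Unipotent
import Cfsg.Agent.Lib.Similarity.SympUnipotent

/-! Invariant non-degenerate subspaces of symplectic involutions and unipotents; frames. -/

set_option autoImplicit false
set_option linter.style.haveILetI false
set_option linter.unusedSectionVars false

namespace Cfsg.Agent.Lib.Elusive

open Module Cfsg.Agent.Lib.Forms

section General

variable {F : Type*} [Field F] [Fintype F] {V : Type*} [AddCommGroup V] [Module F V] [FiniteDimensional F V]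
  {B : LinearMap.BilinForm F V} (hA : B.IsAlt) (h : IsGoodForm (σ := RingHom.id F) B (-1))
  {x : Module.End F V} {z : F}
include hA h

/-- Away from characteristic 2 a projective involution has invariant non-degenerate subspaces of every even dimension. -/
theorem exists_inv_nd_involution (h2 : (2 : F) ≠ 0) (hpres : ∀ u v, B (x u) (x v) = B u v)
    (hxx : ∀ v, x (x v) = z • v) (hz : z = 1 ∨ z = -1) :
    ∀ (j : ℕ) (S : Submodule F V), Inv x S → Nd (σ := RingHom.id F) B S → 2 * j ≤ finrank F ↥S →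
      ∃ W, W ≤ S ∧ Inv x W ∧ Nd (σ := RingHom.id F) B W ∧ finrank F ↥W = 2 * j := by
  intro j
  induction j with
  | zero => exact fun S _ _ _ => ⟨⊥, bot_le, inv_bot x, nd_bot, by simp⟩
  | succ j ih =>
    intro S hS hnd hle
    obtain ⟨v, hv, w, hw, hb, hpat⟩ := exists_adapted_pair hA h2 hpres hxx hz hS hnd (fun e => by
      rw [e, finrank_bot] at hle; omega)
    set P := Submodule.span F ({v, w} : Set V) with hP
    have hPS : P ≤ S := Submodule.span_le.2 (Set.insert_subset hv (Set.singleton_subset_iff.2 hw))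
    have hvP : v ∈ P := Submodule.subset_span (by simp)
    have hwP : w ∈ P := Submodule.subset_span (by simp)
    have hPn : Nd (σ := RingHom.id F) B P := nd_span_pair hA hb
    have hPd : finrank F ↥P = 2 := finrank_span_pair hA hb
    have hPi : Inv x P := by
      intro u hu
      obtain ⟨a, c, rfl⟩ := Submodule.mem_span_pair.1 hu
      rw [map_add, map_smul, map_smul]
      rcases hpat with ⟨-, ⟨a', ha⟩, ⟨c', hc⟩⟩ | ⟨-, ⟨a', ha⟩, ⟨c', hc⟩⟩ <;> rw [ha, hc]
      · exact P.add_mem (P.smul_mem a (P.smul_mem _ hvP)) (P.smul_mem c (P.smul_mem _ hwP))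
      · exact P.add_mem (P.smul_mem a (P.smul_mem _ hwP)) (P.smul_mem c (P.smul_mem _ hvP))
    obtain ⟨hT, -, -, hdim⟩ := split_nd h hPn hnd hPS
    obtain ⟨W, hWT, hW, hWn, hWd⟩ := ih _ (inv_inf hS (perp_inv h hpres hPi)) hT (by omega)
    refine ⟨P ⊔ W, sup_le hPS (hWT.trans inf_le_left), inv_sup hPi hW,
      nd_sup h hPn hWn (fun u hu t ht => (hWT ht).2 u hu), ?_⟩
    have h0 : P ⊓ W = ⊥ := le_bot_iff.1 ((inf_le_inf le_rfl (hWT.trans inf_le_right)).trans
      (isCompl_perp h hPn).inf_eq_bot.le)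
    have h1 := Submodule.finrank_sup_add_finrank_inf_eq P W
    rw [h0, finrank_bot, add_zero, hPd, hWd] at h1
    rw [h1]; ring

/-- A symplectic frame of a non-degenerate subspace, with the Gram matrix of the dimension. -/
theorem exists_nd_frame (k : ℕ) {W : Submodule F V} (hW : Nd (σ := RingHom.id F) B W)
    (hd : finrank F ↥W = 2 * k) :
    ∃ f : Fin k × Fin 2 → V, LinearIndependent F f ∧ (∀ a, f a ∈ W) ∧ Submodule.span F (Set.range f) = W ∧
      ∀ a b, B (f a) (f b) =
        if a.1 = b.1 then (if a.2 = b.2 then 0 else if a.2 = 0 then 1 else -1) else 0 := by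
  classical
  obtain ⟨n, E, hE, hET, hvw, -, hn⟩ := exists_planes hA h hW
  obtain rfl : n = k := by omega
  choose v hv w hw hb using hvw
  let f : Fin n × Fin 2 → V := fun a => ![v a.1, w a.1] a.2
  have hmem : ∀ a, f a ∈ E a.1 := fun ⟨j, s⟩ => by fin_cases s <;> simp [f, hv, hw]
  have hg : ∀ a b, B (f a) (f b) =
      if a.1 = b.1 then (if a.2 = b.2 then 0 else if a.2 = 0 then 1 else -1) else 0 := by
    rintro ⟨j, s⟩ ⟨j', s'⟩
    by_cases hj : j = j'
    · subst hj
      have hwv : B (w j) (v j) = -1 := by rw [← LinearMap.IsAlt.neg hA, hb]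
      fin_cases s <;> fin_cases s' <;> simp [f, hA.self_eq_zero, hb, hwv]
    · rw [if_neg hj]
      exact hE.orth _ _ hj _ (hmem (j, s)) _ (hmem (j', s'))
  have hli : LinearIndependent F f := by
    rw [Fintype.linearIndependent_iff]
    rintro c hc ⟨j, s⟩
    have hsum : ∀ b, ∑ a, c a * B (f a) (f b) = 0 := fun b => by
      have h1 := congrArg (fun u => B u (f b)) hc
      simpa [map_sum] using h1
    simp only [hg, mul_ite, mul_zero, Fintype.sum_prod_type, Fin.sum_univ_two] at hsum
    fin_cases s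
    · have h1 := hsum (j, 1)
      simpa [Finset.sum_ite_eq', Finset.sum_add_distrib] using h1
    · have h1 := hsum (j, 0)
      simpa [Finset.sum_ite_eq', Finset.sum_add_distrib] using h1
  refine ⟨f, hli, fun a => hET _ (hmem a), ?_, hg⟩
  refine Submodule.eq_of_le_of_finrank_eq (Submodule.span_le.2 ?_) ?_
  · rintro _ ⟨a, rfl⟩; exact hET _ (hmem a)
  · rw [finrank_span_eq_card hli, Fintype.card_prod, Fintype.card_fin, Fintype.card_fin, hd, mul_comm]

/-- An involution in characteristic 2: invariant planes and swapped pairs give invariant non-degenerate subspaces. -/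
theorem exists_inv_nd_pairs (hpres : ∀ u v, B (x u) (x v) = B u v) (hxx : ∀ v, x (x v) = z • v)
    (hz : z = 1 ∨ z = -1) {d j : ℕ} (hd : finrank F V = 2 * d) (hjd : j < d) (hpar : Odd d ∨ Even j) :
    ∃ W, Inv x W ∧ Nd (σ := RingHom.id F) B W ∧ finrank F ↥W = 2 * j := by
  classical
  obtain ⟨k, l, E, hE, hEd, -, hEl, hEr, hsum⟩ :=
    exists_planeDecomp hA h hpres hxx hz ⊤ (fun v _ => Submodule.mem_top) (nd_top h)
  rw [finrank_top, hd] at hsum
  have hb : j - 2 * min k (j / 2) ≤ l := by
    rcases hpar with ⟨o, ho⟩ | ⟨o, ho⟩ <;> omega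
  let s : Finset ((Fin k × Fin 2) ⊕ Fin l) :=
    ((Finset.univ.map (Fin.castLEEmb (min_le_left k (j / 2)))) ×ˢ (Finset.univ : Finset (Fin 2))).disjSum
      (Finset.univ.map (Fin.castLEEmb hb))
  obtain ⟨hsn, hsd⟩ := hE.sup_data h s
  refine ⟨s.sup E, ?_, hsn, ?_⟩
  · rw [inv_iff_map_le, Submodule.map_le_iff_le_comap]
    refine Finset.sup_le fun a ha => Submodule.map_le_iff_le_comap.1 ?_
    rcases Finset.mem_disjSum.1 ha with ⟨⟨i, t⟩, hit, rfl⟩ | ⟨i, -, rfl⟩
    · refine (hEl i t).trans (Finset.le_sup (f := E) (b := Sum.inl (i, t + 1)) ?_)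
      exact Finset.inl_mem_disjSum.2 (Finset.mem_product.2 ⟨(Finset.mem_product.1 hit).1, Finset.mem_univ _⟩)
    · exact (hEr i).trans (Finset.le_sup (f := E) ha)
  · rw [hsd, Finset.sum_congr rfl fun a _ => hEd a, Finset.sum_const, Finset.card_disjSum, Finset.card_product,
      Finset.card_map, Finset.card_map, Finset.card_univ, Finset.card_univ, Finset.card_univ, Fintype.card_fin,
      Fintype.card_fin, Fintype.card_fin, smul_eq_mul]
    have : 2 * min k (j / 2) ≤ j := by omega
    omega

/-- In the parts of a unipotent isometry the invariant non-degenerate subspaces give sub-multisets with even odd parts. -/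
theorem exists_even_subparts (hpres : ∀ u v, B (x u) (x v) = B u v) {N : ℕ} (hN : (x - 1) ^ N = 0) {W : Submodule F V}
    (hW : Inv x W) (hWn : Nd (σ := RingHom.id F) B W) {μ : Multiset ℕ} (hμ : HasParts (x - 1) μ) :
    ∃ ν : Multiset ℕ, ν ≤ μ ∧ ν.sum = finrank F ↥W ∧ ∀ a : ℕ, Odd a → Even (ν.count a) := by
  classical
  have hsub : ∀ {T : Submodule F V}, Inv x T → Inv (x - 1) T := fun {T} hT v hv => by
    rw [LinearMap.sub_apply, Module.End.one_apply]; exact T.sub_mem (hT v hv) hv
  have hnil : ∀ (T : Submodule F V) (hT : Inv (x - 1) T), IsNilpotent ((x - 1).restrict hT : Module.End F ↥T) :=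
    fun T hT => by
      refine ⟨N, LinearMap.ext fun w => Subtype.ext ?_⟩
      have h1 : ∀ (k : ℕ) (w : ↥T), ((((x - 1).restrict hT) ^ k) w : V) = ((x - 1) ^ k) (w : V) := fun k => by
        induction k with
        | zero => intro w; rfl
        | succ k ih => intro w; rw [pow_succ, pow_succ, Module.End.mul_apply, Module.End.mul_apply, ih]; rfl
      rw [h1, hN]; rfl
  have hW' : Inv x (perp (σ := RingHom.id F) B W) := perp_inv h hpres hW
  obtain ⟨ν, hν⟩ := exists_hasParts (hnil W (hsub hW))
  obtain ⟨ρ, hρ⟩ := exists_hasParts (hnil _ (hsub hW'))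
  have hc := isCompl_perp h hWn
  have h1 := (hν.prod hρ).conj (Submodule.prodEquivOfIsCompl W _ hc)
  have he : (Submodule.prodEquivOfIsCompl W _ hc).conj
      (((x - 1).restrict (hsub hW)).prodMap ((x - 1).restrict (hsub hW'))) = x - 1 := by
    refine LinearMap.ext fun v => ?_
    obtain ⟨⟨u, w⟩, rfl⟩ := (Submodule.prodEquivOfIsCompl W _ hc).surjective v
    rw [LinearEquiv.conj_apply_apply, LinearEquiv.symm_apply_apply, Submodule.coe_prodEquivOfIsCompl',
      Submodule.coe_prodEquivOfIsCompl', map_add]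
    rfl
  rw [he] at h1
  refine ⟨ν, by rw [hμ.unique h1]; exact Multiset.le_add_right _ _, hν.2.1, fun a ha => ?_⟩
  -- parity: ranks of even powers on `W`
  let g : Module.End F ↥W := x.restrict hW
  have hginj : Function.Injective g := fun u v huv =>
    Subtype.ext (h.injective_of_preserves hpres (congrArg Subtype.val huv))
  let g' : Module.End F ↥W := ((LinearEquiv.ofInjectiveEndo g hginj).symm : ↥W →ₗ[F] ↥W)
  have hgg : g * g' = 1 := LinearMap.ext fun u => (LinearEquiv.ofInjectiveEndo g hginj).apply_symm_apply u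
  have hg1 : g - 1 = (x - 1).restrict (hsub hW) := LinearMap.ext fun u => Subtype.ext rfl
  refine Cfsg.Agent.Lib.Similarity.even_count_odd_of_even_ranks (fun k => ?_) a ha
  have h2 := Cfsg.Agent.Lib.Similarity.even_finrank_range_even_pow (B.compl₁₂ W.subtype W.subtype)
    (fun v => hA.self_eq_zero _) (fun v hv => Subtype.ext (hWn v v.2 fun w hw =>
      h.eq_zero_symm (hv ⟨w, hw⟩))) g g' hgg (fun u v => hpres _ _) k
  have h3 := LinearMap.finrank_range_add_finrank_ker ((g - 1) ^ (2 * k))
  rw [hg1] at h2 h3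
  rw [hν.2.2, ← hν.2.1] at h3
  have h4 : ∀ s : Multiset ℕ, Cfsg.Agent.Lib.OrthUnipotent.tailRank s (2 * k) +
      Cfsg.Agent.Lib.KnownSimple.minSum s (2 * k) = s.sum := fun s => by
    rw [Cfsg.Agent.Lib.OrthUnipotent.tailRank, Cfsg.Agent.Lib.KnownSimple.minSum, ← Multiset.sum_map_add,
      Multiset.map_congr rfl (g := fun e => e) (fun e _ => by omega), Multiset.map_id']
  convert h2 using 1
  have := h4 ν
  omega

end General

end Cfsg.Agent.Lib.Elusive
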