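import Mathlib
import Cfsg.Agent.Lib.Elusive.SympCases

/-! Totally isotropic subspaces fixed by symplectic elements of prime order. -/

set_option autoImplicit false
set_option linter.style.haveILetI false
set_option linter.unusedSectionVars false

namespace Cfsg.Agent.Lib.Elusive

open Module Cfsg.Agent.Lib.Forms

section General

variable {F : Type*} [Field F] {V : Type*} [AddCommGroup V] [Module F V] [FiniteDimensional F V]
  {B : LinearMap.BilinForm F V} {y : Module.End F V} (hA : B.IsAlt) (h : IsGoodForm (σ := RingHom.id F) B (-1))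
include hA h

/-- An invariant totally isotropic subspace assembled from the fixed space and the moved part. -/
theorem exists_fixed_iso_of_parts [Fintype F] {r : ℕ} (hy : y ^ r = 1) (hpres : ∀ u v, B (y u) (y v) = B u v)
    (hrF : (r : F) ≠ 0) {m a e : ℕ} (ha : 2 * a ≤ finrank F ↥(fix1 y))
    (hU : ∃ U, U ≤ LinearMap.ker (avg y r) ∧ Inv y U ∧ Iso (σ := RingHom.id F) B U ∧ finrank F ↥U = e)
    (hm : a + e = m) :
    ∃ W : Submodule F V, finrank F ↥W = m ∧ Iso (σ := RingHom.id F) B W ∧ Inv y W := by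
  obtain ⟨hfn, -⟩ := nd_parts h hy hpres hrF (T := ⊤) (nd_top h) (fun v _ => Submodule.mem_top)
  rw [top_inf_eq] at hfn
  obtain ⟨A, hA1, hA2, hA3⟩ := exists_iso_sub hA h hfn (a := a) ha
  obtain ⟨U, hU1, hU2, hU3, hU4⟩ := hU
  refine ⟨A ⊔ U, ?_, iso_sup h hA2 hU3 (fun u hu w hw => fix1_perp_ker h hpres hrF (hA1 hu) (hU1 hw)),
    inv_sup (inv_of_le_fix1 hA1) hU2⟩
  have h0 : A ⊓ U = ⊥ := le_bot_iff.1 ((inf_le_inf hA1 hU1).trans (fix1_inf_ker_avg hrF).le)
  have h1 := Submodule.finrank_sup_add_finrank_inf_eq A U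
  rw [h0, finrank_bot, add_zero, hA3, hU4, hm] at h1
  exact h1

/-- An involution fixes totally isotropic subspaces of every admissible dimension. -/
theorem exists_fixed_iso_involution [Fintype F] (h2 : (2 : F) ≠ 0) (hy : y ^ 2 = 1)
    (hpres : ∀ u v, B (y u) (y v) = B u v) {m : ℕ} (hm : 2 * m ≤ finrank F V) :
    ∃ W : Submodule F V, finrank F ↥W = m ∧ Iso (σ := RingHom.id F) B W ∧ Inv y W := by
  haveI : Finite V := Module.finite_of_finite F
  have hrF : ((2 : ℕ) : F) ≠ 0 := by exact_mod_cast h2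
  obtain ⟨hfn, hRn⟩ := nd_parts h hy hpres hrF (T := ⊤) (nd_top h) (fun v _ => Submodule.mem_top)
  rw [top_inf_eq] at hfn hRn
  obtain ⟨n₁, -, -, -, -, -, h1⟩ := exists_planes hA h hfn
  obtain ⟨n₂, -, -, -, -, -, h2'⟩ := exists_planes hA h hRn
  have hsum := finrank_fix1_add hy hrF
  obtain ⟨U, hU1, hU2, hU3⟩ := exists_iso_sub hA h hRn (a := m - min m n₁) (by omega)
  refine exists_fixed_iso_of_parts hA h hy hpres hrF (a := min m n₁) (by omega)
    ⟨U, hU1, fun v hv => ?_, hU2, hU3⟩ (by omega)
  have h3 := LinearMap.mem_ker.1 (hU1 hv)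
  rw [avg_apply, smul_eq_zero] at h3
  have h4 := h3.resolve_left (inv_ne_zero hrF)
  rw [Finset.sum_range_succ, Finset.sum_range_succ, Finset.sum_range_zero, zero_add, pow_zero, pow_one] at h4
  have h5 : y v = -v := eq_neg_of_add_eq_zero_right h4
  rw [h5]; exact U.neg_mem hv

/-- If `-1` is a square, a square root of `-1` fixes Lagrangians and all their subspaces. -/
theorem exists_fixed_iso_split {x : Module.End F V} {ι : F} (h2 : (2 : F) ≠ 0) (hι : ι * ι = -1)
    (hpres : ∀ u v, B (x u) (x v) = B u v) (hxx : ∀ v, x (x v) = (-1 : F) • v) {m : ℕ}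
    (hm : 2 * m ≤ finrank F V) :
    ∃ W : Submodule F V, finrank F ↥W = m ∧ Iso (σ := RingHom.id F) B W ∧ Inv x W := by
  have hiso : ∀ l : F, l * l = -1 → Iso (σ := RingHom.id F) B (LinearMap.ker (x - l • 1)) := by
    intro l hl u hu v hv
    simp only [LinearMap.mem_ker, LinearMap.sub_apply, LinearMap.smul_apply, Module.End.one_apply, sub_eq_zero] at hu hv
    have h1 := hpres u v
    rw [hu, hv, map_smul, map_smul, LinearMap.smul_apply, smul_eq_mul, smul_eq_mul, ← mul_assoc, hl] at h1
    have h3 : (2 : F) * B u v = 0 := by linear_combination -h1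
    exact (mul_eq_zero.1 h3).resolve_left h2
  have hι0 : ι ≠ 0 := fun e => by rw [e, mul_zero] at hι; exact neg_ne_zero.2 one_ne_zero hι.symm
  have hsup : LinearMap.ker (x - ι • 1) ⊔ LinearMap.ker (x - (-ι) • 1) = ⊤ := by
    rw [eq_top_iff]
    intro v _
    have h2i : (2 : F) * ι ≠ 0 := mul_ne_zero h2 hι0
    have : v = ((2 * ι)⁻¹ • (x v + ι • v)) + ((2 * ι)⁻¹ • (ι • v - x v)) := by
      rw [← smul_add, show x v + ι • v + (ι • v - x v) = (2 * ι) • v by rw [two_mul, add_smul]; abel, smul_smul,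
        inv_mul_cancel₀ h2i, one_smul]
    rw [this]
    refine Submodule.add_mem_sup ?_ ?_ <;>
      simp only [LinearMap.mem_ker, LinearMap.sub_apply, LinearMap.smul_apply, Module.End.one_apply, map_smul,
        map_add, map_sub, hxx]
    · linear_combination (norm := module) (2 * ι)⁻¹ • congrArg (fun c => c • v) hι.symm
    · linear_combination (norm := module) (2 * ι)⁻¹ • congrArg (fun c => c • v) hι
  have hd := Submodule.finrank_add_le_finrank_add_finrank (LinearMap.ker (x - ι • 1)) (LinearMap.ker (x - (-ι) • 1))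
  rw [hsup, finrank_top] at hd
  have hle : m ≤ finrank F ↥(LinearMap.ker (x - ι • 1)) := by
    have hb := iso_finrank_le h (T := ⊤) (nd_top h) le_top (hiso (-ι) (by linear_combination hι))
    rw [finrank_top] at hb
    omega
  obtain ⟨f, hf⟩ := exists_linearIndependent_of_le_finrank (R := F) hle
  refine ⟨Submodule.span F (Set.range fun j => (f j : V)),
    (finrank_span_eq_card (hf.map' (Submodule.subtype _) (Submodule.ker_subtype _))).trans (Fintype.card_fin m),
    (hiso ι hι).mono (Submodule.span_le.2 (by rintro _ ⟨j, rfl⟩; exact (f j).2)), fun v hv => ?_⟩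
  have h3 := (Submodule.span_le.2 (by rintro _ ⟨j, rfl⟩; exact (f j).2) :
    Submodule.span F (Set.range fun j => (f j : V)) ≤ LinearMap.ker (x - ι • 1)) hv
  simp only [LinearMap.mem_ker, LinearMap.sub_apply, LinearMap.smul_apply, Module.End.one_apply, sub_eq_zero] at h3
  rw [h3]
  exact Submodule.smul_mem _ _ hv

/-- A square root of `-1` fixes totally isotropic subspaces of every even admissible dimension. -/
theorem exists_fixed_iso_even [Fintype F] (h2 : (2 : F) ≠ 0) {x : Module.End F V}
    (hpres : ∀ u v, B (x u) (x v) = B u v) (hxx : ∀ v, x (x v) = (-1 : F) • v) (hsq : ∀ l : F, l * l ≠ -1) :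
    ∀ (e : ℕ) (S : Submodule F V), Nd (σ := RingHom.id F) B S → Inv x S → 4 * e ≤ finrank F ↥S →
      ∃ W, W ≤ S ∧ finrank F ↥W = 2 * e ∧ Iso (σ := RingHom.id F) B W ∧ Inv x W := by
  intro e
  induction e with
  | zero => exact fun S _ _ _ => ⟨⊥, bot_le, by simp, iso_bot, inv_bot x⟩
  | succ e ih =>
    intro S hS hSi hd
    -- two orthogonal invariant planes
    have hstep : ∀ T : Submodule F V, Nd (σ := RingHom.id F) B T → Inv x T → 1 ≤ finrank F ↥T →
        ∃ v ∈ T, B v (x v) ≠ 0 := by
      intro T hT hTi hTd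
      obtain ⟨v, hv, w, hw, hb, hpat⟩ := exists_adapted_pair hA h2 hpres hxx (Or.inr rfl) hTi hT
        (fun hb => by rw [hb, finrank_bot] at hTd; omega)
      rcases hpat with ⟨h1, -⟩ | ⟨-, ⟨a, ha⟩, -⟩
      · exact absurd h1 fun e => h2 (by linear_combination -e)
      · refine ⟨v, hv, ?_⟩
        rw [ha, map_smul, smul_eq_mul]
        refine mul_ne_zero (fun h0 => ?_) hb
        rw [h0, zero_smul] at ha
        have := hxx v
        rw [ha, map_zero, neg_smul, one_smul] at this
        exact hb (by rw [neg_eq_zero.1 this.symm, map_zero, LinearMap.zero_apply])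
    have hplane : ∀ v, B v (x v) ≠ 0 → Inv x (Submodule.span F ({v, x v} : Set V)) := by
      intro v _ u hu
      obtain ⟨a, c, rfl⟩ := Submodule.mem_span_pair.1 hu
      rw [map_add, map_smul, map_smul, hxx]
      exact Submodule.add_mem _ (Submodule.smul_mem _ _ (Submodule.subset_span (by simp)))
        (Submodule.smul_mem _ _ (Submodule.smul_mem _ _ (Submodule.subset_span (by simp))))
    obtain ⟨v₁, hv₁, hb₁⟩ := hstep S hS hSi (by omega)
    set P₁ := Submodule.span F ({v₁, x v₁} : Set V) with hP₁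
    have hP₁n : Nd (σ := RingHom.id F) B P₁ := nd_span_pair hA hb₁
    have hP₁S : P₁ ≤ S := Submodule.span_le.2 (Set.insert_subset hv₁ (Set.singleton_subset_iff.2 (hSi v₁ hv₁)))
    obtain ⟨hT, -, -, hTd⟩ := split_nd h hP₁n hS hP₁S
    rw [finrank_span_pair hA hb₁] at hTd
    have hTi := inv_inf hSi (perp_inv h hpres (hplane v₁ hb₁))
    obtain ⟨v₂, hv₂, hb₂⟩ := hstep _ hT hTi (by omega)
    set P₂ := Submodule.span F ({v₂, x v₂} : Set V) with hP₂
    have hP₂n : Nd (σ := RingHom.id F) B P₂ := nd_span_pair hA hb₂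
    have hP₂T : P₂ ≤ S ⊓ perp (σ := RingHom.id F) B P₁ :=
      Submodule.span_le.2 (Set.insert_subset hv₂ (Set.singleton_subset_iff.2 (hTi v₂ hv₂)))
    have horth : ∀ a ∈ P₁, ∀ b ∈ P₂, B a b = 0 := fun a ha b hb => (hP₂T hb).2 a ha
    set Q := P₁ ⊔ P₂ with hQ
    have hQn : Nd (σ := RingHom.id F) B Q := nd_sup h hP₁n hP₂n horth
    have hQi : Inv x Q := inv_sup (hplane v₁ hb₁) (hplane v₂ hb₂)
    have hQS : Q ≤ S := sup_le hP₁S (hP₂T.trans inf_le_left)
    have hQd : finrank F ↥Q = 4 := by
      have h0 : P₁ ⊓ P₂ = ⊥ := by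
        rw [eq_bot_iff]
        rintro u ⟨hu, hu'⟩
        exact (Submodule.mem_bot F).2 (hP₁n u hu fun t ht => h.eq_zero_symm (horth t ht u hu'))
      have h1 := Submodule.finrank_sup_add_finrank_inf_eq P₁ P₂
      rw [h0, finrank_bot, add_zero, finrank_span_pair hA hb₁, finrank_span_pair hA hb₂] at h1
      exact h1
    obtain ⟨hU, -, -, hUd⟩ := split_nd h hQn hS hQS
    obtain ⟨W, hW, hWd, hWi, hWx⟩ := ih _ hU (inv_inf hSi (perp_inv h hpres hQi)) (by omega)
    -- an isotropic invariant plane
    obtain ⟨b, c, hbc⟩ : ∃ b c : F, B v₁ (x v₁) + (b * b + c * c) * B v₂ (x v₂) = 0 := by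
      set κ := -(B v₁ (x v₁)) / B v₂ (x v₂) with hκ
      obtain ⟨b, c, hbc⟩ := FiniteField.exists_root_sum_quadratic (R := F)
        (f := Polynomial.X ^ 2 - Polynomial.C κ) (g := Polynomial.X ^ 2)
        (Polynomial.degree_X_pow_sub_C (by norm_num) κ) (Polynomial.degree_X_pow 2)
        (FiniteField.odd_card_of_char_ne_two fun hc => h2 (by
          haveI : CharP F 2 := hc ▸ ringChar.charP F
          exact CharTwo.two_eq_zero))
      simp only [Polynomial.eval_sub, Polynomial.eval_pow, Polynomial.eval_X, Polynomial.eval_C] at hbc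
      refine ⟨b, c, ?_⟩
      rw [show b * b + c * c = κ by linear_combination hbc, hκ, div_mul_cancel₀ _ hb₂, add_neg_cancel]
    set u := v₁ + b • v₂ + c • x v₂ with hu
    have hxu : x u = x v₁ + b • x v₂ - c • v₂ := by
      rw [hu, map_add, map_add, map_smul, map_smul, hxx, neg_smul, one_smul, smul_neg, sub_eq_add_neg]
    have m1 : v₁ ∈ P₁ := Submodule.subset_span (by simp)
    have m1' : x v₁ ∈ P₁ := Submodule.subset_span (by simp)
    have m2 : v₂ ∈ P₂ := Submodule.subset_span (by simp)
    have m2' : x v₂ ∈ P₂ := Submodule.subset_span (by simp)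
    have huu : B u (x u) = 0 := by
      have hs : ∀ a b, B b a = -B a b := fun a b => (LinearMap.IsAlt.neg hA a b).symm
      rw [hxu, hu]
      simp only [map_add, map_sub, map_smul, LinearMap.add_apply, LinearMap.sub_apply, LinearMap.smul_apply,
        smul_eq_mul, hA.self_eq_zero, horth _ m1 _ m2, horth _ m1 _ m2', horth _ m1' _ m2, horth _ m1' _ m2',
        hs v₁ (x v₂), hs v₁ v₂, hs (x v₁) (x v₂), hs (x v₁) v₂, hs v₂ (x v₂)]
      linear_combination hbc
    set U := Submodule.span F ({u, x u} : Set V) with hUdef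
    have huQ : u ∈ Q := Submodule.add_mem _ (Submodule.add_mem _ (Submodule.mem_sup_left m1)
      (Submodule.smul_mem _ _ (Submodule.mem_sup_right m2))) (Submodule.smul_mem _ _ (Submodule.mem_sup_right m2'))
    have hUQ : U ≤ Q := Submodule.span_le.2 (Set.insert_subset huQ (Set.singleton_subset_iff.2 (hQi u huQ)))
    have hUd2 : finrank F ↥U = 2 := by
      have hu0 : u ≠ 0 := by
        intro h0
        have := congrArg (fun t => B t (x v₁)) h0
        simp only [hu, map_add, map_smul, LinearMap.add_apply, LinearMap.smul_apply, map_zero, LinearMap.zero_apply,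
          h.eq_zero_symm (horth _ m1' _ m2), h.eq_zero_symm (horth _ m1' _ m2'), smul_zero, add_zero] at this
        exact hb₁ this
      have hli : LinearIndependent F ![u, x u] := by
        rw [LinearIndependent.pair_iff' hu0]
        intro a ha
        have h1 := hxx u
        rw [← ha, map_smul, ← ha, smul_smul] at h1
        exact hsq a ((smul_left_injective F hu0) h1)
      have h1 := finrank_span_eq_card hli
      rw [Matrix.range_cons_cons_empty, Fintype.card_fin] at h1
      exact h1
    have hUi : Iso (σ := RingHom.id F) B U := by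
      intro a ha b' hb'
      obtain ⟨a₁, a₂, rfl⟩ := Submodule.mem_span_pair.1 ha
      obtain ⟨c₁, c₂, rfl⟩ := Submodule.mem_span_pair.1 hb'
      simp [hA.self_eq_zero, huu, h.eq_zero_symm huu]
    have hUx : Inv x U := fun a ha => by
      obtain ⟨a₁, a₂, rfl⟩ := Submodule.mem_span_pair.1 ha
      rw [map_add, map_smul, map_smul, hxx]
      exact Submodule.add_mem _ (Submodule.smul_mem _ _ (Submodule.subset_span (by simp)))
        (Submodule.smul_mem _ _ (Submodule.smul_mem _ _ (Submodule.subset_span (by simp))))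
    refine ⟨U ⊔ W, sup_le (hUQ.trans hQS) (hW.trans inf_le_left), ?_,
      iso_sup h hUi hWi (fun a ha b' hb' => (hW hb').2 a (hUQ ha)), inv_sup hUx hWx⟩
    have h0 : U ⊓ W = ⊥ := le_bot_iff.1 ((inf_le_inf hUQ (hW.trans inf_le_right)).trans
      (isCompl_perp h hQn).inf_eq_bot.le)
    have h1 := Submodule.finrank_sup_add_finrank_inf_eq U W
    rw [h0, finrank_bot, add_zero, hUd2, hWd] at h1
    omega

end General

end Cfsg.Agent.Lib.Elusive
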