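import Mathlib
import Cfsg.Prelude.Def_GeometricClasses
import Cfsg.Agent.Lib.Elusive.Unipotent

/-! Unipotent elements permuting a decomposition. -/

set_option autoImplicit false

namespace Cfsg.Agent.Lib.Elusive

open Module Cfsg.Agent.Lib.KnownSimple Polynomial

variable {F : Type*} [Field F] {n : ℕ} {p : ℕ} [Fact p.Prime] [CharP F p]

theorem pow_sub_one_eq_geomSum {V : Type*} [AddCommGroup V] [Module F V] (y : Module.End F V) :
    (y - 1) ^ (p - 1) = ∑ k ∈ Finset.range p, y ^ k := by
  have hp : p.Prime := Fact.out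
  have h : ((X : F[X]) - 1) ^ (p - 1) = ∑ k ∈ Finset.range p, (X : F[X]) ^ k := by
    refine mul_right_cancel₀ (by simpa using (monic_X_sub_C (1 : F)).ne_zero : (X : F[X]) - 1 ≠ 0) ?_
    rw [← pow_succ, Nat.sub_add_cancel hp.one_le, geom_sum_mul, sub_pow_char, one_pow]
  have := congrArg (Polynomial.aeval y) h
  simpa using this

/-- The key step: a moved summand forces `a` blocks of size `p`. -/
theorem le_count_of_moved {a t : ℕ} {D : Fin t → Submodule F (Fin n → F)} (hD : Cfsg.Geo.IsMDecomposition a D)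
    {y : Module.End F (Fin n → F)} (hy : y ^ p = 1) {σ : Equiv.Perm (Fin t)}
    (hσ : ∀ j, (D j).map y = D (σ j)) {μ : Multiset ℕ} (hμ : HasParts (y - 1) μ)
    (hle : ∀ b ∈ μ, b ≤ p) {j : Fin t} (hj : σ j ≠ j) : a ≤ μ.count p := by
  have hp : p.Prime := Fact.out
  have hne : ∀ i, D i ≠ ⊥ := fun i h => by
    have := hD.finrank_eq i
    rw [h, finrank_bot] at this
    have := hD.pos
    omega
  have hk : ∀ k i, (D i).map (y ^ k) = D ((σ ^ k) i) := by
    intro k
    induction k with
    | zero => intro i; simp [Module.End.one_eq_id]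
    | succ k ih =>
      intro i
      rw [pow_succ', pow_succ', Module.End.mul_eq_comp, Submodule.map_comp, ih, hσ, Equiv.Perm.mul_apply]
  have hper : ∀ k ∈ Finset.range p, k ≠ 0 → (σ ^ k) j ≠ j := by
    intro k hkp hk0 hkj
    have hpj : (σ ^ p) j = j := by
      refine hD.indep.injective hne ?_
      rw [← hk p j, hy, Module.End.one_eq_id, Submodule.map_id]
    have h1 : Function.IsPeriodicPt σ k j := by
      show σ^[k] j = j
      rw [← Equiv.Perm.coe_pow]; exact hkj
    have h2 : Function.IsPeriodicPt σ p j := by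
      show σ^[p] j = j
      rw [← Equiv.Perm.coe_pow]; exact hpj
    have h3 := h1.gcd h2
    have hc : Nat.gcd k p = 1 := Nat.Coprime.symm ((Nat.Prime.coprime_iff_not_dvd hp).2 fun hd => by
      have := Nat.le_of_dvd (Nat.pos_of_ne_zero hk0) hd
      rw [Finset.mem_range] at hkp
      omega)
    rw [hc] at h3
    exact hj h3
  have hinj : Function.Injective (((y - 1) ^ (p - 1)).comp (D j).subtype) := by
    rw [← LinearMap.ker_eq_bot, eq_bot_iff]
    intro v hv
    rw [LinearMap.mem_ker, LinearMap.comp_apply, pow_sub_one_eq_geomSum, LinearMap.sum_apply,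
      ← Finset.add_sum_erase _ _ (Finset.mem_range.2 hp.pos), pow_zero, Module.End.one_apply] at hv
    have h2 : ((D j).subtype v) ∈ ⨆ i ≠ j, D i := by
      rw [eq_neg_of_add_eq_zero_left hv]
      refine neg_mem (Submodule.sum_mem _ fun k hkr => ?_)
      obtain ⟨hk0, hkr⟩ := Finset.mem_erase.1 hkr
      refine Submodule.mem_iSup_of_mem ((σ ^ k) j) (Submodule.mem_iSup_of_mem (hper k hkr hk0) ?_)
      rw [← hk]
      exact Submodule.mem_map_of_mem v.2
    exact (Submodule.mem_bot F).2 (Subtype.ext (Submodule.disjoint_def.1 (hD.indep j) _ v.2 h2))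
  have hrange : a ≤ finrank F ↥(LinearMap.range ((y - 1) ^ (p - 1))) := by
    rw [← hD.finrank_eq j, ← LinearMap.finrank_range_of_inj hinj]
    exact Submodule.finrank_mono (LinearMap.range_comp_le_range _ _)
  have h1 := LinearMap.finrank_range_add_finrank_ker ((y - 1) ^ (p - 1))
  rw [hμ.2.2, ← hμ.2.1] at h1
  have h2 := minSum_succ μ (p - 1)
  rw [countP_lt_eq, Nat.sub_add_cancel hp.one_le, minSum_of_le hle] at h2
  have h3 : μ.countP (fun b => p < b) = 0 := Multiset.countP_eq_zero.2 fun b hb => not_lt.2 (hle b hb)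
  omega

/-- The necessary condition for elements of order `p`. -/
theorem exists_subPartition_of_forall {a t : ℕ} (hat : n = a * t) (ha : 1 ≤ a) (ht : 2 ≤ t)
    (h : ∀ y : Module.End F (Fin n → F), y ^ p = 1 → y ≠ 1 → ∃ D : Fin t → Submodule F (Fin n → F),
      Cfsg.Geo.IsMDecomposition a D ∧ ∃ σ : Equiv.Perm (Fin t), ∀ j, (D j).map y = D (σ j))
    (μ : Multiset ℕ) (hμ : ∀ b ∈ μ, 0 < b ∧ b ≤ p) (hsum : μ.sum = n) (hc : μ.count p < a) :
    ∃ ν : Multiset ℕ, ν ≤ μ ∧ ν.sum = a := by
  classical
  have han : a ≤ n := hat ▸ Nat.le_mul_of_pos_right a (by omega)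
  by_cases h1 : ∀ b ∈ μ, b = 1
  · have hrep : μ = Multiset.replicate (Multiset.card μ) 1 := Multiset.eq_replicate.2 ⟨rfl, h1⟩
    rw [hrep, Multiset.sum_replicate, smul_eq_mul, mul_one] at hsum
    refine ⟨Multiset.replicate a 1, ?_, by simp⟩
    rw [hrep]
    exact (Multiset.replicate_le_replicate 1).2 (by omega)
  · obtain ⟨f, hf, hfμ⟩ := exists_end_of_parts (F := F) (V := Fin n → F) μ (fun b hb => (hμ b hb).1)
      (hsum.trans (Module.finrank_fin_fun F).symm)
    haveI : NeZero n := ⟨by omega⟩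
    haveI : CharP (Module.End F (Fin n → F)) p :=
      charP_of_injective_algebraMap (algebraMap F (Module.End F (Fin n → F))).injective p
    have hy : (1 + f) ^ p = 1 := by
      rw [add_pow_char_of_commute (R := Module.End F (Fin n → F)) p (Commute.one_left f), one_pow,
        (hfμ.le_iff_pow_eq_zero p).2 (fun b hb => (hμ b hb).2), add_zero]
    obtain ⟨D, hD, σ, hσ⟩ := h (1 + f) hy (fun he => h1 fun b hb => by
      have h0 : f ^ 1 = 0 := by rw [pow_one]; exact left_eq_add.1 he.symm
      have := (hfμ.le_iff_pow_eq_zero 1).1 h0 b hb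
      have := (hμ b hb).1
      omega)
    have hfix : ∀ j, σ j = j := by
      intro j
      by_contra hj
      have := le_count_of_moved hD hy hσ (μ := μ) (by rwa [add_sub_cancel_left]) (fun b hb => (hμ b hb).2) hj
      omega
    have hinv : ∀ j, Inv f (D j) := fun j v hv => by
      have : (1 + f) v ∈ D j := by
        have h2 := hσ j
        rw [hfix] at h2
        exact h2.le ⟨v, hv, rfl⟩
      rw [LinearMap.add_apply, Module.End.one_apply] at this
      exact ((D j).add_mem_iff_right hv).1 this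
    let j₀ : Fin t := ⟨0, by omega⟩
    refine (exists_inv_compl_iff_subPartition hf hfμ a).1
      ⟨D j₀, ⨆ i ≠ j₀, D i, ⟨hD.indep j₀, codisjoint_iff.2 ?_⟩, hD.finrank_eq _, hinv _, ?_⟩
    · rw [eq_top_iff, ← hD.iSup_eq_top]
      refine iSup_le fun i => ?_
      by_cases hi : i = j₀
      · exact hi ▸ le_sup_left
      · exact le_sup_of_le_right (le_iSup₂ (f := fun i (_ : i ≠ j₀) => D i) i hi)
    · rw [inv_iff_map_le, Submodule.map_iSup]
      refine iSup_mono fun i => ?_
      rw [Submodule.map_iSup]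
      exact iSup_mono fun _ => (inv_iff_map_le _ _).1 (hinv i)

end Cfsg.Agent.Lib.Elusive
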